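import Mathlib
import Cfsg.Agent.Lib.helper1.QuadKill
import Cfsg.Agent.Lib.helper15.ZJ2
import Cfsg.Agent.S0065

/-!
# Stability from an abelian quotient (seat helper15)

If `G = K P` with `K` normal, `K` abelian of `q`-power exponent modulo the normal `p`-subgroup `Q₀`
(`q ≠ p`, `p` odd), then every element of `P` acting quadratically on a normal subgroup `B ≤ Q₀`
lies in `O_p` modulo `C_G(B)`.
-/

set_option autoImplicit false

namespace Cfsg.Agent.Lib.helper15

open Subgroup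
open scoped commutatorElement

universe u

theorem comm_of_conj_pow {G : Type*} [Group G] (x b c : G) (hc : x * b * x⁻¹ = c * b)
    (hxc : x * c = c * x) (m n : ℕ) (hm : x ^ m = 1) (hn : c ^ n = 1) (hmn : Nat.Coprime m n) :
    x * b = b * x := by
  have hxb : x * b = c * b * x := by rw [← hc]; group
  have hj : ∀ j : ℕ, x ^ j * b = c ^ j * b * x ^ j := by
    intro j
    induction j with
    | zero => simp
    | succ j ihj =>
      have hxcj : x * c ^ j = c ^ j * x := Commute.pow_right hxc j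
      calc x ^ (j + 1) * b = x * (x ^ j * b) := by rw [pow_succ', mul_assoc]
        _ = x * (c ^ j * b * x ^ j) := by rw [ihj]
        _ = (x * c ^ j) * b * x ^ j := by simp only [mul_assoc]
        _ = c ^ j * (x * b) * x ^ j := by rw [hxcj]; simp only [mul_assoc]
        _ = c ^ j * (c * b * x) * x ^ j := by rw [hxb]
        _ = c ^ (j + 1) * b * x ^ (j + 1) := by
          rw [pow_succ c j, pow_succ' x j]; simp only [mul_assoc]
  have h2 := hj m
  rw [hm, one_mul, mul_one] at h2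
  have hcm : c ^ m = 1 := by
    have : c ^ m * b = 1 * b := by rw [one_mul]; exact h2.symm
    exact mul_right_cancel this
  have hc1 : c = 1 := Cfsg.Agent.Lib.helper1.eq_one_of_pow_coprime c m n hcm hn hmn
  rw [hxb, hc1, one_mul]

/-- A `p`-element acting quadratically on a normal abelian `p`-subgroup `V` centralizes, modulo
`C_G(V)`, every normal subgroup that is an abelian `q`-group modulo `C_G(V)`. -/
theorem quad_centralizes {G : Type*} [Group G] [Finite G] {p : ℕ} [Fact p.Prime] (hp2 : p ≠ 2)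
    (V : Subgroup G) [hVn : V.Normal] (hVp : IsPGroup p V)
    (hVcomm : ∀ x ∈ V, ∀ y ∈ V, x * y = y * x)
    (K : Subgroup G) [hKn : K.Normal]
    (hKc : ∀ x ∈ K, ∀ y ∈ K, x * y * x⁻¹ * y⁻¹ ∈ centralizer (V : Set G))
    (q : ℕ) (hq : q.Prime) (hqp : q ≠ p)
    (hKq : ∀ k ∈ K, ∃ n : ℕ, k ^ q ^ n ∈ centralizer (V : Set G))
    (x : G) (e : ℕ) (hx : x ^ p ^ e = 1) (hquad : ∀ v ∈ V, ⁅⁅v, x⁆, x⁆ = 1) :
    ∀ k ∈ K, ⁅k, x⁆ ∈ centralizer (V : Set G) := by
  have hp : p.Prime := Fact.out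
  let ρ : G →* MulAut V := MulAut.conjNormal
  have hρ : ∀ (g : G) (v : V), ((ρ g v : V) : G) = g * v * g⁻¹ :=
    fun g v => MulAut.conjNormal_apply g v
  have hρker : ∀ g : G, ρ g = 1 ↔ g ∈ centralizer (V : Set G) := by
    intro g
    constructor
    · intro h
      rw [Subgroup.mem_centralizer_iff]
      intro v hv
      have h1 := hρ g ⟨v, hv⟩
      rw [h] at h1
      have h2 : v = g * v * g⁻¹ := h1
      calc v * g = g * v * g⁻¹ * g := by rw [← h2]
        _ = g * v := by group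
    · intro h
      ext v
      rw [hρ]
      have := Subgroup.mem_centralizer_iff.mp h v v.2
      show g * (v : G) * g⁻¹ = v
      rw [← this]; group
  set 𝔎 : Subgroup (MulAut V) := K.map ρ with h𝔎
  have h𝔎comm : ∀ a ∈ 𝔎, ∀ b ∈ 𝔎, a * b = b * a := by
    rintro _ ⟨a, ha, rfl⟩ _ ⟨b, hb, rfl⟩
    have h1 : ρ a * ρ b * (ρ a)⁻¹ * (ρ b)⁻¹ = 1 := by
      rw [← map_inv, ← map_inv, ← map_mul, ← map_mul, ← map_mul]
      exact (hρker _).mpr (hKc a ha b hb)
    calc ρ a * ρ b = (ρ a * ρ b * (ρ a)⁻¹ * (ρ b)⁻¹) * (ρ b * ρ a) := by group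
      _ = ρ b * ρ a := by rw [h1, one_mul]
  haveI : Fact q.Prime := ⟨hq⟩
  have h𝔎q : IsPGroup q 𝔎 := by
    rintro ⟨_, k, hk, rfl⟩
    obtain ⟨n, hn⟩ := hKq k hk
    refine ⟨n, Subtype.ext ?_⟩
    show (ρ k) ^ q ^ n = 1
    rw [← map_pow]
    exact (hρker _).mpr hn
  have h𝔎cop : Nat.Coprime (Nat.card 𝔎) p := by
    obtain ⟨m, hm⟩ := IsPGroup.iff_card.mp h𝔎q
    rw [hm]
    exact Nat.Coprime.pow_left m ((Nat.coprime_primes hq hp).mpr hqp)
  have hnorm : ∀ k ∈ 𝔎, (ρ x)⁻¹ * k * ρ x ∈ 𝔎 := by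
    rintro _ ⟨k, hk, rfl⟩
    refine ⟨x⁻¹ * k * x, ?_, by simp [map_mul]⟩
    have := hKn.conj_mem k hk x⁻¹
    simpa using this
  have hquad' : ∀ v : V, ρ x (ρ x v) * v = ρ x v * ρ x v := by
    intro v
    apply Subtype.ext
    simp only [Subgroup.coe_mul, hρ]
    set t := (v : G) * x * (v : G)⁻¹ * x⁻¹ with ht
    have htx : t * x = x * t := by
      have h := hquad v v.2
      rw [commutatorElement_eq_one_iff_mul_comm, commutatorElement_def] at h
      exact h
    have htV : t ∈ V := by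
      have h1 : x * (v : G)⁻¹ * x⁻¹ ∈ V := hVn.conj_mem _ (V.inv_mem v.2) x
      have : t = (v : G) * (x * (v : G)⁻¹ * x⁻¹) := by rw [ht]; group
      rw [this]; exact V.mul_mem v.2 h1
    have hvt : (v : G) * t⁻¹ = t⁻¹ * v := hVcomm _ v.2 _ (V.inv_mem htV)
    have hxt : x * t⁻¹ = t⁻¹ * x := by
      calc x * t⁻¹ = t⁻¹ * (t * x) * t⁻¹ := by group
        _ = t⁻¹ * (x * t) * t⁻¹ := by rw [htx]
        _ = t⁻¹ * x := by group
    have e1 : x * (v : G) * x⁻¹ = t⁻¹ * v := by rw [ht]; group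
    have e2 : x * (t⁻¹ * (v : G)) * x⁻¹ = t⁻¹ * (x * v * x⁻¹) := by
      calc x * (t⁻¹ * (v : G)) * x⁻¹ = (x * t⁻¹) * v * x⁻¹ := by group
        _ = (t⁻¹ * x) * v * x⁻¹ := by rw [hxt]
        _ = t⁻¹ * (x * v * x⁻¹) := by group
    rw [e1, e2, e1]
    calc t⁻¹ * (t⁻¹ * (v : G)) * v = t⁻¹ * (t⁻¹ * v) * v := rfl
      _ = t⁻¹ * ((v : G) * t⁻¹) * v := by rw [hvt]
      _ = t⁻¹ * v * (t⁻¹ * v) := by group
  have hξ : (ρ x) ^ p ^ e = 1 := by rw [← map_pow, hx, map_one]
  have hcommξ := Cfsg.Agent.Lib.helper1.quad_kill (fun a b => Subtype.ext (hVcomm _ a.2 _ b.2)) hp2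
    hVp 𝔎 h𝔎comm h𝔎cop (ρ x) hnorm hquad' e hξ
  intro k hk
  rw [← hρker, commutatorElement_def]
  have h1 := hcommξ (ρ k) ⟨k, hk, rfl⟩
  simp only [map_mul, map_inv]
  rw [← h1]; group

/-- `g` lies in a normal subgroup all of whose `p'`-elements centralize `B`. -/
def ActsP (p : ℕ) {G : Type*} [Group G] (B : Subgroup G) (g : G) : Prop :=
  ∃ M : Subgroup G, M.Normal ∧ g ∈ M ∧
    ∀ x ∈ M, (orderOf x).Coprime p → x ∈ centralizer (B : Set G)

theorem quad_acts {p : ℕ} [Fact p.Prime] (hp2 : p ≠ 2) (q : ℕ) (hq : q.Prime) (hqp : q ≠ p) :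
    ∀ n : ℕ, ∀ (G : Type u) [Group G] [Finite G] (B Q₀ K : Subgroup G) (a : G) (e : ℕ),
      Nat.card B = n → B.Normal → Q₀.Normal → K.Normal → IsPGroup p Q₀ → B ≤ Q₀ →
      (∀ x ∈ K, ∀ y ∈ K, x * y * x⁻¹ * y⁻¹ ∈ Q₀) →
      (∀ k ∈ K, ∃ n : ℕ, k ^ q ^ n ∈ Q₀) →
      a ^ p ^ e = 1 → (∀ b ∈ B, ⁅⁅b, a⁆, a⁆ = 1) →
      ∀ k ∈ K, ActsP p B ⁅k, a⁆ := by
  have hp : p.Prime := Fact.out
  intro n
  induction n using Nat.strong_induction_on with
  | _ n ih =>
    intro G _ _ B Q₀ K a e hn hBn hQn hKn hQp hBQ hKc hKq ha hquad k hk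
    haveI := hBn; haveI := hQn; haveI := hKn
    by_cases hB1 : B = ⊥
    · refine ⟨⊤, inferInstance, mem_top _, ?_⟩
      intro x _ _
      rw [hB1, mem_centralizer_iff]
      intro b hb
      have : b = 1 := by simpa using hb
      rw [this]; simp
    have hZcomm : ∀ x ∈ B ⊓ centralizer (Q₀ : Set G), ∀ y ∈ B ⊓ centralizer (Q₀ : Set G),
        x * y = y * x := by
      intro x hx y hy
      exact (mem_centralizer_iff.mp hx.2 y (hBQ hy.1)).symm
    let V : Subgroup G :=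
      { carrier := {b | b ∈ B ⊓ centralizer (Q₀ : Set G) ∧ b ^ p = 1}
        one_mem' := ⟨one_mem _, one_pow _⟩
        mul_mem' := by
          rintro x y ⟨hx, hxp⟩ ⟨hy, hyp⟩
          refine ⟨mul_mem hx hy, ?_⟩
          have hc : Commute x y := hZcomm x hx y hy
          rw [hc.mul_pow, hxp, hyp, one_mul]
        inv_mem' := by
          rintro x ⟨hx, hxp⟩
          exact ⟨inv_mem hx, by rw [inv_pow, hxp, inv_one]⟩ }
    have hVmem : ∀ b, b ∈ V ↔ (b ∈ B ⊓ centralizer (Q₀ : Set G) ∧ b ^ p = 1) := fun b => Iff.rfl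
    haveI hVn : V.Normal := by
      constructor
      intro v hv g
      rw [hVmem] at hv ⊢
      refine ⟨?_, ?_⟩
      · exact (inferInstance : (B ⊓ centralizer (Q₀ : Set G)).Normal).conj_mem v hv.1 g
      · rw [conj_pow, hv.2]; group
    have hVB : V ≤ B := fun v hv => ((hVmem v).mp hv).1.1
    have hVQ : V ≤ Q₀ := hVB.trans hBQ
    have hVcomm : ∀ x ∈ V, ∀ y ∈ V, x * y = y * x := fun x hx y hy =>
      hZcomm x ((hVmem x).mp hx).1 y ((hVmem y).mp hy).1
    have hQV : Q₀ ≤ centralizer (V : Set G) := by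
      intro g hg
      rw [mem_centralizer_iff]
      intro v hv
      exact (mem_centralizer_iff.mp ((hVmem v).mp hv).1.2 g hg).symm
    have hV1 : V ≠ ⊥ := by
      haveI : Group.IsNilpotent Q₀ := hQp.isNilpotent
      have hN : (B.subgroupOf Q₀) ≠ ⊥ := by
        intro h
        apply hB1
        rw [Subgroup.subgroupOf_eq_bot] at h
        have := h.eq_bot
        rwa [inf_eq_left.mpr hBQ] at this
      have h1 := Cfsg.Agent.S0065.normal_inf_center_ne_bot (B.subgroupOf Q₀) hN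
      obtain ⟨z, hz1⟩ := Subgroup.ne_bot_iff_exists_ne_one.mp h1
      have hzB : ((z : Q₀) : G) ∈ B := Subgroup.mem_subgroupOf.mp z.2.1
      have hzC : ((z : Q₀) : G) ∈ centralizer (Q₀ : Set G) := by
        rw [mem_centralizer_iff]
        intro h hh
        have := Subgroup.mem_center_iff.mp z.2.2 ⟨h, hh⟩
        exact congrArg Subtype.val this
      have hz0 : ((z : Q₀) : G) ≠ 1 := by
        intro h
        apply hz1
        apply Subtype.ext
        apply Subtype.ext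
        simpa using h
      obtain ⟨k₁, hk₁⟩ := hQp (z : Q₀)
      have hk₁' : ((z : Q₀) : G) ^ p ^ k₁ = 1 := by simpa using congrArg Subtype.val hk₁
      classical
      have hex : ∃ k, ((z : Q₀) : G) ^ p ^ k = 1 := ⟨k₁, hk₁'⟩
      have hk₀ : ((z : Q₀) : G) ^ p ^ Nat.find hex = 1 := Nat.find_spec hex
      have hk₀pos : Nat.find hex ≠ 0 := by
        intro h0
        rw [h0, pow_zero, pow_one] at hk₀
        exact hz0 hk₀
      obtain ⟨j, hj⟩ := Nat.exists_eq_succ_of_ne_zero hk₀pos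
      have hw1 : ¬ ((z : Q₀) : G) ^ p ^ j = 1 := Nat.find_min hex (by omega)
      have hwV : ((z : Q₀) : G) ^ p ^ j ∈ V := by
        rw [hVmem]
        refine ⟨(B ⊓ centralizer (Q₀ : Set G)).pow_mem ⟨hzB, hzC⟩ _, ?_⟩
        rw [← pow_mul, ← pow_succ, ← Nat.succ_eq_add_one, ← hj]; exact hk₀
      intro hVbot
      rw [hVbot, mem_bot] at hwV
      exact hw1 hwV
    have hstep1 : ∀ k ∈ K, ⁅k, a⁆ ∈ centralizer (V : Set G) :=
      quad_centralizes hp2 V (hQp.to_le hVQ) hVcomm K (fun x hx y hy => hQV (hKc x hx y hy)) q hq hqp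
        (fun k hk => by obtain ⟨n, hn⟩ := hKq k hk; exact ⟨n, hQV hn⟩) a e ha
        (fun v hv => hquad v (hVB hv))
    have hπ : Function.Surjective (QuotientGroup.mk' V) := QuotientGroup.mk'_surjective V
    have hker : (QuotientGroup.mk' V).ker = V := QuotientGroup.ker_mk' V
    have hcard : Nat.card (B.map (QuotientGroup.mk' V)) < n := by
      have h1 := Cfsg.Agent.Lib.helper1.card_eq_inf_ker_mul_map (QuotientGroup.mk' V) B
      rw [hker, inf_eq_right.mpr hVB, hn] at h1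
      have h2 : 1 < Nat.card V := (Subgroup.one_lt_card_iff_ne_bot V).mpr hV1
      have h3 : 0 < Nat.card (B.map (QuotientGroup.mk' V)) := Nat.card_pos
      rw [h1]; nlinarith
    have hc1 : ∀ x ∈ K.map (QuotientGroup.mk' V), ∀ y ∈ K.map (QuotientGroup.mk' V),
        x * y * x⁻¹ * y⁻¹ ∈ Q₀.map (QuotientGroup.mk' V) := by
      rintro _ ⟨x, hx, rfl⟩ _ ⟨y, hy, rfl⟩
      exact ⟨x * y * x⁻¹ * y⁻¹, hKc x hx y hy, by simp⟩
    have hc2 : ∀ k ∈ K.map (QuotientGroup.mk' V), ∃ n : ℕ,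
        k ^ q ^ n ∈ Q₀.map (QuotientGroup.mk' V) := by
      rintro _ ⟨k, hk, rfl⟩
      obtain ⟨m, hm⟩ := hKq k hk
      exact ⟨m, ⟨k ^ q ^ m, hm, by simp⟩⟩
    have hc3 : (QuotientGroup.mk' V a) ^ p ^ e = 1 := by rw [← map_pow, ha, map_one]
    have hc4 : ∀ b ∈ B.map (QuotientGroup.mk' V), ⁅⁅b, QuotientGroup.mk' V a⁆, QuotientGroup.mk' V a⁆ = 1 := by
      rintro _ ⟨b, hb, rfl⟩
      rw [← map_commutatorElement, ← map_commutatorElement, hquad b hb, map_one]
    have hIH := ih _ hcard (G ⧸ V) (B.map (QuotientGroup.mk' V)) (Q₀.map (QuotientGroup.mk' V))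
      (K.map (QuotientGroup.mk' V)) (QuotientGroup.mk' V a) e rfl (hBn.map _ hπ) (hQn.map _ hπ)
      (hKn.map _ hπ) (hQp.map _) (Subgroup.map_mono hBQ) hc1 hc2 hc3 hc4
      (QuotientGroup.mk' V k) (mem_map_of_mem _ hk)
    obtain ⟨M', hM'n, hmem, hM'⟩ := hIH
    haveI := hM'n
    refine ⟨M'.comap (QuotientGroup.mk' V) ⊓ centralizer (V : Set G), inferInstance,
      ⟨?_, hstep1 k hk⟩, ?_⟩
    · show QuotientGroup.mk' V ⁅k, a⁆ ∈ M'
      rw [map_commutatorElement]; exact hmem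
    · intro x hx hcop
      rw [mem_centralizer_iff]
      intro b hb
      have hx1 : QuotientGroup.mk' V x ∈ centralizer ((B.map (QuotientGroup.mk' V) : Subgroup (G ⧸ V)) : Set (G ⧸ V)) :=
        hM' _ hx.1 (Nat.Coprime.coprime_dvd_left (orderOf_map_dvd _ x) hcop)
      have hc : x * b * x⁻¹ * b⁻¹ ∈ V := by
        rw [← hker, MonoidHom.mem_ker]
        have h3 := mem_centralizer_iff.mp hx1 (QuotientGroup.mk' V b) (mem_map_of_mem _ hb)
        simp only [map_mul, map_inv]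
        rw [← h3]; group
      have hxc : x * (x * b * x⁻¹ * b⁻¹) = (x * b * x⁻¹ * b⁻¹) * x :=
        (mem_centralizer_iff.mp hx.2 _ hc).symm
      have h4 := comm_of_conj_pow x b (x * b * x⁻¹ * b⁻¹) (by group) hxc (orderOf x) p
        (pow_orderOf_eq_one x) ((hVmem _).mp hc).2 hcop
      exact h4.symm

/-- Stability on the normal subgroups inside `Q₀` when `G = K₁ P` and `K₁` is an abelian
`q`-group modulo the normal `p`-subgroup `Q₀`. -/
theorem zstabOn_of_quad {G : Type u} [Group G] [Finite G] {p : ℕ} [Fact p.Prime] (hp2 : p ≠ 2)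
    (P : Sylow p G) (Q₀ K₁ : Subgroup G) [hQn : Q₀.Normal] [hKn : K₁.Normal] (hQp : IsPGroup p Q₀)
    (hKc : ∀ x ∈ K₁, ∀ y ∈ K₁, x * y * x⁻¹ * y⁻¹ ∈ Q₀)
    (q : ℕ) (hq : q.Prime) (hqp : q ≠ p) (hKq : ∀ k ∈ K₁, ∃ n : ℕ, k ^ q ^ n ∈ Q₀)
    (hsup : K₁ ⊔ (P : Subgroup G) = ⊤) : ZStabOn p (P : Subgroup G) Q₀ := by
  have hp : p.Prime := Fact.out
  intro B hBn hBQ
  haveI := hBn
  obtain ⟨C, hC⟩ : ∃ C : Subgroup G, C = centralizer (B : Set G) := ⟨_, rfl⟩
  haveI hCn : C.Normal := by rw [hC]; infer_instance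
  have hπ : Function.Surjective (QuotientGroup.mk' C) := QuotientGroup.mk'_surjective C
  have hker : (QuotientGroup.mk' C).ker = C := QuotientGroup.ker_mk' C
  haveI hcn := pCore_normal p (G ⧸ C)
  rw [← hC]
  refine ⟨(Cfsg.pCore p (G ⧸ C)).comap (QuotientGroup.mk' C), inferInstance, ?_, ?_, ?_⟩
  · intro c hc
    rw [mem_comap]
    have : QuotientGroup.mk' C c = 1 := by rw [← MonoidHom.mem_ker, hker]; exact hc
    rw [this]; exact one_mem _
  · have := relIndex_ker_comap_pCore (p := p) (QuotientGroup.mk' C)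
    rwa [hker] at this
  · intro a haP hquad
    rw [mem_comap]
    have hTp : IsPGroup p ↥(Cfsg.pCore p (G ⧸ C) ⊔ (P : Subgroup G).map (QuotientGroup.mk' C)) :=
      IsPGroup.to_sup_of_normal_left (pCore_isPGroup p (G ⧸ C)) (P.2.map _)
    have hconj : ∀ g : G, QuotientGroup.mk' C (g * a * g⁻¹) ∈
        Cfsg.pCore p (G ⧸ C) ⊔ (P : Subgroup G).map (QuotientGroup.mk' C) := by
      intro g
      have hg : g ∈ K₁ ⊔ (P : Subgroup G) := by rw [hsup]; exact mem_top g
      rw [Cfsg.Agent.Lib.helper8.mem_sup_iff_of_le_normalizer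
        (by rw [normalizer_eq_top]; exact le_top)] at hg
      obtain ⟨k, hk, x, hx, rfl⟩ := hg
      obtain ⟨a', ha'⟩ : ∃ a', a' = x * a * x⁻¹ := ⟨_, rfl⟩
      have ha'P : a' ∈ (P : Subgroup G) := by
        rw [ha']; exact mul_mem (mul_mem hx haP) (inv_mem hx)
      obtain ⟨e, he⟩ := P.2 ⟨a', ha'P⟩
      have he' : a' ^ p ^ e = 1 := by simpa using congrArg Subtype.val he
      have hquad' : ∀ b ∈ B, ⁅⁅b, a'⁆, a'⁆ = 1 := by
        intro b hb
        have hb₀ : x⁻¹ * b * x ∈ B := by have := hBn.conj_mem b hb x⁻¹; simpa using this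
        have h1 := hquad _ hb₀
        have h2 : ⁅⁅b, a'⁆, a'⁆ = (MulAut.conj x) ⁅⁅x⁻¹ * b * x, a⁆, a⁆ := by
          rw [map_commutatorElement, map_commutatorElement]
          have e1 : (MulAut.conj x) (x⁻¹ * b * x) = b := by
            rw [MulAut.conj_apply]; group
          have e2 : (MulAut.conj x) a = a' := by rw [MulAut.conj_apply, ha']
          rw [e1, e2]
        rw [h2, h1, map_one]
      obtain ⟨M, hMn, hmem, hM⟩ := quad_acts hp2 q hq hqp _ G B Q₀ K₁ a' e rfl hBn hQn hKn hQp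
        hBQ hKc hKq he' hquad' k hk
      have hMp : IsPGroup p ↥(M.map (QuotientGroup.mk' C)) := by
        rintro ⟨_, m, hm, rfl⟩
        obtain ⟨t, r, hr, hmr⟩ := Nat.exists_eq_pow_mul_and_not_dvd (orderOf_pos m).ne' p hp.ne_one
        refine ⟨t, Subtype.ext ?_⟩
        show (QuotientGroup.mk' C m) ^ p ^ t = 1
        rw [← map_pow, ← MonoidHom.mem_ker, hker, hC]
        apply hM _ (pow_mem hm _)
        have h5 : orderOf (m ^ p ^ t) ∣ r := by
          apply orderOf_dvd_of_pow_eq_one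
          rw [← pow_mul, ← hmr, pow_orderOf_eq_one]
        exact Nat.Coprime.coprime_dvd_left h5 ((Nat.Prime.coprime_iff_not_dvd hp).mpr hr).symm
      have hMle : M.map (QuotientGroup.mk' C) ≤ Cfsg.pCore p (G ⧸ C) :=
        le_pCore (hMn.map _ hπ) hMp
      have e1 : k * x * a * (k * x)⁻¹ = ⁅k, a'⁆ * a' := by
        rw [commutatorElement_def, ha']; group
      rw [e1, map_mul]
      exact mul_mem (le_sup_left (b := (P : Subgroup G).map (QuotientGroup.mk' C))
        (hMle (mem_map_of_mem _ hmem)))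
        (le_sup_right (a := Cfsg.pCore p (G ⧸ C)) (mem_map_of_mem _ ha'P))
    have hncl : normalClosure {QuotientGroup.mk' C a} ≤
        Cfsg.pCore p (G ⧸ C) ⊔ (P : Subgroup G).map (QuotientGroup.mk' C) := by
      rw [normalClosure, closure_le]
      intro y hy
      rw [Group.mem_conjugatesOfSet_iff] at hy
      obtain ⟨_, rfl, hconj'⟩ := hy
      obtain ⟨c, hc⟩ := isConj_iff.mp hconj'
      obtain ⟨g, rfl⟩ := hπ c
      rw [← hc, ← map_inv, ← map_mul, ← map_mul]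
      exact hconj g
    have hle : normalClosure {QuotientGroup.mk' C a} ≤ Cfsg.pCore p (G ⧸ C) :=
      le_pCore normalClosure_normal (hTp.to_le hncl)
    exact hle (subset_normalClosure (Set.mem_singleton _))

end Cfsg.Agent.Lib.helper15
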