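import Mathlib
import Cfsg.Prelude.Def_LocalEven
import Cfsg.Prelude.Def_Solvable
import Cfsg.Prelude.Def_Transfer
import Cfsg.Agent.Lib.helper15.Subn
import Cfsg.Agent.Lib.helper15.SylGen
import Cfsg.Agent.Lib.helper15.PCore
import Cfsg.Agent.Lib.helper8.CoprimeAction
import Cfsg.Agent.Lib.helper14.Basic

set_option autoImplicit false

namespace Cfsg.Agent.Lib.helper15

theorem pResidual_normal_h15 (p : ℕ) (G : Type*) [Group G] : (Cfsg.pResidual p G).Normal := by
  constructor
  intro n hn g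
  have h1 : g * n * g⁻¹ ∈ (Cfsg.pResidual p G).map (MulAut.conj g).toMonoidHom :=
    ⟨n, hn, by simp [MulAut.conj_apply]⟩
  unfold Cfsg.pResidual at h1 ⊢
  rw [MonoidHom.map_closure] at h1
  refine Subgroup.closure_mono ?_ h1
  rintro - ⟨s, hs, rfl⟩
  show Nat.Coprime (orderOf ((MulAut.conj g) s)) p
  rw [MulEquiv.orderOf_eq]
  exact hs

/-- `O^p(G) S = G` for a Sylow `p`-subgroup `S`. -/
theorem pResidual_sup_sylow {G : Type*} [Group G] [Finite G] {p : ℕ} [Fact p.Prime]
    (S : Sylow p G) : Cfsg.pResidual p G ⊔ (S : Subgroup G) = ⊤ := by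
  apply eq_top_of_forall_sylow
  intro q hq
  by_cases hqp : q = p
  · subst hqp
    exact ⟨S, le_sup_right⟩
  · obtain ⟨Q⟩ : Nonempty (Sylow q G) := inferInstance
    refine ⟨Q, le_trans ?_ le_sup_left⟩
    intro x hx
    apply Subgroup.subset_closure
    show Nat.Coprime (orderOf x) p
    obtain ⟨k, hk⟩ := Q.isPGroup' ⟨x, hx⟩
    have hk' : x ^ q ^ k = 1 := by simpa using congrArg Subtype.val hk
    exact Nat.Coprime.coprime_dvd_left (orderOf_dvd_of_pow_eq_one hk')
      (Nat.Coprime.pow_left k ((Nat.coprime_primes hq.out Fact.out).mpr hqp))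

/-- If `T N = G` with `T` a `p`-group and `N` normal then `O^p(G) ≤ N`. -/
theorem pResidual_le_of_sup_eq_top_h15 {G : Type*} [Group G] {p : ℕ} (T N : Subgroup G)
    [N.Normal] (hT : IsPGroup p T) (h : T ⊔ N = ⊤) : Cfsg.pResidual p G ≤ N := by
  unfold Cfsg.pResidual
  rw [Subgroup.closure_le]
  intro g hg
  have hmem : g ∈ ((T ⊔ N : Subgroup G) : Set G) := by rw [h]; trivial
  rw [Subgroup.mul_normal] at hmem
  obtain ⟨t, ht, n, hn, rfl⟩ := Set.mem_mul.1 hmem
  have hq : (QuotientGroup.mk' N (t * n)) = QuotientGroup.mk' N t := by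
    have hn1 : QuotientGroup.mk' N n = 1 := (QuotientGroup.eq_one_iff n).2 hn
    rw [map_mul, hn1, mul_one]
  obtain ⟨k, hk⟩ := hT ⟨t, ht⟩
  have hk' : t ^ (p ^ k) = 1 := by
    have := congrArg Subtype.val hk
    simpa using this
  have h1 : (QuotientGroup.mk' N (t * n)) = 1 := by
    apply Cfsg.Agent.Lib.helper14.eq_one_of_coprime_of_pow (p := p)
    · refine ⟨k, ?_⟩
      rw [hq, ← map_pow, hk', map_one]
    · exact Nat.Coprime.coprime_dvd_left (orderOf_map_dvd _ _) hg
  exact (QuotientGroup.eq_one_iff _).1 h1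

section PMin

variable {P : Type*} [Group P] [Finite P] {p : ℕ} [Fact p.Prime]

/-- In a `p`-minimal group every subgroup containing `S` is `P` or lies in `M`. -/
theorem pmin_top_or_le (hP : Cfsg.IsPMinimal p P) (S : Sylow p P) (M : Subgroup P)
    (hM : IsCoatom M) (hSM : (S : Subgroup P) ≤ M) (X : Subgroup P)
    (hX : (S : Subgroup P) ≤ X) : X = ⊤ ∨ X ≤ M := by
  rcases eq_top_or_exists_le_coatom X with h | ⟨M', hM', hXM'⟩
  · exact Or.inl h
  · right
    obtain ⟨M₀, -, huniq⟩ := (hP S).2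
    have h1 := huniq M ⟨hM, hSM⟩
    have h2 := huniq M' ⟨hM', hX.trans hXM'⟩
    rw [h1, ← h2]; exact hXM'

theorem pmin_residual_not_le (S : Sylow p P) (M : Subgroup P)
    (hM : IsCoatom M) (hSM : (S : Subgroup P) ≤ M) : ¬ Cfsg.pResidual p P ≤ M := by
  intro h
  have h1 := pResidual_sup_sylow (p := p) S
  have h2 : (⊤ : Subgroup P) ≤ M := by rw [← h1]; exact sup_le h hSM
  exact hM.1 (top_le_iff.mp h2)

theorem pmin_normal_cases (hP : Cfsg.IsPMinimal p P) (S : Sylow p P) (M : Subgroup P)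
    (hM : IsCoatom M) (hSM : (S : Subgroup P) ≤ M) (N : Subgroup P) (hN : N.Normal) :
    Cfsg.pResidual p P ≤ N ∨ N ≤ M.normalCore := by
  rcases pmin_top_or_le hP S M hM hSM ((S : Subgroup P) ⊔ N) le_sup_left with h | h
  · left
    exact pResidual_le_of_sup_eq_top_h15 (S : Subgroup P) N S.isPGroup' h
  · right
    exact Subgroup.normal_le_normalCore.mpr (le_sup_right.trans h)

theorem pmin_core_lt (S : Sylow p P) (M : Subgroup P)
    (hM : IsCoatom M) (hSM : (S : Subgroup P) ≤ M) :
    M.normalCore < Cfsg.pResidual p P ⊔ M.normalCore := by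
  refine lt_of_le_of_ne le_sup_right ?_
  intro h
  exact pmin_residual_not_le S M hM hSM ((le_sup_left.trans h.symm.le).trans M.normalCore_le)

theorem pmin_inf_core_le (hP : Cfsg.IsPMinimal p P) (S : Sylow p P) (M : Subgroup P)
    (hM : IsCoatom M) (hSM : (S : Subgroup P) ≤ M) :
    (S : Subgroup P) ⊓ M.normalCore ≤ Cfsg.pCore p P := by
  obtain ⟨hfr, -, -⟩ := frattini_inf S M.normalCore
  have hSn : (S : Subgroup P) ≤
      Subgroup.normalizer (((S : Subgroup P) ⊓ M.normalCore : Subgroup P) : Set P) := by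
    intro s hs
    apply mem_normalizer_of_conj_le
    intro r hr
    have hr' := Subgroup.mem_inf.mp hr
    exact Subgroup.mem_inf.mpr ⟨Subgroup.mul_mem _ (Subgroup.mul_mem _ hs hr'.1)
      (Subgroup.inv_mem _ hs), M.normalCore_normal.conj_mem r hr'.2 s⟩
  rcases pmin_top_or_le hP S M hM hSM _ hSn with h | h
  · have hn : ((S : Subgroup P) ⊓ M.normalCore).Normal := Subgroup.normalizer_eq_top_iff.mp h
    exact le_pCore hn (S.isPGroup'.to_le inf_le_left)
  · exfalso
    have h2 : (⊤ : Subgroup P) ≤ M := by rw [← hfr]; exact sup_le h M.normalCore_le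
    exact hM.1 (top_le_iff.mp h2)

/-- A subnormal subgroup of a `p`-minimal group contained in `M` lies in the core of `M`. -/
theorem pmin_subnormal_le_core (hP : Cfsg.IsPMinimal p P) (S : Sylow p P) (M : Subgroup P)
    (hM : IsCoatom M) (hSM : (S : Subgroup P) ≤ M) (N : Subgroup P) (hN : N.IsSubnormal)
    (hNM : N ≤ M) : N ≤ M.normalCore := by
  have hOn : (Cfsg.pResidual p P).Normal := pResidual_normal_h15 p P
  have hπ : Function.Surjective (QuotientGroup.mk' M.normalCore) :=
    QuotientGroup.mk'_surjective M.normalCore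
  have hmin : ∀ K : Subgroup (P ⧸ M.normalCore), K.Normal →
      K ≤ (Cfsg.pResidual p P).map (QuotientGroup.mk' M.normalCore) →
      K = ⊥ ∨ K = (Cfsg.pResidual p P).map (QuotientGroup.mk' M.normalCore) := by
    intro K hKn hKle
    rcases pmin_normal_cases hP S M hM hSM (K.comap (QuotientGroup.mk' M.normalCore))
      (hKn.comap _) with h | h
    · right
      apply le_antisymm hKle
      calc (Cfsg.pResidual p P).map (QuotientGroup.mk' M.normalCore)
          ≤ (K.comap (QuotientGroup.mk' M.normalCore)).map (QuotientGroup.mk' M.normalCore) :=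
            Subgroup.map_mono h
        _ ≤ K := Subgroup.map_comap_le _ K
    · left
      rw [eq_bot_iff]
      intro x hx
      obtain ⟨y, rfl⟩ := hπ x
      have hy : y ∈ M.normalCore := h hx
      rw [Subgroup.mem_bot]
      exact (QuotientGroup.eq_one_iff y).mpr hy
  have hW := minNormal_le_normalizer ((Cfsg.pResidual p P).map (QuotientGroup.mk' M.normalCore))
    (N.map (QuotientGroup.mk' M.normalCore)) (hOn.map _ hπ) hmin (hN.map hπ)
  have hON : ∀ o ∈ Cfsg.pResidual p P, ∀ n ∈ N, o * n * o⁻¹ ∈ N ⊔ M.normalCore := by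
    intro o ho n hn
    have h1 : QuotientGroup.mk' M.normalCore o ∈ Subgroup.normalizer
        ((N.map (QuotientGroup.mk' M.normalCore) : Subgroup (P ⧸ M.normalCore)) :
          Set (P ⧸ M.normalCore)) := hW ⟨o, ho, rfl⟩
    have h2 := (Subgroup.mem_normalizer_iff.mp h1 (QuotientGroup.mk' M.normalCore n)).mp
      ⟨n, hn, rfl⟩
    obtain ⟨n', hn', he⟩ := h2
    have h3 : n'⁻¹ * (o * n * o⁻¹) ∈ M.normalCore := by
      rw [← QuotientGroup.eq]
      simpa using he
    have e : o * n * o⁻¹ = n' * (n'⁻¹ * (o * n * o⁻¹)) := by group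
    rw [e]
    exact Subgroup.mul_mem _ (Subgroup.mem_sup_left hn') (Subgroup.mem_sup_right h3)
  have hNF : N ⊔ M.normalCore ≤ M := sup_le hNM M.normalCore_le
  intro n hn
  show ∀ b, b * n * b⁻¹ ∈ M
  intro g
  have hg : g ∈ (((S : Subgroup P) ⊔ Cfsg.pResidual p P : Subgroup P) : Set P) := by
    rw [sup_comm, pResidual_sup_sylow S]; trivial
  rw [Subgroup.mul_normal] at hg
  obtain ⟨s, hs, o, ho, rfl⟩ := Set.mem_mul.mp hg
  have e : s * o * n * (s * o)⁻¹ = s * (o * n * o⁻¹) * s⁻¹ := by group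
  rw [e]
  exact M.mul_mem (M.mul_mem (hSM hs) (hNF (hON o ho n hn))) (M.inv_mem (hSM hs))

/-- For a prime `t ≠ p` and a normal `p`-subgroup `T'` of `P` inside the normal subgroup `O`
with `T'` of `p'`-index in `O`, some subgroup `X` of `O` normalized by `S` contains `T'` and a
Sylow `t`-subgroup of `O`, and has `{p, t}`-order. -/
theorem exists_invariant_pt (S : Sylow p P) (O : Subgroup P) [O.Normal] (T' : Subgroup P)
    (hT'n : T'.Normal) (hT'O : T' ≤ O) (hT'p : IsPGroup p T')
    (hT'idx : ¬ p ∣ T'.relIndex O) (t : ℕ) [Fact t.Prime] :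
    ∃ X : Subgroup P, X ≤ O ∧ T' ≤ X ∧ (S : Subgroup P) ≤ Subgroup.normalizer (X : Set P) ∧
      t ^ (Nat.card O).factorization t ∣ Nat.card X ∧ ∃ b c : ℕ, Nat.card X ∣ p ^ b * t ^ c := by
  obtain ⟨R⟩ : Nonempty (Sylow t ↥O) := inferInstance
  have hRcard : Nat.card ((R : Subgroup ↥O).map O.subtype) = t ^ (Nat.card O).factorization t := by
    rw [Subgroup.card_map_of_injective O.subtype_injective]
    exact R.card_eq_multiplicity
  have hRO : (R : Subgroup ↥O).map O.subtype ≤ O := Subgroup.map_subtype_le _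
  have hX₀O : T' ⊔ (R : Subgroup ↥O).map O.subtype ≤ O := sup_le hT'O hRO
  -- the normalizer of `X₀` has index prime to `p`
  have hYA : Subgroup.normalizer ((((R : Subgroup ↥O).map O.subtype : Subgroup P)) : Set P) ≤
      Subgroup.normalizer ((T' ⊔ (R : Subgroup ↥O).map O.subtype : Subgroup P) : Set P) := by
    intro y hy
    apply mem_normalizer_of_conj_le
    intro x hx
    have h1 : T' ⊔ (R : Subgroup ↥O).map O.subtype ≤
        (T' ⊔ (R : Subgroup ↥O).map O.subtype).comap (MulAut.conj y).toMonoidHom := by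
      apply sup_le
      · intro r hr
        rw [Subgroup.mem_comap]
        exact Subgroup.mem_sup_left (hT'n.conj_mem r hr y)
      · intro r hr
        rw [Subgroup.mem_comap]
        exact Subgroup.mem_sup_right ((Subgroup.mem_normalizer_iff.mp hy r).mp hr)
    exact h1 hx
  have hAO : Subgroup.normalizer ((T' ⊔ (R : Subgroup ↥O).map O.subtype : Subgroup P) : Set P) ⊔ O
      = ⊤ := by
    rw [eq_top_iff, ← Sylow.normalizer_sup_eq_top R]
    exact sup_le_sup_right hYA O
  have hAidx : ¬ p ∣ (Subgroup.normalizer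
      ((T' ⊔ (R : Subgroup ↥O).map O.subtype : Subgroup P) : Set P)).index := by
    intro hdvd
    apply hT'idx
    have h1 := relIndex_sup_normal (Subgroup.normalizer
      ((T' ⊔ (R : Subgroup ↥O).map O.subtype : Subgroup P) : Set P)) O
    rw [hAO, Subgroup.relIndex_top_right] at h1
    rw [h1] at hdvd
    have h2 : (Subgroup.normalizer
        ((T' ⊔ (R : Subgroup ↥O).map O.subtype : Subgroup P) : Set P)).relIndex O ∣
        (T' ⊔ (R : Subgroup ↥O).map O.subtype).relIndex O :=
      Subgroup.relIndex_dvd_of_le_left O Subgroup.le_normalizer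
    have h3 : (T' ⊔ (R : Subgroup ↥O).map O.subtype).relIndex O ∣ T'.relIndex O :=
      Subgroup.relIndex_dvd_of_le_left O le_sup_left
    exact hdvd.trans (h2.trans h3)
  obtain ⟨g, hg⟩ := exists_conj_sylow_le S _ hAidx
  refine ⟨(T' ⊔ (R : Subgroup ↥O).map O.subtype).map (MulAut.conj g⁻¹).toMonoidHom, ?_, ?_, ?_, ?_, ?_⟩
  · rintro _ ⟨x, hx, rfl⟩
    have := ‹O.Normal›.conj_mem x (hX₀O hx) g⁻¹
    simpa using this
  · intro r hr
    refine ⟨g * r * g⁻¹, Subgroup.mem_sup_left (hT'n.conj_mem r hr g), ?_⟩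
    simp only [MulEquiv.coe_toMonoidHom, MulAut.conj_apply]
    group
  · intro s hs
    apply mem_normalizer_of_conj_le
    rintro _ ⟨x, hx, rfl⟩
    refine ⟨g * s * g⁻¹ * x * (g * s * g⁻¹)⁻¹,
      (Subgroup.mem_normalizer_iff.mp (hg s hs) x).mp hx, ?_⟩
    simp only [MulEquiv.coe_toMonoidHom, MulAut.conj_apply]
    group
  · rw [Subgroup.card_map_of_injective (MulAut.conj g⁻¹).injective, ← hRcard]
    exact Subgroup.card_dvd_of_le le_sup_right
  · rw [Subgroup.card_map_of_injective (MulAut.conj g⁻¹).injective]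
    obtain ⟨b, hb⟩ := IsPGroup.iff_card.mp hT'p
    refine ⟨b, (Nat.card O).factorization t, ?_⟩
    have h1 := card_eq_relIndex_mul (le_sup_left : T' ≤ T' ⊔ (R : Subgroup ↥O).map O.subtype)
    have := hT'n
    rw [Subgroup.relIndex_sup_left] at h1
    rw [h1, hb, mul_comm, ← hRcard]
    exact Nat.mul_dvd_mul_left _ (Subgroup.relIndex_dvd_card _ _)

/-- If `O^p(P)` is `p`-closed in a `p`-minimal group `P` then at most two primes divide `|P|`. -/
theorem pmin_two_primes (hP : Cfsg.IsPMinimal p P) (S : Sylow p P) (M : Subgroup P)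
    (hM : IsCoatom M) (hSM : (S : Subgroup P) ≤ M)
    (hcl : ∀ T : Sylow p ↥(Cfsg.pResidual p P), (T : Subgroup ↥(Cfsg.pResidual p P)).Normal) :
    (Nat.card P).primeFactors.card ≤ 2 := by
  classical
  have hp : p.Prime := Fact.out
  have hOn : (Cfsg.pResidual p P).Normal := pResidual_normal_h15 p P
  obtain ⟨hfr, Q, hQ⟩ := frattini_inf S (Cfsg.pResidual p P)
  have hQn := hcl Q
  have hT'O : (S : Subgroup P) ⊓ Cfsg.pResidual p P ≤ Cfsg.pResidual p P := inf_le_right
  have hT'p : IsPGroup p ↥((S : Subgroup P) ⊓ Cfsg.pResidual p P) := S.isPGroup'.to_le inf_le_left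
  have hT'n : ((S : Subgroup P) ⊓ Cfsg.pResidual p P).Normal := by
    rw [← Subgroup.normalizer_eq_top_iff, eq_top_iff, ← hfr]
    apply sup_le le_rfl
    intro o ho
    apply mem_normalizer_of_conj_le
    intro r hr
    rw [← hQ] at hr ⊢
    obtain ⟨y, hy, rfl⟩ := hr
    exact ⟨⟨o, ho⟩ * y * ⟨o, ho⟩⁻¹, hQn.conj_mem y hy ⟨o, ho⟩, rfl⟩
  have hT'idx : ¬ p ∣ ((S : Subgroup P) ⊓ Cfsg.pResidual p P).relIndex (Cfsg.pResidual p P) := by
    rw [Subgroup.inf_relIndex_right]
    exact sylow_inf_normal_not_dvd S _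
  have hT'card : Nat.card ↥((S : Subgroup P) ⊓ Cfsg.pResidual p P) =
      p ^ (Nat.card (Cfsg.pResidual p P)).factorization p := by
    rw [← hQ, Subgroup.card_map_of_injective (Subgroup.subtype_injective _)]
    exact Q.card_eq_multiplicity
  by_cases hex : ∃ t : ℕ, t.Prime ∧ ∃ X : Subgroup P, X ≤ Cfsg.pResidual p P ∧
      (S : Subgroup P) ⊓ Cfsg.pResidual p P ≤ X ∧
      (S : Subgroup P) ≤ Subgroup.normalizer (X : Set P) ∧
      (∃ b c : ℕ, Nat.card X ∣ p ^ b * t ^ c) ∧ X ⊔ (S : Subgroup P) = ⊤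
  · obtain ⟨t, ht, X, hXO, hTX, hSX, ⟨b, c, hXcard⟩, htop⟩ := hex
    have hOX : Cfsg.pResidual p P ≤ X := by
      intro o ho
      have ho' : o ∈ X ⊔ (S : Subgroup P) := by rw [htop]; trivial
      obtain ⟨x, hx, s, hs, rfl⟩ :=
        (Cfsg.Agent.Lib.helper8.mem_sup_iff_of_le_normalizer hSX o).mp ho'
      have hsO : s ∈ Cfsg.pResidual p P := by
        have e : s = x⁻¹ * (x * s) := by group
        rw [e]
        exact Subgroup.mul_mem _ (Subgroup.inv_mem _ (hXO hx)) ho
      exact X.mul_mem hx (hTX (Subgroup.mem_inf.mpr ⟨hs, hsO⟩))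
    have hOcard : Nat.card (Cfsg.pResidual p P) ∣ p ^ b * t ^ c :=
      (Subgroup.card_dvd_of_le hOX).trans hXcard
    obtain ⟨a, ha⟩ := IsPGroup.iff_card.mp S.isPGroup'
    have hidx : (S : Subgroup P).index ∣ Nat.card (Cfsg.pResidual p P) := by
      have h1 := relIndex_sup_normal (S : Subgroup P) (Cfsg.pResidual p P)
      rw [sup_comm, pResidual_sup_sylow S, Subgroup.relIndex_top_right] at h1
      rw [h1]
      exact Subgroup.relIndex_dvd_card _ _
    have hPcard : Nat.card P ∣ p ^ a * (p ^ b * t ^ c) := by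
      rw [← Subgroup.card_mul_index (S : Subgroup P), ha]
      exact Nat.mul_dvd_mul_left _ (hidx.trans hOcard)
    have hsub : (Nat.card P).primeFactors ⊆ {p, t} := by
      intro q hq
      have hqp : q.Prime := Nat.prime_of_mem_primeFactors hq
      have hqd : q ∣ p ^ a * (p ^ b * t ^ c) := (Nat.dvd_of_mem_primeFactors hq).trans hPcard
      rw [Finset.mem_insert, Finset.mem_singleton]
      rcases (Nat.Prime.dvd_mul hqp).mp hqd with h | h
      · left
        exact (Nat.prime_dvd_prime_iff_eq hqp hp).mp (hqp.dvd_of_dvd_pow h)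
      · rcases (Nat.Prime.dvd_mul hqp).mp h with h | h
        · left
          exact (Nat.prime_dvd_prime_iff_eq hqp hp).mp (hqp.dvd_of_dvd_pow h)
        · right
          exact (Nat.prime_dvd_prime_iff_eq hqp ht).mp (hqp.dvd_of_dvd_pow h)
    exact (Finset.card_le_card hsub).trans Finset.card_le_two
  · exfalso
    apply pmin_residual_not_le S M hM hSM
    apply le_of_forall_pow_dvd
    intro q hq
    have : Fact q.Prime := ⟨hq⟩
    by_cases hqp : q = p
    · subst hqp
      rw [← hT'card]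
      exact Subgroup.card_dvd_of_le (le_inf (inf_le_left.trans hSM) inf_le_right)
    · obtain ⟨X, hXO, hTX, hSX, hqX, hbc⟩ := exists_invariant_pt S (Cfsg.pResidual p P)
        ((S : Subgroup P) ⊓ Cfsg.pResidual p P) hT'n hT'O hT'p hT'idx q
      have hXM : X ≤ M := by
        rcases pmin_top_or_le hP S M hM hSM (X ⊔ (S : Subgroup P)) le_sup_right with h | h
        · exact absurd ⟨q, hq, X, hXO, hTX, hSX, hbc, h⟩ hex
        · exact le_sup_left.trans h
      exact hqX.trans (Subgroup.card_dvd_of_le (le_inf hXM hXO))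

end PMin

end Cfsg.Agent.Lib.helper15
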