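import Mathlib
import Cfsg.Agent.Lib.helper1.ThompsonNPC
import Cfsg.Agent.Lib.helper16.Syl
import Cfsg.Agent.Lib.helper15.QuadStab
import Cfsg.Agent.Lib.helper15.ZJ2
import Cfsg.Agent.S0065

/-!
# Reduction for normal `p`-complement theorems with a strongly closed subgroup (seat helper15)

The minimal counterexample analysis of `helper1.ThompsonNPC`, for a functor applied to a
subgroup `D` strongly closed in a Sylow `p`-subgroup.
-/

set_option autoImplicit false

namespace Cfsg.Agent.Lib.helper15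

open Subgroup Cfsg.Agent.Lib.helper1
open scoped commutatorElement

universe u

/-- The statement for a group `G`. -/
def DStmt (p : ℕ) (W : PFun.{u} p) (G : Type u) [Group G] : Prop :=
  ∀ (P : Sylow p G) (D : Subgroup G), Cfsg.IsStronglyClosed D (P : Subgroup G) →
    Hyp p W W G D → Cfsg.HasNormalPComplement p G

theorem hyp_of_npc {G : Type u} [Group G] [Finite G] {p : ℕ} [Fact p.Prime] (W : PFun.{u} p)
    (D : Subgroup G) (h : Cfsg.HasNormalPComplement p (normalizer (W.W G D : Set G))) :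
    Hyp p W W G D :=
  ⟨h, npc_of_le (Subgroup.centralizer_le_normalizer _) h⟩

theorem sc_conj {G : Type*} [Group G] {D P : Subgroup G} (h : Cfsg.IsStronglyClosed D P) (g : G) :
    Cfsg.IsStronglyClosed (D.map (MulAut.conj g).toMonoidHom)
      (P.map (MulAut.conj g).toMonoidHom) := by
  refine ⟨Subgroup.map_mono h.1, ?_⟩
  rintro _ ⟨d, hd, rfl⟩ y hy
  obtain ⟨x, hx, hxy⟩ := hy
  have hxy' : g * x * g⁻¹ = y * (g * d * g⁻¹) * y⁻¹ := by
    simpa [MulAut.conj_apply] using hxy
  have h1 : (g⁻¹ * y * g) * d * (g⁻¹ * y * g)⁻¹ = x := by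
    calc (g⁻¹ * y * g) * d * (g⁻¹ * y * g)⁻¹ = g⁻¹ * (y * (g * d * g⁻¹) * y⁻¹) * g := by group
      _ = g⁻¹ * (g * x * g⁻¹) * g := by rw [hxy']
      _ = x := by group
  have h2 := h.2 d hd (g⁻¹ * y * g) (by rw [h1]; exact hx)
  rw [h1] at h2
  exact ⟨x, h2, hxy⟩

theorem hyp_conj {G : Type u} [Group G] [Finite G] {p : ℕ} [Fact p.Prime] (W : PFun.{u} p)
    (D : Subgroup G) (h : Hyp p W W G D) (g : G) :
    Hyp p W W G (D.map (MulAut.conj g).toMonoidHom) := by
  apply hyp_of_npc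
  rw [W.map G G _ D (inf_ker_eq_bot_of_injective _ (MulAut.conj g).injective D),
    ← Subgroup.map_equiv_normalizer_eq]
  exact npc_map _ _ h.1

theorem dhyp_all {G : Type u} [Group G] [Finite G] {p : ℕ} [Fact p.Prime] (W : PFun.{u} p)
    (P : Sylow p G) (D : Subgroup G) (hD : Cfsg.IsStronglyClosed D (P : Subgroup G)) (hD1 : D ≠ ⊥)
    (h : Hyp p W W G D) (P₁ : Sylow p G) :
    ∃ D₁ : Subgroup G, Cfsg.IsStronglyClosed D₁ (P₁ : Subgroup G) ∧ D₁ ≠ ⊥ ∧ Hyp p W W G D₁ := by
  obtain ⟨g, hg⟩ := MulAction.exists_smul_eq G P P₁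
  refine ⟨D.map (MulAut.conj g).toMonoidHom, ?_, ?_, hyp_conj W D h g⟩
  · rw [← hg, sylow_smul_eq_map]; exact sc_conj hD g
  · rw [Ne, Subgroup.map_eq_bot_iff_of_injective _ (MulAut.conj g).injective]; exact hD1

theorem sylow_subgroupOf_eq {G : Type*} [Group G] {p : ℕ} (P₁ : Sylow p G) (N : Subgroup G)
    (R' : Sylow p N) (hR : (R' : Subgroup N).map N.subtype ≤ P₁) :
    (P₁ : Subgroup G).subgroupOf N = (R' : Subgroup N) := by
  have h1 : (R' : Subgroup N) ≤ (P₁ : Subgroup G).subgroupOf N := by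
    intro x hx
    rw [mem_subgroupOf]
    exact hR (mem_map_of_mem _ hx)
  exact R'.is_maximal' P₁.2.comap_subtype h1

theorem sc_restrict {G : Type*} [Group G] {p : ℕ} {D : Subgroup G} (P₁ : Sylow p G)
    (h : Cfsg.IsStronglyClosed D (P₁ : Subgroup G)) (N : Subgroup G) (R' : Sylow p N)
    (hR : (R' : Subgroup N).map N.subtype ≤ P₁) :
    Cfsg.IsStronglyClosed (D.subgroupOf N) (R' : Subgroup N) := by
  have hPR := sylow_subgroupOf_eq P₁ N R' hR
  refine ⟨?_, ?_⟩
  · rw [← hPR]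
    intro x hx
    rw [mem_subgroupOf] at hx ⊢
    exact h.1 hx
  · intro x hx g hg
    rw [mem_subgroupOf] at hx ⊢
    rw [← hPR, mem_subgroupOf] at hg
    exact h.2 _ hx g (by simpa using hg)

theorem sc_normalizer {G : Type*} [Group G] {D P : Subgroup G} (h : Cfsg.IsStronglyClosed D P) :
    P ≤ normalizer (D : Set G) := by
  apply Cfsg.Agent.Lib.helper8.le_normalizer_of_conj_mem
  intro g hg d hd
  exact h.2 d hd g (P.mul_mem (P.mul_mem hg (h.1 hd)) (P.inv_mem hg))

theorem sc_quot_coprime {G : Type*} [Group G] [Finite G] {p : ℕ} [Fact p.Prime] (P : Sylow p G)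
    {D : Subgroup G} (hD : Cfsg.IsStronglyClosed D (P : Subgroup G)) (N' : Subgroup G)
    [hN : N'.Normal] :
    Cfsg.IsStronglyClosed (D.map (QuotientGroup.mk' N'))
      ((P : Subgroup G).map (QuotientGroup.mk' N')) := by
  refine ⟨Subgroup.map_mono hD.1, ?_⟩
  rintro _ ⟨d, hd, rfl⟩ y hy
  obtain ⟨g, rfl⟩ := QuotientGroup.mk'_surjective N' y
  have h1 : g * d * g⁻¹ ∈ (P : Subgroup G) ⊔ N' := by
    have : g * d * g⁻¹ ∈ ((P : Subgroup G).map (QuotientGroup.mk' N')).comap
        (QuotientGroup.mk' N') := by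
      rw [mem_comap]; simpa using hy
    rwa [Subgroup.comap_map_eq, QuotientGroup.ker_mk'] at this
  obtain ⟨k, hk⟩ := (P.2.to_le hD.1) ⟨d, hd⟩
  have hk' : d ^ p ^ k = 1 := by simpa using congrArg Subtype.val hk
  have hy0 : (g * d * g⁻¹) ^ p ^ k = 1 := by rw [conj_pow, hk']; group
  have hpA : IsPGroup p (zpowers (g * d * g⁻¹)) := by
    rintro ⟨_, i, rfl⟩
    refine ⟨k, Subtype.ext ?_⟩
    show ((g * d * g⁻¹) ^ i) ^ p ^ k = 1
    rw [← zpow_natCast, ← zpow_mul, mul_comm, zpow_mul, zpow_natCast, hy0, one_zpow]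
  obtain ⟨h, hh, hconj⟩ := Cfsg.Agent.Lib.helper16.exists_conj_mem_sylow
    ((P : Subgroup G) ⊔ N') P le_sup_left (zpowers (g * d * g⁻¹))
    ((zpowers_le).mpr h1) hpA
  rw [sup_comm, Cfsg.Agent.Lib.helper8.mem_sup_iff_of_le_normalizer
    (by rw [normalizer_eq_top]; exact le_top)] at hh
  obtain ⟨n, hn, x, hx, rfl⟩ := hh
  have h2 := hconj (g * d * g⁻¹) (mem_zpowers _)
  have hu : x⁻¹ * n * x ∈ N' := by
    have := hN.conj_mem n hn x⁻¹
    simpa using this
  have h3 : (x⁻¹ * n * x * g) * d * (x⁻¹ * n * x * g)⁻¹ ∈ (P : Subgroup G) := by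
    have h4 : (x⁻¹ * n * x * g) * d * (x⁻¹ * n * x * g)⁻¹ =
        x⁻¹ * (n * x * (g * d * g⁻¹) * (n * x)⁻¹) * x := by group
    rw [h4]
    exact (P : Subgroup G).mul_mem ((P : Subgroup G).mul_mem ((P : Subgroup G).inv_mem hx) h2) hx
  refine ⟨(x⁻¹ * n * x * g) * d * (x⁻¹ * n * x * g)⁻¹, hD.2 d hd _ h3, ?_⟩
  have hu1 : QuotientGroup.mk' N' (x⁻¹ * n * x) = 1 := (QuotientGroup.eq_one_iff _).mpr hu
  have h5 : QuotientGroup.mk' N' (x⁻¹ * n * x * g) = QuotientGroup.mk' N' g := by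
    rw [map_mul, hu1, one_mul]
  rw [map_mul, map_mul, map_inv, h5]

theorem d_normal_of_max {G : Type u} [Group G] [Finite G] {p : ℕ} [Fact p.Prime]
    (W : PFun.{u} p)
    (IH : ∀ (G' : Type u) [Group G'] [Finite G'], Nat.card G' < Nat.card G → DStmt p W G')
    (hyp : ∀ P₁ : Sylow p G, ∃ D₁ : Subgroup G, Cfsg.IsStronglyClosed D₁ (P₁ : Subgroup G) ∧
      D₁ ≠ ⊥ ∧ Hyp p W W G D₁)
    (H : Subgroup G) (hH : Bad p G H) (hmax : ∀ Q, Bad p G Q → mm p G Q ≤ mm p G H) :
    normalizer (H : Set G) = ⊤ := by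
  have hp : p.Prime := Fact.out
  by_contra hne
  obtain ⟨hHp, hH1, hHn⟩ := hH
  apply hHn
  obtain ⟨N, hN⟩ : ∃ N : Subgroup G, N = normalizer (H : Set G) := ⟨_, rfl⟩
  rw [← hN] at hne ⊢
  have hlt : Nat.card N < Nat.card G := by
    have := Cfsg.Agent.Lib.lead.card_lt_of_lt (lt_top_iff_ne_top.mpr hne)
    rwa [Subgroup.card_top] at this
  obtain ⟨R'⟩ : Nonempty (Sylow p N) := inferInstance
  obtain ⟨R, hR⟩ : ∃ R : Subgroup G, R = (R' : Subgroup N).map N.subtype := ⟨_, rfl⟩
  have hRp : IsPGroup p R := by rw [hR]; exact R'.2.map _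
  have hRN : R ≤ N := by rw [hR]; exact Subgroup.map_subtype_le _
  have hRcard : Nat.card R = p ^ mm p G H := by
    rw [hR, Subgroup.card_map_of_injective N.subtype_injective]
    unfold mm
    rw [← hN]
    exact R'.card_eq_multiplicity
  obtain ⟨P₁, hP₁⟩ := hRp.exists_le_sylow
  obtain ⟨D₁, hD₁, hD₁ne, hD₁hyp⟩ := hyp P₁
  have hP₁' : (R' : Subgroup N).map N.subtype ≤ P₁ := by rw [← hR]; exact hP₁
  have hsc := sc_restrict P₁ hD₁ N R' hP₁'
  refine IH N hlt R' (D₁.subgroupOf N) hsc ?_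
  apply hyp_of_injective W W N.subtype N.subtype_injective
  rw [Subgroup.subgroupOf_map_subtype]
  by_cases hS : (P₁ : Subgroup G) = R
  · have : D₁ ⊓ N = D₁ := inf_eq_left.mpr (hD₁.1.trans (hS ▸ hRN))
    rw [this]; exact hD₁hyp
  · have hlt2 : R < (P₁ : Subgroup G) := lt_of_le_of_ne hP₁ (fun h => hS h.symm)
    have hgrow := Cfsg.Agent.Lib.lead.normalizer_grows (P₁ : Subgroup G) R P₁.2 hlt2
    obtain ⟨T, hT⟩ : ∃ T : Subgroup G, T = (P₁ : Subgroup G) ⊓ normalizer (R : Set G) := ⟨_, rfl⟩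
    rw [← hT] at hgrow
    have hTp : IsPGroup p T := by rw [hT]; exact P₁.2.to_le inf_le_left
    obtain ⟨t, ht⟩ := IsPGroup.iff_card.mp hTp
    have hmt : mm p G H < t := by
      have := Cfsg.Agent.Lib.lead.card_lt_of_lt hgrow
      rw [hRcard, ht] at this
      exact (Nat.pow_lt_pow_iff_right hp.one_lt).mp this
    have hPN : (P₁ : Subgroup G) ⊓ N = R := by
      rw [hR, ← sylow_subgroupOf_eq P₁ N R' hP₁', Subgroup.subgroupOf_map_subtype]
    have hD₂ : D₁ ⊓ N = D₁ ⊓ R := by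
      apply le_antisymm
      · exact le_inf inf_le_left (hPN ▸ inf_le_inf_right N hD₁.1)
      · exact inf_le_inf_left D₁ hRN
    have hHR : H ≤ R := by
      have hHN : H ≤ N := by rw [hN]; exact Subgroup.le_normalizer
      haveI : (H.subgroupOf N).Normal := by rw [hN]; exact Subgroup.normal_in_normalizer
      have h1 : H.subgroupOf N ≤ (R' : Subgroup N) :=
        IsPGroup.le_sylow_of_normal (N := H.subgroupOf N) hHp.comap_subtype R'
      intro h hh
      rw [hR]
      exact ⟨⟨h, hHN hh⟩, h1 (by rw [mem_subgroupOf]; exact hh), rfl⟩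
    have hD₂ne : D₁ ⊓ N ≠ ⊥ := by
      haveI : Group.IsNilpotent (P₁ : Subgroup G) := P₁.2.isNilpotent
      haveI : (D₁.subgroupOf (P₁ : Subgroup G)).Normal := by
        constructor
        intro d hd x
        rw [mem_subgroupOf] at hd ⊢
        have h2 : ((x * d * x⁻¹ : (P₁ : Subgroup G)) : G) = (x : G) * (d : G) * (x : G)⁻¹ := by
          simp
        rw [h2]
        exact hD₁.2 _ hd x (by rw [← h2]; exact (x * d * x⁻¹).2)
      have hN1 : D₁.subgroupOf (P₁ : Subgroup G) ≠ ⊥ := by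
        intro h
        apply hD₁ne
        rw [Subgroup.subgroupOf_eq_bot] at h
        have := h.eq_bot
        rwa [inf_eq_left.mpr hD₁.1] at this
      have h1 := Cfsg.Agent.S0065.normal_inf_center_ne_bot (D₁.subgroupOf (P₁ : Subgroup G)) hN1
      obtain ⟨z, hz1⟩ := Subgroup.ne_bot_iff_exists_ne_one.mp h1
      have hzD : ((z : (P₁ : Subgroup G)) : G) ∈ D₁ := Subgroup.mem_subgroupOf.mp z.2.1
      have hzC : ((z : (P₁ : Subgroup G)) : G) ∈ centralizer (H : Set G) := by
        rw [mem_centralizer_iff]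
        intro h hh
        have := Subgroup.mem_center_iff.mp z.2.2 ⟨h, hP₁ (hHR hh)⟩
        exact congrArg Subtype.val this
      intro hbot
      have hmem : ((z : (P₁ : Subgroup G)) : G) ∈ D₁ ⊓ N :=
        ⟨hzD, by rw [hN]; exact Subgroup.centralizer_le_normalizer _ hzC⟩
      rw [hbot, mem_bot] at hmem
      apply hz1
      apply Subtype.ext
      apply Subtype.ext
      simpa using hmem
    have hD₂p : IsPGroup p ↥(D₁ ⊓ N) := P₁.2.to_le (inf_le_left.trans hD₁.1)
    have hTn : T ≤ normalizer ((D₁ ⊓ N : Subgroup G) : Set G) := by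
      rw [hD₂]
      apply Cfsg.Agent.Lib.helper8.le_normalizer_of_conj_mem
      intro x hx d hd
      rw [hT] at hx
      refine ⟨?_, (Subgroup.mem_normalizer_iff.mp hx.2 d).mp hd.2⟩
      exact hD₁.2 d hd.1 x ((P₁ : Subgroup G).mul_mem ((P₁ : Subgroup G).mul_mem hx.1
        (hD₁.1 hd.1)) ((P₁ : Subgroup G).inv_mem hx.1))
    apply hyp_of_npc
    by_contra hbad
    have hB : Bad p G (W.W G (D₁ ⊓ N)) :=
      ⟨hD₂p.to_le (W.le G _), W.ne_bot G _ hD₂p hD₂ne, hbad⟩
    have h1 := hmax _ hB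
    have h2 : T ≤ normalizer (W.W G (D₁ ⊓ N) : Set G) := hTn.trans (W.normalizer_le G _)
    have h3 : p ^ t ∣ Nat.card (normalizer (W.W G (D₁ ⊓ N) : Set G)) := by
      rw [← ht]; exact Subgroup.card_dvd_of_le h2
    have h4 : t ≤ mm p G (W.W G (D₁ ⊓ N)) :=
      (hp.pow_dvd_iff_le_factorization Nat.card_pos.ne').mp h3
    omega

theorem d_quot_npc_of_max {G : Type u} [Group G] [Finite G] {p : ℕ} [Fact p.Prime]
    (W : PFun.{u} p)
    (IH : ∀ (G' : Type u) [Group G'] [Finite G'], Nat.card G' < Nat.card G → DStmt p W G')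
    (P : Sylow p G) (D : Subgroup G) (hD : Cfsg.IsStronglyClosed D (P : Subgroup G))
    (hnpc : ¬ Cfsg.HasNormalPComplement p G) (hyp : Hyp p W W G D)
    (H : Subgroup G) [hHn : H.Normal] (hH : Bad p G H)
    (hmax1 : ∀ Q, Bad p G Q → mm p G Q ≤ mm p G H)
    (hmax2 : ∀ Q, Bad p G Q → mm p G Q = mm p G H → Nat.card Q ≤ Nat.card H) :
    Cfsg.HasNormalPComplement p (G ⧸ H) := by
  have hp : p.Prime := Fact.out
  obtain ⟨hHp, hH1, hHbad⟩ := hH
  have hπ := QuotientGroup.mk'_surjective H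
  have hlt : Nat.card (G ⧸ H) < Nat.card G := by
    rw [Subgroup.card_eq_card_quotient_mul_card_subgroup H]
    have h1 : 1 < Nat.card H := (Subgroup.one_lt_card_iff_ne_bot H).mpr hH1
    have h2 : 0 < Nat.card (G ⧸ H) := Nat.card_pos
    nlinarith
  have hn2 : normalizer (H : Set G) = ⊤ := Subgroup.normalizer_eq_top _
  have hmH : mm p G H = (Nat.card G).factorization p := by
    unfold mm; rw [hn2, Subgroup.card_top]
  have hHP : H ≤ P := hHp.le_sylow_of_normal P
  have hPD : (P : Subgroup G) ≤ normalizer (D : Set G) := sc_normalizer hD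
  have hDH : ¬ D ≤ H := by
    intro hle
    apply hnpc
    haveI hDn : D.Normal := by
      constructor
      intro d hd g
      exact hD.2 d hd g (hHP (hHn.conj_mem d (hle hd) g))
    have h1 := hyp.1
    have htop : normalizer (W.W G D : Set G) = ⊤ := by
      rw [eq_top_iff]
      calc (⊤ : Subgroup G) = normalizer (D : Set G) := (Subgroup.normalizer_eq_top D).symm
        _ ≤ _ := W.normalizer_le G D
    rw [htop] at h1
    exact npc_of_top h1
  have hQbcoe : ((P.mapSurjective hπ : Sylow p (G ⧸ H)) : Subgroup (G ⧸ H)) =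
      (P : Subgroup G).map (QuotientGroup.mk' H) := Sylow.coe_mapSurjective hπ P
  obtain ⟨Db, hDb⟩ : ∃ Db : Subgroup (G ⧸ H), Db = D.map (QuotientGroup.mk' H) := ⟨_, rfl⟩
  have hDb1 : Db ≠ ⊥ := by
    intro h
    apply hDH
    intro d hd
    have : QuotientGroup.mk' H d ∈ Db := by rw [hDb]; exact mem_map_of_mem _ hd
    rw [h, mem_bot] at this
    exact (QuotientGroup.eq_one_iff d).mp this
  have hcomapP : ((P : Subgroup G).map (QuotientGroup.mk' H)).comap (QuotientGroup.mk' H) = P := by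
    rw [Subgroup.comap_map_eq, QuotientGroup.ker_mk', sup_eq_left.mpr hHP]
  have hscb : Cfsg.IsStronglyClosed Db
      ((P.mapSurjective hπ : Sylow p (G ⧸ H)) : Subgroup (G ⧸ H)) := by
    rw [hQbcoe, hDb]
    refine ⟨Subgroup.map_mono hD.1, ?_⟩
    rintro _ ⟨d, hd, rfl⟩ y hy
    obtain ⟨g, rfl⟩ := hπ y
    have h1 : g * d * g⁻¹ ∈ (P : Subgroup G) := by
      rw [← hcomapP, mem_comap]
      simpa using hy
    exact ⟨g * d * g⁻¹, hD.2 d hd g h1, by simp⟩
  have hDbp : IsPGroup p Db := by rw [hDb]; exact (P.2.to_le hD.1).map _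
  obtain ⟨Xb, hXb⟩ : ∃ Xb : Subgroup (G ⧸ H), Xb = W.W (G ⧸ H) Db := ⟨_, rfl⟩
  have hXbp : IsPGroup p Xb := by rw [hXb]; exact hDbp.to_le (W.le _ _)
  have hXb1 : Xb ≠ ⊥ := by rw [hXb]; exact W.ne_bot _ _ hDbp hDb1
  obtain ⟨L, hL⟩ : ∃ L : Subgroup G, L = Xb.comap (QuotientGroup.mk' H) := ⟨_, rfl⟩
  have hLp : IsPGroup p L := by
    rw [hL]
    exact hXbp.comap_of_ker_isPGroup _ (by rw [QuotientGroup.ker_mk']; exact hHp)
  have hHL : H ≤ L := by
    intro x hx
    rw [hL, Subgroup.mem_comap]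
    have : QuotientGroup.mk' H x = 1 := (QuotientGroup.eq_one_iff x).mpr hx
    rw [this]; exact one_mem _
  have hHL' : H ≠ L := by
    intro h
    apply hXb1
    rw [← Subgroup.map_comap_eq_self_of_surjective hπ Xb, ← hL, ← h, QuotientGroup.map_mk'_self]
  have hLlt : Nat.card H < Nat.card L :=
    Cfsg.Agent.Lib.lead.card_lt_of_lt (lt_of_le_of_ne hHL hHL')
  have hL1 : L ≠ ⊥ := fun h => hH1 (le_bot_iff.mp (h ▸ hHL))
  have hnL : normalizer (L : Set G) =
      (normalizer (Xb : Set (G ⧸ H))).comap (QuotientGroup.mk' H) := by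
    rw [hL]; exact (Subgroup.comap_normalizer_eq_of_surjective Xb hπ).symm
  have hQ : (P : Subgroup G) ≤ normalizer (L : Set G) := by
    rw [hnL]
    intro x hx
    rw [mem_comap, hXb]
    apply W.normalizer_le (G ⧸ H) Db
    rw [hDb]
    exact Subgroup.le_normalizer_map (QuotientGroup.mk' H) (mem_map_of_mem _ (hPD hx))
  have hge : (Nat.card G).factorization p ≤ mm p G L := by
    have h2 : p ^ (Nat.card G).factorization p ∣ Nat.card (P : Subgroup G) := by
      rw [P.card_eq_multiplicity]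
    exact (hp.pow_dvd_iff_le_factorization Nat.card_pos.ne').mp
      (h2.trans (Subgroup.card_dvd_of_le hQ))
  have hnpcL : Cfsg.HasNormalPComplement p (normalizer (L : Set G)) := by
    by_contra hbad
    have hB : Bad p G L := ⟨hLp, hL1, hbad⟩
    have h1 := hmax1 L hB
    have h2 := hmax2 L hB (by omega)
    omega
  have hkey : Cfsg.HasNormalPComplement p (normalizer (Xb : Set (G ⧸ H))) := by
    have := npc_map (QuotientGroup.mk' H) _ hnpcL
    rwa [hnL, Subgroup.map_comap_eq_self_of_surjective hπ] at this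
  rw [hXb] at hkey
  exact IH (G ⧸ H) hlt (P.mapSurjective hπ) Db hscb (hyp_of_npc W Db hkey)

/-- The structure of a minimal counterexample. -/
structure DMinCex (p : ℕ) [Fact p.Prime] (W : PFun.{u} p) (G : Type u)
    [Group G] [Finite G] (P : Sylow p G) (D H K : Subgroup G) : Prop where
  sc : Cfsg.IsStronglyClosed D (P : Subgroup G)
  not_npc : ¬ Cfsg.HasNormalPComplement p G
  npc : Cfsg.HasNormalPComplement p (normalizer (W.W G D : Set G))
  H_normal : H.Normal
  K_normal : K.Normal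
  H_pgroup : IsPGroup p H
  H_le_P : H ≤ P
  H_le_K : H ≤ K
  cent_le : centralizer (H : Set G) ≤ H
  core : ∀ L : Subgroup G, L.Normal → IsPGroup p L → L ≤ H
  K_comm : ∀ a ∈ K, ∀ b ∈ K, a * b * a⁻¹ * b⁻¹ ∈ H
  K_q : ∃ q : ℕ, q.Prime ∧ q ≠ p ∧ ∀ k ∈ K, ∃ n : ℕ, k ^ q ^ n ∈ H
  K_sup : K ⊔ (P : Subgroup G) = ⊤
  P_max : ∀ M : Subgroup G, (P : Subgroup G) ≤ M → M = P ∨ M = ⊤

theorem d_reduction_step {G : Type u} [Group G] [Finite G] {p : ℕ} [Fact p.Prime]
    (W : PFun.{u} p)
    (IH : ∀ (G' : Type u) [Group G'] [Finite G'], Nat.card G' < Nat.card G → DStmt p W G')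
    (P : Sylow p G) (D : Subgroup G) (hD : Cfsg.IsStronglyClosed D (P : Subgroup G))
    (hyp : Hyp p W W G D) (hnpc : ¬ Cfsg.HasNormalPComplement p G) :
    ∃ H K : Subgroup G, DMinCex p W G P D H K := by
  have hp : p.Prime := Fact.out
  have hD1 : D ≠ ⊥ := by
    intro h
    apply hnpc
    have h1 := hyp.1
    have h2 : W.W G D = ⊥ := by
      have := W.le G D
      rw [h] at this ⊢
      exact le_bot_iff.mp this
    rw [h2, Subgroup.normalizer_eq_top] at h1
    exact npc_of_top h1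
  obtain ⟨H, hHbad, hmax1, hmax2⟩ := exists_max_bad hnpc
  have hHtop := d_normal_of_max W IH (dhyp_all W P D hD hD1 hyp) H hHbad hmax1
  haveI hHn : H.Normal := Subgroup.normalizer_eq_top_iff.mp hHtop
  have hcore : ∀ L : Subgroup G, L.Normal → IsPGroup p L → L ≤ H := fun L hLn hL => by
    haveI := hLn; exact core_le_of_max H hHbad hmax2 L hL
  have hq := d_quot_npc_of_max W IH P D hD hnpc hyp H hHbad hmax1 hmax2
  obtain ⟨hHp, hH1, -⟩ := hHbad
  rw [Cfsg.Agent.S0072.hasNormalPComplement_iff] at hq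
  obtain ⟨Kb, hKbn, hKbc, a, hKbi⟩ := hq
  haveI := hKbn
  have hπ := QuotientGroup.mk'_surjective H
  have hmemH : ∀ x : G, QuotientGroup.mk' H x = 1 ↔ x ∈ H := fun x => QuotientGroup.eq_one_iff x
  obtain ⟨K, hK⟩ : ∃ K : Subgroup G, K = Kb.comap (QuotientGroup.mk' H) := ⟨_, rfl⟩
  haveI hKn : K.Normal := by rw [hK]; exact hKbn.comap _
  have hHK : H ≤ K := by
    intro x hx
    rw [hK, Subgroup.mem_comap, (hmemH x).mpr hx]; exact one_mem _
  have hKidx : K.index = p ^ a := by
    rw [hK, Subgroup.index_comap_of_surjective _ hπ]; exact hKbi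
  have hKp : ∀ k ∈ K, ∀ n : ℕ, k ^ p ^ n = 1 → k ∈ H := by
    intro k hk n hkn
    rw [hK] at hk
    have h1 : (QuotientGroup.mk' H k) ^ p ^ n = 1 := by rw [← map_pow, hkn, map_one]
    have h2 : (QuotientGroup.mk' H k) ^ Nat.card Kb = 1 := by
      have := pow_card_eq_one' (G := Kb) (x := ⟨QuotientGroup.mk' H k, hk⟩)
      exact congrArg Subtype.val this
    exact (hmemH k).mp (eq_one_of_pow_coprime _ _ _ h2 h1 (Nat.Coprime.pow_right n hKbc))
  have hnopp : ∀ D' : Subgroup G, D'.Normal → Nat.Coprime (Nat.card D') p → D' = ⊥ := by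
    intro D' hDn hD'
    haveI := hDn
    by_contra hD1'
    apply hnpc
    apply npc_of_quotient_coprime D' hD'
    have hlt : Nat.card (G ⧸ D') < Nat.card G := by
      rw [Subgroup.card_eq_card_quotient_mul_card_subgroup D']
      have h1 : 1 < Nat.card D' := (Subgroup.one_lt_card_iff_ne_bot D').mpr hD1'
      have h2 : 0 < Nat.card (G ⧸ D') := Nat.card_pos
      nlinarith
    have hsc' : Cfsg.IsStronglyClosed (D.map (QuotientGroup.mk' D'))
        ((P.mapSurjective (QuotientGroup.mk'_surjective D') : Sylow p (G ⧸ D')) :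
          Subgroup (G ⧸ D')) := by
      rw [Sylow.coe_mapSurjective]
      exact sc_quot_coprime P hD D'
    exact IH (G ⧸ D') hlt (P.mapSurjective (QuotientGroup.mk'_surjective D'))
      (D.map (QuotientGroup.mk' D')) hsc' (hyp_quot W W D' hD' D (P.2.to_le hD.1) hyp)
  have hKb1 : Kb ≠ ⊥ := by
    intro hKb
    apply hnpc
    apply npc_of_isPGroup
    rw [hKb, Subgroup.index_bot] at hKbi
    obtain ⟨k, hk⟩ := IsPGroup.iff_card.mp hHp
    apply IsPGroup.of_card (n := a + k)
    rw [Subgroup.card_eq_card_quotient_mul_card_subgroup H, hKbi, hk, pow_add]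
  have hKH : ¬ K ≤ H := by
    intro hle
    apply hKb1
    rw [← Subgroup.map_comap_eq_self_of_surjective hπ Kb, ← hK, le_antisymm hle hHK]
    exact QuotientGroup.map_mk'_self H
  have hcent : centralizer (H : Set G) ≤ H := by
    obtain ⟨C, hCdef⟩ : ∃ C : Subgroup G, C = centralizer (H : Set G) := ⟨_, rfl⟩
    rw [← hCdef]
    haveI hCn : C.Normal := by rw [hCdef]; infer_instance
    obtain ⟨C₁, hC₁⟩ : ∃ C₁ : Subgroup G, C₁ = C ⊓ K := ⟨_, rfl⟩
    haveI hC₁n : C₁.Normal := by rw [hC₁]; infer_instance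
    have hF : Cfsg.Agent.Lib.lead.Frob p C₁ := by
      intro Q hQ g hg hcop
      rw [Subgroup.mem_centralizer_iff]
      intro q hq
      obtain ⟨n, hn⟩ := hQ ⟨q, hq⟩
      have hn' : (q : G) ^ p ^ n = 1 := by
        have := congrArg (fun x : Q => ((x : C₁) : G)) hn
        simpa using this
      have hq2 : (q : G) ∈ C ⊓ K := by rw [← hC₁]; exact q.2
      have hg2 : (g : G) ∈ C ⊓ K := by rw [← hC₁]; exact g.2
      have hqH : (q : G) ∈ H := hKp _ hq2.2 n hn'
      have hgC : (g : G) ∈ centralizer (H : Set G) := by rw [← hCdef]; exact hg2.1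
      apply Subtype.ext
      simp only [Subgroup.coe_mul]
      exact Subgroup.mem_centralizer_iff.mp hgC _ hqH
    obtain ⟨D', hD'n, hD'c, a', hD'i⟩ :=
      Cfsg.Agent.Lib.lead.frob_main (Nat.card C₁) C₁ p le_rfl hF
    haveI := hD'n
    have hD₁n : (D'.map C₁.subtype).Normal := by
      constructor
      rintro _ ⟨d, hd, rfl⟩ g
      have hmem : g * (d : G) * g⁻¹ ∈ C₁ := hC₁n.conj_mem _ d.2 g
      refine ⟨⟨_, hmem⟩, ?_, rfl⟩
      rw [SetLike.mem_coe, Cfsg.Agent.Lib.lead.mem_iff_coprime D' hD'c hD'i]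
      have h1 := (Cfsg.Agent.Lib.lead.mem_iff_coprime D' hD'c hD'i d).mp hd
      have h2 : orderOf (⟨_, hmem⟩ : C₁) = orderOf d := by
        rw [← Subgroup.orderOf_coe, ← Subgroup.orderOf_coe d]
        exact (MulAut.conj g).orderOf_eq (d : G)
      rw [h2]; exact h1
    have hD₁ := hnopp _ hD₁n
      (by rw [Subgroup.card_map_of_injective C₁.subtype_injective]; exact hD'c)
    rw [Subgroup.map_eq_bot_iff_of_injective _ C₁.subtype_injective] at hD₁
    rw [hD₁, Subgroup.index_bot] at hD'i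
    have hC₁p : IsPGroup p C₁ := IsPGroup.of_card hD'i
    have hC₁H : C₁ ≤ H := hcore C₁ inferInstance hC₁p
    have hCp : IsPGroup p C := by
      rintro ⟨c, hc⟩
      have h1 : c ^ K.index ∈ K := K.pow_index_mem c
      have h2 : c ^ K.index ∈ H := hC₁H (by rw [hC₁]; exact ⟨C.pow_mem hc _, h1⟩)
      obtain ⟨n, hn⟩ := hHp ⟨_, h2⟩
      refine ⟨a + n, Subtype.ext ?_⟩
      have hn' : (c ^ K.index) ^ p ^ n = 1 := by
        have := congrArg Subtype.val hn
        simpa using this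
      rw [hKidx] at hn'
      show c ^ p ^ (a + n) = 1
      rw [pow_add, pow_mul]; exact hn'
    exact hcore C inferInstance hCp
  have hHP : H ≤ P := hHp.le_sylow_of_normal P
  have hpnpc : ∀ M : Subgroup G, H ≤ M → Cfsg.HasNormalPComplement p M → IsPGroup p M :=
    fun M hHM h => isPGroup_of_npc_of_self_centralizing H hHp hcent M hHM h
  have hPmax : ∀ M : Subgroup G, (P : Subgroup G) ≤ M → M = P ∨ M = ⊤ := by
    intro M hPM
    by_cases hM : M = ⊤
    · right; exact hM
    left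
    have hlt : Nat.card M < Nat.card G := by
      have := Cfsg.Agent.Lib.lead.card_lt_of_lt (lt_top_iff_ne_top.mpr hM)
      rwa [Subgroup.card_top] at this
    have h1 : Cfsg.HasNormalPComplement p M := by
      have hR : ((P.subtype hPM : Sylow p M) : Subgroup M).map M.subtype ≤ P := by
        rw [Sylow.coe_subtype, Subgroup.subgroupOf_map_subtype]; exact inf_le_left
      refine IH M hlt (P.subtype hPM) (D.subgroupOf M) (sc_restrict P hD M (P.subtype hPM) hR) ?_
      apply hyp_of_injective W W M.subtype M.subtype_injective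
      rw [Subgroup.map_subgroupOf_eq_of_le (hD.1.trans hPM)]
      exact hyp
    exact P.is_maximal' (hpnpc M (hHP.trans hPM) h1) hPM
  have hKsup : K ⊔ (P : Subgroup G) = ⊤ := by
    rcases hPmax (K ⊔ P) le_sup_right with h | h
    · exfalso
      apply hKH
      intro k hk
      have hkP : k ∈ (P : Subgroup G) := h ▸ (le_sup_left : K ≤ K ⊔ (P : Subgroup G)) hk
      obtain ⟨n, hn⟩ := P.2 ⟨k, hkP⟩
      exact hKp k hk n (by simpa using congrArg Subtype.val hn)
    · exact h
  have hmaxb : ∀ Mb : Subgroup (G ⧸ H), (P : Subgroup G).map (QuotientGroup.mk' H) ≤ Mb →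
      Mb = (P : Subgroup G).map (QuotientGroup.mk' H) ∨ Mb = ⊤ := by
    intro Mb hle
    rcases hPmax (Mb.comap (QuotientGroup.mk' H)) (Subgroup.map_le_iff_le_comap.mp hle) with h | h
    · left
      rw [← h, Subgroup.map_comap_eq_self_of_surjective hπ]
    · right
      rw [← Subgroup.map_comap_eq_self_of_surjective hπ Mb, h,
        Subgroup.map_top_of_surjective _ hπ]
  obtain ⟨hcomm, q, hq, hqp, hKq⟩ := abelian_of_maximal Kb
    ((P : Subgroup G).map (QuotientGroup.mk' H)) hKbc (P.2.map _) hKb1 hmaxb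
  refine ⟨H, K, ?_⟩
  refine
  { sc := hD
    not_npc := hnpc
    npc := hyp.1
    H_normal := hHn
    K_normal := hKn
    H_pgroup := hHp
    H_le_P := hHP
    H_le_K := hHK
    cent_le := hcent
    core := hcore
    K_comm := ?_
    K_q := ⟨q, hq, hqp, ?_⟩
    K_sup := hKsup
    P_max := hPmax }
  · intro x hx y hy
    rw [hK] at hx hy
    rw [← hmemH]
    have h1 := hcomm _ hx _ hy
    simp only [map_mul, map_inv]
    rw [h1]; group
  · intro k hk
    rw [hK] at hk
    obtain ⟨n, hn⟩ := hKq ⟨_, hk⟩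
    refine ⟨n, ?_⟩
    rw [← hmemH, map_pow]
    simpa using congrArg Subtype.val hn

/-- **Reduction.** If no minimal configuration exists, then `NPC N_G(W D)` for a strongly
closed `D` implies that `G` has a normal `p`-complement. -/
theorem d_reduction (p : ℕ) [Fact p.Prime] (W : PFun.{u} p)
    (hfinal : ∀ (G : Type u) [Group G] [Finite G] (P : Sylow p G) (D H K : Subgroup G),
      DMinCex p W G P D H K → False) :
    ∀ (G : Type u) [Group G] [Finite G], DStmt p W G := by
  have key : ∀ n : ℕ, ∀ (G : Type u) [Group G] [Finite G], Nat.card G = n → DStmt p W G := by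
    intro n
    induction n using Nat.strong_induction_on with
    | _ n ih =>
      intro G _ _ hn P D hD hyp
      by_contra hnpc
      subst hn
      obtain ⟨H, K, hmin⟩ := d_reduction_step W
        (fun G' _ _ hlt => ih _ hlt G' rfl) P D hD hyp hnpc
      exact hfinal G P D H K hmin
  intro G _ _
  exact key _ G rfl

/-- The endgame: stability holds in a minimal configuration, so a functor that is normal
in stable self-centralizing situations gives a contradiction. -/
theorem dmincex_false {p : ℕ} [Fact p.Prime] (hp2 : p ≠ 2) (W : PFun.{u} p)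
    (hW : ∀ (G : Type u) [Group G] [Finite G] (P : Sylow p G) (D : Subgroup G),
      Cfsg.IsStronglyClosed D (P : Subgroup G) → ZStabOn p (P : Subgroup G) (Cfsg.pCore p G) →
      centralizer (Cfsg.pCore p G : Set G) ≤ Cfsg.pCore p G → (W.W G D).Normal)
    (G : Type u) [Group G] [Finite G] (P : Sylow p G) (D H K : Subgroup G)
    (h : DMinCex p W G P D H K) : False := by
  haveI := h.H_normal
  haveI := h.K_normal
  have hcore : Cfsg.pCore p G = H :=
    le_antisymm (h.core _ (pCore_normal p G) (pCore_isPGroup p G)) (le_pCore h.H_normal h.H_pgroup)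
  obtain ⟨q, hq, hqp, hKq⟩ := h.K_q
  have hst : ZStabOn p (P : Subgroup G) H :=
    zstabOn_of_quad hp2 P H K h.H_pgroup h.K_comm q hq hqp hKq h.K_sup
  haveI := hW G P D h.sc (by rw [hcore]; exact hst) (by rw [hcore]; exact h.cent_le)
  apply h.not_npc
  have h1 := h.npc
  rw [Subgroup.normalizer_eq_top] at h1
  exact npc_of_top h1

end Cfsg.Agent.Lib.helper15
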