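import Mathlib
import Cfsg.Agent.Lib.helper15.SCRed

/-!
# Glauberman–Thompson for strongly closed subgroups (seat helper15)

`Z(J(·))` (abelian version) and `Ω₁(Z(J_e(·)))` as functors; the normal `p`-complement theorem
for a strongly closed subgroup `D`.
-/

set_option autoImplicit false

namespace Cfsg.Agent.Lib.helper15

open Subgroup Cfsg.Agent.Lib.helper1

universe u

theorem exists_center_order_p {G : Type u} [Group G] [Finite G] {p : ℕ} [Fact p.Prime]
    (D : Subgroup G) (hD : IsPGroup p D) (hne : D ≠ ⊥) :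
    ∃ x ∈ D ⊓ Subgroup.centralizer (D : Set G), x ≠ 1 ∧ x ^ p = 1 := by
  obtain ⟨z, hz, hz1⟩ := exists_center_ne_one D hD hne
  obtain ⟨k₁, hk₁⟩ := hD ⟨z, hz.1⟩
  have hk₁' : z ^ p ^ k₁ = 1 := by simpa using congrArg Subtype.val hk₁
  classical
  have hex : ∃ k, z ^ p ^ k = 1 := ⟨k₁, hk₁'⟩
  have hk₀ : z ^ p ^ Nat.find hex = 1 := Nat.find_spec hex
  have hk₀pos : Nat.find hex ≠ 0 := by
    intro h0
    rw [h0, pow_zero, pow_one] at hk₀
    exact hz1 hk₀
  obtain ⟨j, hj⟩ := Nat.exists_eq_succ_of_ne_zero hk₀pos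
  have hw1 : ¬ z ^ p ^ j = 1 := Nat.find_min hex (by omega)
  refine ⟨z ^ p ^ j, Subgroup.pow_mem _ hz _, hw1, ?_⟩
  rw [← pow_mul, ← pow_succ, ← Nat.succ_eq_add_one, ← hj]; exact hk₀

theorem omegaCenterThompsonOf_ne_bot {G : Type u} [Group G] [Finite G] {p : ℕ} [Fact p.Prime]
    (D : Subgroup G) (hD : IsPGroup p D) (hne : D ≠ ⊥) :
    Cfsg.omegaOne p (Cfsg.centerThompsonOf p D) ≠ ⊥ := by
  obtain ⟨x, ⟨hx1, hx2⟩, hxne, hxp⟩ := exists_center_order_p D hD hne
  rw [omegaOne_centerThompsonOf_eq]
  intro h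
  have hmem : x ∈ sInf (zjFam (fun A : Subgroup G => Cfsg.IsElementaryAbelian p A) D) := by
    rw [Subgroup.mem_sInf]
    intro A hA
    haveI : IsMulCommutative ↥A := hA.2.1.1
    have hcomm : IsMulCommutative ↥(Subgroup.closure ((A : Set G) ∪ {x})) := by
      apply Subgroup.isMulCommutative_closure
      intro y hy z hz
      rcases hy with hy | hy <;> rcases hz with hz | hz
      · exact setLike_mul_comm hy hz
      · rw [Set.mem_singleton_iff] at hz; subst hz
        exact (Subgroup.mem_centralizer_iff.mp hx2 y (hA.1 hy))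
      · rw [Set.mem_singleton_iff] at hy; subst hy
        exact (Subgroup.mem_centralizer_iff.mp hx2 z (hA.1 hz)).symm
      · rw [Set.mem_singleton_iff] at hy hz; rw [hy, hz]
    have hexp : ∀ a ∈ Subgroup.closure ((A : Set G) ∪ {x}), a ^ p = 1 := by
      intro a ha
      induction ha using Subgroup.closure_induction with
      | mem y hy =>
        rcases hy with hy | hy
        · exact hA.2.1.2 y hy
        · rw [Set.mem_singleton_iff] at hy; rw [hy]; exact hxp
      | one => exact one_pow _
      | mul y z hy hz ihy ihz =>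
        have hc : Commute y z := setLike_mul_comm hy hz
        rw [hc.mul_pow, ihy, ihz, one_mul]
      | inv y hy ihy => rw [inv_pow, ihy, inv_one]
    have hle : Subgroup.closure ((A : Set G) ∪ {x}) ≤ D := by
      rw [Subgroup.closure_le]
      rintro y (hy | hy)
      · exact hA.1 hy
      · rw [Set.mem_singleton_iff] at hy; rw [hy]; exact hx1
    have hcard := hA.2.2 _ hle ⟨hcomm, hexp⟩
    have hAle : A ≤ Subgroup.closure ((A : Set G) ∪ {x}) :=
      fun y hy => Subgroup.subset_closure (Or.inl hy)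
    have heq := Subgroup.eq_of_le_of_card_ge hAle hcard
    rw [heq]
    exact Subgroup.subset_closure (Or.inr rfl)
  rw [h, Subgroup.mem_bot] at hmem
  exact hxne hmem

theorem comp_subtype_injective {G Q : Type*} [Group G] [Group Q] (f : G →* Q) (S : Subgroup G)
    (hS : S ⊓ f.ker = ⊥) : Function.Injective (f.comp S.subtype) := by
  rw [injective_iff_map_eq_one]
  intro x hx
  have : (x : G) ∈ S ⊓ f.ker := ⟨x.2, hx⟩
  rw [hS, Subgroup.mem_bot] at this
  exact Subtype.ext this

theorem top_map_comp_subtype {G Q : Type*} [Group G] [Group Q] (f : G →* Q) (S : Subgroup G) :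
    (⊤ : Subgroup S).map (f.comp S.subtype) = S.map f := by
  rw [← Subgroup.map_map, ← MonoidHom.range_eq_map, Subgroup.range_subtype]

theorem top_map_subtype {G : Type*} [Group G] (S : Subgroup G) :
    (⊤ : Subgroup S).map S.subtype = S := by
  rw [← MonoidHom.range_eq_map, Subgroup.range_subtype]

/-- The functor `Z(J(·))`, abelian version. -/
noncomputable def zjA (p : ℕ) [Fact p.Prime] : PFun.{u} p where
  W := fun G _ S => Cfsg.centerThompsonAOf S
  le := fun G _ _ S => centerThompsonAOf_le S
  map := fun G Q _ _ _ _ f S hS => by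
    have h1 := centerThompsonAOf_map (f.comp S.subtype) (comp_subtype_injective f S hS)
      (⊤ : Subgroup S)
    have h2 := centerThompsonAOf_map S.subtype S.subtype_injective (⊤ : Subgroup S)
    rw [top_map_comp_subtype] at h1
    rw [top_map_subtype] at h2
    rw [h1, h2, Subgroup.map_map]
  ne_bot := fun G _ _ S hS hS1 => centerThompsonAOf_ne_bot S hS hS1

/-- The functor `Ω₁(Z(J_e(·)))`, elementary abelian version. -/
noncomputable def zjE (p : ℕ) [Fact p.Prime] : PFun.{u} p where
  W := fun G _ S => Cfsg.omegaOne p (Cfsg.centerThompsonOf p S)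
  le := fun G _ _ S => omegaCenterThompsonOf_le p S
  map := fun G Q _ _ _ _ f S hS => by
    have h1 := omegaCenterThompsonOf_map p (f.comp S.subtype) (comp_subtype_injective f S hS)
      (⊤ : Subgroup S)
    have h2 := omegaCenterThompsonOf_map p S.subtype S.subtype_injective (⊤ : Subgroup S)
    rw [top_map_comp_subtype] at h1
    rw [top_map_subtype] at h2
    rw [h1, h2, Subgroup.map_map]
  ne_bot := fun G _ _ S hS hS1 => omegaCenterThompsonOf_ne_bot S hS hS1

/-- Glauberman–Thompson for a strongly closed subgroup, abelian version. -/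
theorem npc_of_zjA {G : Type u} [Group G] [Finite G] {p : ℕ} [Fact p.Prime] (hp : p ≠ 2)
    (P : Sylow p G) (D : Subgroup G) (hD : Cfsg.IsStronglyClosed D (P : Subgroup G))
    (h : Cfsg.HasNormalPComplement p
      ↥(Subgroup.normalizer ((Cfsg.centerThompsonAOf D) : Set G))) :
    Cfsg.HasNormalPComplement p G :=
  d_reduction p (zjA p) (dmincex_false hp (zjA p) (fun G _ _ P D hD hst hc => by
    show (Cfsg.centerThompsonAOf D).Normal
    rw [centerThompsonAOf_eq]
    exact zj_inf_normal'' hp P D hD _ zjgood_ab hst hc)) G P D hD (hyp_of_npc (zjA p) D h)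

/-- Glauberman–Thompson for a strongly closed subgroup, elementary abelian version. -/
theorem npc_of_zjE {G : Type u} [Group G] [Finite G] {p : ℕ} [Fact p.Prime] (hp : p ≠ 2)
    (P : Sylow p G) (D : Subgroup G) (hD : Cfsg.IsStronglyClosed D (P : Subgroup G))
    (h : Cfsg.HasNormalPComplement p
      ↥(Subgroup.normalizer ((Cfsg.omegaOne p (Cfsg.centerThompsonOf p D)) : Set G))) :
    Cfsg.HasNormalPComplement p G :=
  d_reduction p (zjE p) (dmincex_false hp (zjE p) (fun G _ _ P D hD hst hc => by
    show (Cfsg.omegaOne p (Cfsg.centerThompsonOf p D)).Normal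
    rw [omegaOne_centerThompsonOf_eq]
    exact zj_inf_normal'' hp P D hD _ (zjgood_ea p) hst hc)) G P D hD (hyp_of_npc (zjE p) D h)

end Cfsg.Agent.Lib.helper15
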