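import Mathlib
import Cfsg.Prelude.Def_TwoFusion
import Cfsg.Prelude.Def_Transfer
import Cfsg.Prelude.Def_PLocal
import Cfsg.Prelude.Def_Local
import Cfsg.Prelude.Def_LocalEven
import Cfsg.Agent.Lib.helper15.ZJ2
import Cfsg.Agent.Lib.helper16.PConstr

set_option autoImplicit false

namespace Cfsg.Agent.Lib.helper15

open Cfsg.Agent.Lib.helper8
open scoped commutatorElement

universe u v

/-- Stability in the sense of `ZStabOn`, from the stability clause of `Cfsg.IsPStable` of a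
larger group. -/
theorem zstabOn_of_isPStable {Y : Type v} {X : Type u} [Group Y] [Group X] [Finite Y] [Finite X]
    {p : ℕ} [Fact p.Prime] (ι : Y →* X) (hι : Function.Injective ι) (P_Y Q₀ : Subgroup Y)
    (hs : ∀ A P : Subgroup X, IsPGroup p A → IsPGroup p P →
      (∀ a ∈ A, ∀ x ∈ P, a * x * a⁻¹ ∈ P) → P ≤ Cfsg.pPrimePCore p X →
      (Cfsg.pPrimeCore p X ⊔ P).Normal → ⁅⁅P, A⁆, A⁆ = ⊥ →
      (A.subgroupOf (Subgroup.normalizer (P : Set X))).map
          (QuotientGroup.mk' ((Subgroup.centralizer (P : Set X)).subgroupOf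
            (Subgroup.normalizer (P : Set X))))
        ≤ Cfsg.pCore p _)
    (hP : IsPGroup p P_Y)
    (hQ : ∀ B' : Subgroup Y, B'.Normal → B' ≤ Q₀ →
      B'.map ι ≤ Cfsg.pPrimePCore p X ∧ (Cfsg.pPrimeCore p X ⊔ B'.map ι).Normal ∧ IsPGroup p B') :
    ZStabOn p P_Y Q₀ := by
  apply zstabOn_core ι hι P_Y Q₀
  intro B' hB'n hB'Q hN a ha hquad
  obtain ⟨h1, h2, h3⟩ := hQ B' hB'n hB'Q
  have hA : IsPGroup p ↥(Subgroup.zpowers (ι a)) := by
    have := (hP.to_le (Subgroup.zpowers_le.mpr ha)).map ι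
    rwa [MonoidHom.map_zpowers] at this
  have hAN : Subgroup.zpowers (ι a) ≤ Subgroup.normalizer ((B'.map ι : Subgroup X) : Set X) :=
    Subgroup.zpowers_le.mpr (hN a)
  have hq : ∀ b ∈ B'.map ι, ⁅⁅b, ι a⁆, ι a⁆ = 1 := by
    rintro _ ⟨b, hb, rfl⟩
    rw [← map_commutatorElement, ← map_commutatorElement, hquad b hb, map_one]
  have h4 := hs (Subgroup.zpowers (ι a)) (B'.map ι) hA (h3.map ι)
    (fun a' ha' x hx => conj_mem_of_mem_normalizer (hAN ha') hx) h1 h2
    (quad_zpowers (B'.map ι) (ι a) hq)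
  exact h4 ⟨⟨ι a, hN a⟩, Subgroup.mem_subgroupOf.mpr (Subgroup.mem_zpowers _), rfl⟩

theorem pCore_le_pPrimePCore (p : ℕ) [Fact p.Prime] (X : Type u) [Group X] [Finite X] :
    Cfsg.pCore p X ≤ Cfsg.pPrimePCore p X := by
  haveI := pCore_normal p X
  apply Cfsg.Agent.Lib.helper16.le_pPrimePCore_of_pow
  intro g hg
  obtain ⟨k, hk⟩ := (pCore_isPGroup p X) ⟨g, hg⟩
  refine ⟨k, ?_⟩
  have : g ^ p ^ k = 1 := by simpa using congrArg Subtype.val hk
  rw [this]; exact Subgroup.one_mem _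

/-- The local ZJ-theorem: in a `p`-constrained, `p`-stable group with trivial `p'`-core, the
centre of the Thompson subgroup of a Sylow `p`-subgroup is normal. -/
theorem local_zj {X : Type u} [Group X] [Finite X] {p : ℕ} [Fact p.Prime] (hp : p ≠ 2)
    (hcore : Cfsg.pPrimeCore p X = ⊥) (hpc : Cfsg.IsPConstrained p X)
    (hs : Cfsg.IsPStable p X) (S : Sylow p X) :
    (Cfsg.centerThompsonAOf (S : Subgroup X)).Normal := by
  have hc := (Cfsg.Agent.Lib.helper16.pc_iff_of_core_bot hcore).mp hpc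
  have hst : ZStabOn p (S : Subgroup X) (Cfsg.pCore p X) := by
    apply zstabOn_of_isPStable (MonoidHom.id X) Function.injective_id _ _ hs.2.2 S.isPGroup'
    intro B' hB'n hB'Q
    refine ⟨?_, ?_, (pCore_isPGroup p X).to_le hB'Q⟩
    · rw [Subgroup.map_id]; exact hB'Q.trans (pCore_le_pPrimePCore p X)
    · rw [hcore, bot_sup_eq, Subgroup.map_id]; exact hB'n
  rw [centerThompsonAOf_eq]
  exact zj_inf_normal'' hp S S ⟨le_rfl, fun x hx g hg => hg⟩ _ zjgood_ab hst hc

/-- The local ZJ-theorem for a subgroup `H` of `G` and a largest `p`-subgroup `R` of `H`. -/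
theorem local_zj_sub {G : Type u} [Group G] [Finite G] {p : ℕ} [Fact p.Prime] (hp : p ≠ 2)
    (H : Subgroup G) (hcore : Cfsg.pPrimeCore p ↥H = ⊥) (hpc : Cfsg.IsPConstrained p ↥H)
    (hs : Cfsg.IsPStable p ↥H) (R : Subgroup G) (hR : IsMaxPSub p R H) :
    H ≤ Subgroup.normalizer (Cfsg.centerThompsonAOf R : Set G) := by
  obtain ⟨S, hS⟩ := exists_sylow_map_eq_of_isMaxPSub hR
  have h1 := local_zj hp hcore hpc hs S
  have h2 := centerThompsonAOf_map H.subtype H.subtype_injective (S : Subgroup ↥H)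
  rw [hS] at h2
  rw [h2]
  exact normal_map_subtype_le_normalizer H _ h1

end Cfsg.Agent.Lib.helper15
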