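import Mathlib

set_option autoImplicit false
set_option linter.unusedVariables false

namespace Cfsg.Agent.Lib.helper15.Dk


/-- Lower bound for the size of a torus class. -/
theorem class_lb {G c m ε : ℕ} (h : c * (ε * m) + G = G * m) (hε : ε = 1 ∨ ε = 2) (hm : 2 ≤ m) :
    G ≤ 4 * c := by
  by_contra hlt
  push Not at hlt
  have hε2 : ε ≤ 2 := by rcases hε with h | h <;> omega
  have h1 : c * (ε * m) ≤ c * (2 * m) := Nat.mul_le_mul_left c (Nat.mul_le_mul_right m hε2)
  have h2 : 4 * c * m < G * m := Nat.mul_lt_mul_of_pos_right hlt (by omega)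
  have h3 : G * 2 ≤ G * m := Nat.mul_le_mul_left G hm
  nlinarith [h, h1, h2, h3]

theorem arith_U {z q N n G cU : ℕ} (hz : 1 ≤ z) (hq : 3 ≤ q) (hN : 1 ≤ N)
    (hG : G = N * n) (hU : cU * N + G * z = G * (z * q)) :
    cU + z * n = z * n * q := by
  have h1 : N * (cU + z * n) = N * (z * n * q) := by
    rw [hG] at hU
    nlinarith [hU]
  exact Nat.eq_of_mul_eq_mul_left (by omega) h1



theorem arith1B {z q n G cU c₁ c₂ : ℕ} (hz : 1 ≤ z) (hq : 3 ≤ q) (hn : q + 1 ≤ n)
    (hG : G = z * q * n) (hU : cU + z * n = z * n * q) (h₁ : G ≤ 4 * c₁) (h₂ : G ≤ 4 * c₂)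
    (hB : z + cU + c₁ + c₂ ≤ G) : False := by
  have h3 : 3 * (z * n) ≤ z * n * q := by nlinarith [Nat.zero_le (z * n)]
  have h4 : z * n * q = z * q * n := by ring
  nlinarith [h3, h4]

theorem arith1 {z q n G cU c₁ m₁ ε₁ : ℕ} (hz : 1 ≤ z) (hq : 3 ≤ q) (hn : q + 1 ≤ n)
    (hG : G = z * q * n) (hU : cU + z * n = z * n * q)
    (hm₁ : 2 ≤ m₁) (hε₁ : ε₁ = 1 ∨ ε₁ = 2) (h₁ : c₁ * (ε₁ * m₁) + G = G * m₁)
    (hA : z + cU + c₁ = G) : n = q + 1 := by
  have e1 : c₁ + z = z * n := by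
    have h4 : z * n * q = z * q * n := by ring
    omega
  obtain ⟨c', hc'⟩ : ∃ c', n = c' + 1 := ⟨n - 1, by omega⟩
  have e2 : c₁ = z * c' := by
    rw [hc'] at e1
    have : z * (c' + 1) = z * c' + z := by ring
    omega
  rw [hG, e2] at h₁
  rcases hε₁ with h | h
  · rw [h] at h₁
    have h5 : z * (c' * m₁ + q * n) = z * (q * n * m₁) := by nlinarith [h₁]
    have h6 := Nat.eq_of_mul_eq_mul_left (by omega : 0 < z) h5
    exfalso
    have h7 : 3 * n ≤ q * n := Nat.mul_le_mul_right n hq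
    have h8 : q * n * 2 ≤ q * n * m₁ := Nat.mul_le_mul_left _ hm₁
    nlinarith [h6, h7, h8, hc']
  · rw [h] at h₁
    have h5 : z * (2 * c' * m₁ + q * n) = z * (q * n * m₁) := by nlinarith [h₁]
    have h6 := Nat.eq_of_mul_eq_mul_left (by omega : 0 < z) h5
    have hq3 : q = 3 := by
      by_contra hq3
      have hq4 : 4 ≤ q := by omega
      have h7 : 4 * n ≤ q * n := Nat.mul_le_mul_right n hq4
      have h8 : q * n * 2 ≤ q * n * m₁ := Nat.mul_le_mul_left _ hm₁
      nlinarith [h6, h7, h8, hc']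
    subst hq3
    have hm2 : m₁ = 2 := by
      by_contra hm2
      have hm3 : 3 ≤ m₁ := by omega
      nlinarith [h6, hc', hm3]
    subst hm2
    omega



theorem arith2_cT {z q e n G cT εT : ℕ} (he : 2 ≤ e)
    (hG : G = z * q * e * n) (hεT : εT = 1 ∨ εT = 2) (hT : cT * (εT * e) + G = G * e) :
    (εT = 1 ∧ cT + z * q * n = z * q * e * n) ∨ (εT = 2 ∧ 2 * cT + z * q * n = z * q * e * n) := by
  rw [hG] at hT
  rcases hεT with h | h
  · left
    refine ⟨h, ?_⟩
    rw [h] at hT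
    have h1 : e * (cT + z * q * n) = e * (z * q * e * n) := by nlinarith [hT]
    exact Nat.eq_of_mul_eq_mul_left (by omega) h1
  · right
    refine ⟨h, ?_⟩
    rw [h] at hT
    have h1 : e * (2 * cT + z * q * n) = e * (z * q * e * n) := by nlinarith [hT]
    exact Nat.eq_of_mul_eq_mul_left (by omega) h1

theorem arith2_pre {z q e n G cU cT εT : ℕ} (hz : 1 ≤ z) (hq : 3 ≤ q) (he : 2 ≤ e)
    (hn : q + 1 ≤ n) (hG : G = z * q * e * n) (hU : cU + z * n = z * n * q)
    (hεT : εT = 1 ∨ εT = 2) (hT : cT * (εT * e) + G = G * e) : z + cU + cT < G := by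
  have h1 : z * 2 ≤ z * n := Nat.mul_le_mul_left z (by omega)
  have h2 : z * n * q = z * q * n := by ring
  have h3 : z * q * n * 2 ≤ z * q * n * e := Nat.mul_le_mul_left _ he
  have h4 : z * q * n * e = z * q * e * n := by ring
  rcases arith2_cT he hG hεT hT with ⟨-, h⟩ | ⟨-, h⟩
  · omega
  · omega

theorem arith2_T1 {z q e n G cU cT c₁ : ℕ} (hz : 1 ≤ z) (hq : 3 ≤ q) (he : 2 ≤ e)
    (hn : q + 1 ≤ n) (hG : G = z * q * e * n) (hU : cU + z * n = z * n * q)
    (hT : cT + z * q * n = z * q * e * n) (h₁ : G ≤ 4 * c₁) (hB : z + cU + cT + c₁ ≤ G) :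
    False := by
  have h2 : z * n * q = z * q * n := by ring
  have h3 : 6 * (z * n) ≤ z * q * e * n := by
    have : 6 ≤ q * e := by nlinarith
    calc 6 * (z * n) ≤ (q * e) * (z * n) := Nat.mul_le_mul_right _ this
      _ = z * q * e * n := by ring
  have h5 : 1 ≤ z * n := Nat.mul_pos (by omega) (by omega)
  omega

theorem arith2_B {z q e n G cU cT c₁ c₂ : ℕ} (hz : 1 ≤ z) (hq : 3 ≤ q) (he : 2 ≤ e)
    (hn : q + 1 ≤ n) (hG : G = z * q * e * n) (hU : cU + z * n = z * n * q)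
    (hT : 2 * cT + z * q * n = z * q * e * n) (h₁ : G ≤ 4 * c₁) (h₂ : G ≤ 4 * c₂)
    (hB : z + cU + cT + c₁ + c₂ ≤ G) : False := by
  have h2 : z * n * q = z * q * n := by ring
  have h3 : 3 * (z * n) ≤ z * q * n := by
    calc 3 * (z * n) ≤ q * (z * n) := Nat.mul_le_mul_right _ hq
      _ = z * q * n := by ring
  have h5 : 1 ≤ z * n := Nat.mul_pos (by omega) (by omega)
  omega

theorem arith2_A {z q e n G cU cT c₁ m₁ ε₁ : ℕ} (hz : 1 ≤ z) (hq : 3 ≤ q) (he : 2 ≤ e)
    (heq : e + 1 ≤ q) (hn : q + 1 ≤ n) (hG : G = z * q * e * n) (hU : cU + z * n = z * n * q)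
    (hT : 2 * cT + z * q * n = z * q * e * n) (hm₁ : 2 ≤ m₁) (hε₁ : ε₁ = 1 ∨ ε₁ = 2)
    (h₁ : c₁ * (ε₁ * m₁) + G = G * m₁) (hA : z + cU + cT + c₁ = G) :
    n = q + 1 ∨ (q = 3 ∧ e = 2 ∧ m₁ = 5) := by
  have h2 : z * n * q = z * q * n := by ring
  have e1 : 2 * c₁ + z * q * n + 2 * z = z * q * e * n + 2 * (z * n) := by omega
  -- work over the integers
  have hz' : (1 : ℤ) ≤ z := by exact_mod_cast hz
  have hq' : (3 : ℤ) ≤ q := by exact_mod_cast hq
  have he' : (2 : ℤ) ≤ e := by exact_mod_cast he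
  have heq' : (e : ℤ) + 1 ≤ q := by exact_mod_cast heq
  have hn' : (q : ℤ) + 1 ≤ n := by exact_mod_cast hn
  have hm' : (2 : ℤ) ≤ m₁ := by exact_mod_cast hm₁
  have e1' : 2 * (c₁ : ℤ) = z * q * e * n + 2 * (z * n) - z * q * n - 2 * z := by
    have : (2 * c₁ + z * q * n + 2 * z : ℤ) = z * q * e * n + 2 * (z * n) := by exact_mod_cast e1
    linarith
  have h₁' : (c₁ : ℤ) * (ε₁ * m₁) + z * q * e * n = z * q * e * n * m₁ := by
    rw [hG] at h₁
    exact_mod_cast h₁
  have h5 : (3 : ℤ) * n ≤ q * n := mul_le_mul_of_nonneg_right hq' (by linarith)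
  have h6 : (0 : ℤ) ≤ q * e * n := by positivity
  rcases hε₁ with h | h
  · exfalso
    rw [h] at h₁'
    have h3 : (z : ℤ) * ((q * e * n + 2 * n - q * n - 2) * m₁ + 2 * (q * e * n)) =
        z * (2 * (q * e * n) * m₁) := by
      have : (2 * (c₁ : ℤ)) * m₁ + 2 * (z * q * e * n) = 2 * (z * q * e * n * m₁) := by
        push_cast at h₁'
        linarith
      rw [e1'] at this
      linarith
    have h4 := mul_left_cancel₀ (by linarith : (z : ℤ) ≠ 0) h3
    have hP : (m₁ : ℤ) * (q * e * n + q * n - 2 * n + 2) = 2 * (q * e * n) := by linarith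
    have hPpos : (0 : ℤ) < q * e * n + q * n - 2 * n + 2 := by linarith
    have h7 : 2 * ((q : ℤ) * e * n + q * n - 2 * n + 2) ≤ m₁ * (q * e * n + q * n - 2 * n + 2) :=
      mul_le_mul_of_nonneg_right hm' hPpos.le
    linarith
  · rw [h] at h₁'
    have h3 : (z : ℤ) * ((q * e * n + 2 * n - q * n - 2) * m₁ + q * e * n) =
        z * (q * e * n * m₁) := by
      have : (2 * (c₁ : ℤ)) * m₁ + z * q * e * n = z * q * e * n * m₁ := by
        push_cast at h₁'
        linarith
      rw [e1'] at this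
      linarith
    have h4 := mul_left_cancel₀ (by linarith : (z : ℤ) ≠ 0) h3
    have key : (m₁ : ℤ) * (q * n - 2 * n + 2) = q * e * n := by linarith
    have hpos : (0 : ℤ) < q * n - 2 * n + 2 := by linarith
    have hme : (e : ℤ) < m₁ := by
      by_contra hle
      push Not at hle
      have h8 : (m₁ : ℤ) * (q * n - 2 * n + 2) ≤ e * (q * n - 2 * n + 2) :=
        mul_le_mul_of_nonneg_right hle hpos.le
      have h9 : (e : ℤ) * 4 ≤ e * n := mul_le_mul_of_nonneg_left (by linarith) (by linarith)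
      linarith
    obtain ⟨j, hj⟩ : ∃ j : ℤ, (m₁ : ℤ) = e + j := ⟨m₁ - e, by ring⟩
    have hj1 : 1 ≤ j := by linarith
    have keyj : j * (q * n - 2 * n + 2) = 2 * e * (n - 1) := by
      rw [hj] at key
      linarith
    have hub : 2 * (e : ℤ) * (n - 1) ≤ 2 * (q - 1) * (n - 1) := by
      have := mul_nonneg (by linarith : (0 : ℤ) ≤ q - 1 - e) (by linarith : (0 : ℤ) ≤ (n : ℤ) - 1)
      linarith
    have hj4 : j ≤ 3 := by
      by_contra hj4
      push Not at hj4
      have : 4 * ((q : ℤ) * n - 2 * n + 2) ≤ j * (q * n - 2 * n + 2) :=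
        mul_le_mul_of_nonneg_right (by linarith) hpos.le
      linarith
    have hjc : j = 1 ∨ j = 2 ∨ j = 3 := by omega
    rcases hjc with hj' | hj' | hj'
    · left
      rw [hj'] at keyj
      have ht : (2 * (e : ℤ) - q + 2) * (n - 1) = q := by linarith
      have htpos : (1 : ℤ) ≤ 2 * e - q + 2 := by
        by_contra hneg
        push Not at hneg
        have : (2 * (e : ℤ) - q + 2) * (n - 1) ≤ 0 :=
          mul_nonpos_of_nonpos_of_nonneg (by linarith) (by linarith)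
        linarith
      have h10 := mul_nonneg (by linarith : (0 : ℤ) ≤ 2 * e - q + 2 - 1)
        (by linarith : (0 : ℤ) ≤ (n : ℤ) - 1)
      have : (n : ℤ) = q + 1 := by linarith
      exact_mod_cast this
    · left
      rw [hj'] at keyj
      have ht : ((e : ℤ) - q + 2) * (n - 1) = q := by linarith
      have htpos : (1 : ℤ) ≤ e - q + 2 := by
        by_contra hneg
        push Not at hneg
        have : ((e : ℤ) - q + 2) * (n - 1) ≤ 0 :=
          mul_nonpos_of_nonpos_of_nonneg (by linarith) (by linarith)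
        linarith
      have h10 := mul_nonneg (by linarith : (0 : ℤ) ≤ (e : ℤ) - q + 2 - 1)
        (by linarith : (0 : ℤ) ≤ (n : ℤ) - 1)
      have : (n : ℤ) = q + 1 := by linarith
      exact_mod_cast this
    · right
      rw [hj'] at keyj
      have hq3 : (q : ℤ) = 3 := by
        by_contra hq3
        have hq4 : (4 : ℤ) ≤ q := by omega
        have := mul_nonneg (by linarith : (0 : ℤ) ≤ (q : ℤ) - 4) (by linarith : (0 : ℤ) ≤ (n : ℤ))
        linarith
      have he2 : (e : ℤ) = 2 := by linarith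
      refine ⟨by exact_mod_cast hq3, by exact_mod_cast he2, ?_⟩
      have : (m₁ : ℤ) = 5 := by rw [hj, he2, hj']; norm_num
      exact_mod_cast this

end Cfsg.Agent.Lib.helper15.Dk
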