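import Mathlib

set_option autoImplicit false

namespace Cfsg.Agent.Lib.helper15

section fiber

variable {G : Type*} [Group G]

/-- Counting a finite subgroup through a map whose fibres are the cosets of a subgroup. -/
theorem card_eq_card_mul_card_image {β : Type*} (H K : Subgroup G) [Finite H] (hKH : K ≤ H)
    (f : G → β) (hf : ∀ a ∈ H, ∀ b ∈ H, f a = f b ↔ a⁻¹ * b ∈ K) :
    Nat.card H = Nat.card K * Nat.card (f '' (H : Set G)) := by
  classical
  have h1 := Subgroup.card_eq_card_quotient_mul_card_subgroup (K.subgroupOf H)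
  have h2 : Nat.card (K.subgroupOf H) = Nat.card K :=
    Nat.card_congr (Subgroup.subgroupOfEquivOfLe hKH).toEquiv
  have h3 : Nat.card (H ⧸ K.subgroupOf H) = Nat.card (f '' (H : Set G)) := by
    apply Nat.card_congr
    refine Equiv.ofBijective (Quotient.lift
      (fun a : H => (⟨f a, ⟨a, a.2, rfl⟩⟩ : f '' (H : Set G))) ?_) ⟨?_, ?_⟩
    · intro a b hab
      have hab' : a⁻¹ * b ∈ K.subgroupOf H := QuotientGroup.leftRel_apply.mp hab
      apply Subtype.ext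
      exact (hf a a.2 b b.2).mpr (by simpa [Subgroup.mem_subgroupOf] using hab')
    · intro u v
      refine Quotient.inductionOn₂ u v ?_
      intro a b hab
      apply Quotient.sound
      apply QuotientGroup.leftRel_apply.mpr
      have hab' : f a = f b := congrArg Subtype.val hab
      have := (hf a a.2 b b.2).mp hab'
      simpa [Subgroup.mem_subgroupOf] using this
    · rintro ⟨_, a, ha, rfl⟩
      exact ⟨Quotient.mk _ ⟨a, ha⟩, rfl⟩
  rw [h1, h2, h3, mul_comm]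

end fiber

section cls

variable {G : Type*} [Group G]

/-- Centraliser of an element inside a subgroup. -/
def cenIn (L : Subgroup G) (g : G) : Subgroup G := L ⊓ Subgroup.centralizer {g}

/-- Normaliser inside `L` of the centraliser of an element. -/
def nrmIn (L : Subgroup G) (g : G) : Subgroup G :=
  L ⊓ Subgroup.normalizer (cenIn L g : Set G)

/-- The class of an element: the non-central elements with conjugate centraliser. -/
def clsIn (L Z : Subgroup G) (g : G) : Set G :=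
  {h | h ∈ L ∧ h ∉ Z ∧ ∃ x ∈ L, x⁻¹ * h * x ∈ cenIn L g}

theorem mem_cenIn {L : Subgroup G} {g y : G} : y ∈ cenIn L g ↔ y ∈ L ∧ g * y = y * g := by
  rw [cenIn, Subgroup.mem_inf, Subgroup.mem_centralizer_singleton_iff, eq_comm]

theorem cenIn_le (L : Subgroup G) (g : G) : cenIn L g ≤ L := inf_le_left

theorem nrmIn_le (L : Subgroup G) (g : G) : nrmIn L g ≤ L := inf_le_left

theorem self_mem_cenIn {L : Subgroup G} {g : G} (hg : g ∈ L) : g ∈ cenIn L g :=
  mem_cenIn.mpr ⟨hg, rfl⟩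

/-- Centralisers of non-central elements are abelian, `Z` central. -/
structure CAData (L Z : Subgroup G) : Prop where
  le : Z ≤ L
  central : ∀ z ∈ Z, ∀ a ∈ L, a * z = z * a
  ca : ∀ g ∈ L, g ∉ Z → ∀ a ∈ L, ∀ b ∈ L, g * a = a * g → g * b = b * g → a * b = b * a

variable {L Z : Subgroup G}

theorem CAData.Z_le_cenIn (D : CAData L Z) {g : G} (hg : g ∈ L) : Z ≤ cenIn L g := by
  intro z hz
  exact mem_cenIn.mpr ⟨D.le hz, D.central z hz g hg⟩

theorem CAData.conj_notMem (D : CAData L Z) {h x : G} (hx : x ∈ L) (hh : h ∉ Z) :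
    x⁻¹ * h * x ∉ Z := by
  intro hz
  apply hh
  have h1 := D.central _ hz x hx
  have h2 : h = x⁻¹ * h * x := by
    calc h = x * (x⁻¹ * h * x) * x⁻¹ := by group
      _ = (x⁻¹ * h * x) * x * x⁻¹ := by rw [h1]
      _ = x⁻¹ * h * x := by group
  rw [h2]
  exact hz

theorem CAData.cenIn_le_nrmIn (D : CAData L Z) {g : G} (hg : g ∈ L) (hgZ : g ∉ Z) :
    cenIn L g ≤ nrmIn L g := by
  intro n hn
  refine ⟨cenIn_le L g hn, ?_⟩
  show n ∈ Subgroup.normalizer (cenIn L g : Set G)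
  rw [Subgroup.mem_normalizer_iff]
  intro y
  constructor
  · intro hy
    have hc : n * y = y * n :=
      D.ca g hg hgZ n (cenIn_le L g hn) y (cenIn_le L g hy) (mem_cenIn.mp hn).2 (mem_cenIn.mp hy).2
    have : n * y * n⁻¹ = y := by rw [hc]; group
    rw [this]
    exact hy
  · intro hy
    have hy' : n * y * n⁻¹ ∈ cenIn L g := hy
    have hc : n * (n * y * n⁻¹) = (n * y * n⁻¹) * n :=
      D.ca g hg hgZ n (cenIn_le L g hn) _ (cenIn_le L g hy') (mem_cenIn.mp hn).2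
        (mem_cenIn.mp hy').2
    have : n * y * n⁻¹ = y := mul_left_cancel (a := n) (by rw [hc]; group)
    rw [← this]
    exact hy'

theorem CAData.cenIn_eq (D : CAData L Z) {g m : G} (hg : g ∈ L) (hgZ : g ∉ Z)
    (hm : m ∈ cenIn L g) (hmZ : m ∉ Z) : cenIn L m = cenIn L g := by
  have hmL := cenIn_le L g hm
  have hmg := (mem_cenIn.mp hm).2
  ext y
  rw [mem_cenIn, mem_cenIn]
  constructor
  · rintro ⟨hy, hc⟩
    refine ⟨hy, ?_⟩
    exact (D.ca m hmL hmZ y hy g hg hc hmg.symm).symm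
  · rintro ⟨hy, hc⟩
    refine ⟨hy, ?_⟩
    exact (D.ca g hg hgZ y hy m hmL hc hmg).symm

theorem mem_cenIn_conj {x m y : G} (hx : x ∈ L) :
    y ∈ cenIn L (x * m * x⁻¹) ↔ x⁻¹ * y * x ∈ cenIn L m := by
  rw [mem_cenIn, mem_cenIn]
  constructor
  · rintro ⟨hy, hc⟩
    refine ⟨L.mul_mem (L.mul_mem (L.inv_mem hx) hy) hx, ?_⟩
    calc m * (x⁻¹ * y * x) = x⁻¹ * ((x * m * x⁻¹) * y) * x := by group
      _ = x⁻¹ * (y * (x * m * x⁻¹)) * x := by rw [hc]
      _ = x⁻¹ * y * x * m := by group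
  · rintro ⟨hy, hc⟩
    have hy' : y ∈ L := by
      have := L.mul_mem (L.mul_mem hx hy) (L.inv_mem hx)
      have h2 : x * (x⁻¹ * y * x) * x⁻¹ = y := by group
      rwa [h2] at this
    refine ⟨hy', ?_⟩
    calc x * m * x⁻¹ * y = x * (m * (x⁻¹ * y * x)) * x⁻¹ := by group
      _ = x * ((x⁻¹ * y * x) * m) * x⁻¹ := by rw [hc]
      _ = y * (x * m * x⁻¹) := by group

theorem CAData.self_mem_clsIn (_D : CAData L Z) {g : G} (hg : g ∈ L) (hgZ : g ∉ Z) :
    g ∈ clsIn L Z g :=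
  ⟨hg, hgZ, 1, L.one_mem, by simpa using self_mem_cenIn hg⟩

theorem clsIn_subset (L Z : Subgroup G) (g : G) : clsIn L Z g ⊆ (L : Set G) := fun _ h => h.1

/-- Classes are equivalence classes. -/
theorem CAData.clsIn_eq (D : CAData L Z) {g h : G} (hg : g ∈ L) (hgZ : g ∉ Z)
    (hh : h ∈ clsIn L Z g) : clsIn L Z h = clsIn L Z g := by
  obtain ⟨hhL, hhZ, x, hx, hm⟩ := hh
  have hmZ : x⁻¹ * h * x ∉ Z := D.conj_notMem hx hhZ
  have hmL : x⁻¹ * h * x ∈ L := cenIn_le L g hm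
  have hceq := D.cenIn_eq hg hgZ hm hmZ
  have hhx : h = x * (x⁻¹ * h * x) * x⁻¹ := by group
  ext k
  constructor
  · rintro ⟨hkL, hkZ, w, hw, hwk⟩
    refine ⟨hkL, hkZ, w * x, L.mul_mem hw hx, ?_⟩
    rw [hhx, mem_cenIn_conj hx, hceq] at hwk
    have : (w * x)⁻¹ * k * (w * x) = x⁻¹ * (w⁻¹ * k * w) * x := by group
    rw [this]
    exact hwk
  · rintro ⟨hkL, hkZ, w, hw, hwk⟩
    refine ⟨hkL, hkZ, w * x⁻¹, L.mul_mem hw (L.inv_mem hx), ?_⟩
    rw [hhx, mem_cenIn_conj hx, hceq]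
    have : x⁻¹ * ((w * x⁻¹)⁻¹ * k * (w * x⁻¹)) * x = w⁻¹ * k * w := by group
    rw [this]
    exact hwk

theorem CAData.clsIn_disjoint (D : CAData L Z) {g g' : G} (hg : g ∈ L) (hgZ : g ∉ Z)
    (hg' : g' ∈ L) (hgZ' : g' ∉ Z) (hne : g' ∉ clsIn L Z g) :
    Disjoint (clsIn L Z g) (clsIn L Z g') := by
  rw [Set.disjoint_left]
  intro k hk hk'
  apply hne
  have h1 := D.clsIn_eq hg hgZ hk
  have h2 := D.clsIn_eq hg' hgZ' hk'
  rw [← h1, h2]
  exact D.self_mem_clsIn hg' hgZ'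

theorem pow_card_cenIn_of_mem_clsIn [Finite G] {g h : G} (hh : h ∈ clsIn L Z g) :
    h ^ Nat.card (cenIn L g) = 1 := by
  obtain ⟨-, -, x, -, hm⟩ := hh
  have h1 : (⟨x⁻¹ * h * x, hm⟩ : cenIn L g) ^ Nat.card (cenIn L g) = 1 := pow_card_eq_one'
  have h2 : (x⁻¹ * h * x) ^ Nat.card (cenIn L g) = 1 := by
    have := congrArg Subtype.val h1
    rw [Subgroup.coe_pow] at this
    exact this
  have h3 : h = x * (x⁻¹ * h * x) * x⁻¹ := by group
  rw [h3, conj_pow, h2]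
  group

/-- The count of a class. -/
theorem CAData.cls_count [Finite G] (D : CAData L Z) {g : G} (hg : g ∈ L) (hgZ : g ∉ Z) :
    Nat.card (clsIn L Z g) * Nat.card (nrmIn L g) + Nat.card L * Nat.card Z =
      Nat.card L * Nat.card (cenIn L g) := by
  classical
  -- the non-central part of the centraliser
  have hcard : Nat.card {m : G // m ∈ cenIn L g ∧ m ∉ Z} + Nat.card Z = Nat.card (cenIn L g) := by
    have hsub : (Z : Set G) ⊆ (cenIn L g : Set G) := D.Z_le_cenIn hg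
    have h1 : Nat.card {m : G // m ∈ cenIn L g ∧ m ∉ Z} =
        ((cenIn L g : Set G) \ (Z : Set G)).ncard := by
      rw [← Nat.card_coe_set_eq]
      rfl
    have h2 : Nat.card Z = (Z : Set G).ncard := by
      rw [← Nat.card_coe_set_eq]
      rfl
    have h3 : Nat.card (cenIn L g) = (cenIn L g : Set G).ncard := by
      rw [← Nat.card_coe_set_eq]
      rfl
    rw [h1, h2, h3]
    exact Set.ncard_sdiff_add_ncard_of_subset hsub (Set.toFinite _)
  have hx₀ : ∀ c : clsIn L Z g, ∃ x ∈ L, x⁻¹ * (c : G) * x ∈ cenIn L g := fun c => c.2.2.2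
  choose x₀ hx₀L hx₀c using hx₀
  have key : Nat.card (clsIn L Z g × nrmIn L g) =
      Nat.card (L × {m : G // m ∈ cenIn L g ∧ m ∉ Z}) := by
    apply Nat.card_congr
    refine Equiv.ofBijective (fun cn => (⟨x₀ cn.1 * cn.2, L.mul_mem (hx₀L cn.1) (nrmIn_le L g cn.2.2)⟩,
      ⟨(x₀ cn.1 * cn.2)⁻¹ * (cn.1 : G) * (x₀ cn.1 * cn.2), ?_, ?_⟩)) ⟨?_, ?_⟩
    · have hn : ((cn.2 : G))⁻¹ ∈ Subgroup.normalizer (cenIn L g : Set G) :=
        (Subgroup.normalizer _).inv_mem cn.2.2.2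
      have := (Subgroup.mem_normalizer_iff.mp hn _).mp (hx₀c cn.1)
      have h2 : (x₀ cn.1 * (cn.2 : G))⁻¹ * (cn.1 : G) * (x₀ cn.1 * cn.2) =
          (cn.2 : G)⁻¹ * ((x₀ cn.1)⁻¹ * (cn.1 : G) * x₀ cn.1) * ((cn.2 : G)⁻¹)⁻¹ := by group
      rw [h2]
      exact this
    · exact D.conj_notMem (L.mul_mem (hx₀L cn.1) (nrmIn_le L g cn.2.2)) cn.1.2.2.1
    · rintro ⟨c, n⟩ ⟨c', n'⟩ heq
      simp only [Prod.mk.injEq, Subtype.mk.injEq] at heq
      obtain ⟨h1, h2⟩ := heq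
      have hc : (c : G) = (c' : G) := by
        rw [h1] at h2
        have h3 : (c : G) = (x₀ c' * n') * ((x₀ c' * ↑n')⁻¹ * ↑c * (x₀ c' * ↑n')) * (x₀ c' * n')⁻¹ := by
          group
        rw [h3, h2]
        group
      have hc' : c = c' := Subtype.ext hc
      subst hc'
      have hn : (n : G) = n' := mul_left_cancel h1
      rw [Subtype.ext hn]
    · rintro ⟨x, m, hm, hmZ⟩
      have hcmem : (x : G) * m * (x : G)⁻¹ ∈ clsIn L Z g := by
        refine ⟨L.mul_mem (L.mul_mem x.2 (cenIn_le L g hm)) (L.inv_mem x.2), ?_, x, x.2, ?_⟩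
        · have := D.conj_notMem (L.inv_mem x.2) hmZ
          simpa using this
        · have : (x : G)⁻¹ * ((x : G) * m * (x : G)⁻¹) * x = m := by group
          rw [this]
          exact hm
      obtain ⟨c, hc⟩ : ∃ c : clsIn L Z g, c = ⟨(x : G) * m * (x : G)⁻¹, hcmem⟩ := ⟨_, rfl⟩
      have hcv : (c : G) = (x : G) * m * (x : G)⁻¹ := by rw [hc]
      have hnmem : (x₀ c)⁻¹ * (x : G) ∈ nrmIn L g := by
        refine ⟨L.mul_mem (L.inv_mem (hx₀L c)) x.2, ?_⟩
        have hm₀ := hx₀c c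
        have hm₀Z : (x₀ c)⁻¹ * (c : G) * x₀ c ∉ Z := D.conj_notMem (hx₀L c) c.2.2.1
        have e1 := D.cenIn_eq hg hgZ hm hmZ
        have e2 := D.cenIn_eq hg hgZ hm₀ hm₀Z
        have hnL : (x₀ c)⁻¹ * (x : G) ∈ L := L.mul_mem (L.inv_mem (hx₀L c)) x.2
        have hconj : (x₀ c)⁻¹ * (c : G) * x₀ c =
            ((x₀ c)⁻¹ * (x : G)) * m * ((x₀ c)⁻¹ * (x : G))⁻¹ := by
          rw [hcv]; group
        show (x₀ c)⁻¹ * (x : G) ∈ Subgroup.normalizer (cenIn L g : Set G)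
        rw [Subgroup.mem_normalizer_iff]
        intro y
        have hR : ((x₀ c)⁻¹ * (x : G) * y * ((x₀ c)⁻¹ * (x : G))⁻¹ ∈ cenIn L g) ↔ y ∈ cenIn L m := by
          rw [← e2, hconj, mem_cenIn_conj hnL]
          have : ((x₀ c)⁻¹ * (x : G))⁻¹ * ((x₀ c)⁻¹ * (x : G) * y * ((x₀ c)⁻¹ * (x : G))⁻¹) *
              ((x₀ c)⁻¹ * (x : G)) = y := by group
          rw [this]
        rw [hR, e1]
      refine ⟨(c, ⟨(x₀ c)⁻¹ * (x : G), hnmem⟩), ?_⟩
      simp only [Prod.mk.injEq, Subtype.mk.injEq]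
      refine ⟨Subtype.ext ?_, ?_⟩
      · show x₀ c * ((x₀ c)⁻¹ * (x : G)) = x
        group
      · rw [hcv]
        group
  rw [Nat.card_prod, Nat.card_prod] at key
  rw [key, ← hcard]
  ring

/-- Saturated sets: unions of `Z` and of classes. -/
def CAData.Sat (_D : CAData L Z) (T : Set G) : Prop :=
  (Z : Set G) ⊆ T ∧ T ⊆ (L : Set G) ∧ ∀ g ∈ L, g ∉ T → Disjoint T (clsIn L Z g)

theorem CAData.sat_Z (D : CAData L Z) : D.Sat (Z : Set G) := by
  refine ⟨subset_rfl, D.le, ?_⟩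
  intro g _ _
  rw [Set.disjoint_left]
  intro k hk hk'
  exact hk'.2.1 hk

theorem CAData.sat_union [Finite G] (D : CAData L Z) {T : Set G} (hT : D.Sat T) {g : G}
    (hg : g ∈ L) (hgT : g ∉ T) :
    D.Sat (T ∪ clsIn L Z g) ∧ (T ∪ clsIn L Z g).ncard = T.ncard + (clsIn L Z g).ncard := by
  obtain ⟨h1, h2, h3⟩ := hT
  have hgZ : g ∉ Z := fun h => hgT (h1 h)
  refine ⟨⟨h1.trans Set.subset_union_left, Set.union_subset h2 (clsIn_subset L Z g), ?_⟩, ?_⟩
  · intro g' hg' hg'T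
    have hg'T' : g' ∉ T := fun h => hg'T (Or.inl h)
    have hg'Z : g' ∉ Z := fun h => hg'T' (h1 h)
    rw [Set.disjoint_union_left]
    exact ⟨h3 g' hg' hg'T', D.clsIn_disjoint hg hgZ hg' hg'Z (fun h => hg'T (Or.inr h))⟩
  · exact Set.ncard_union_eq (h3 g hg hgT) (Set.toFinite _) (Set.toFinite _)

theorem CAData.sat_card_le [Finite G] (D : CAData L Z) {T : Set G} (hT : D.Sat T) :
    T.ncard ≤ Nat.card L := by
  have h1 : Nat.card L = (L : Set G).ncard := by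
    rw [← Nat.card_coe_set_eq]; rfl
  rw [h1]
  exact Set.ncard_le_ncard hT.2.1 (Set.toFinite _)

theorem CAData.sat_card_eq [Finite G] (D : CAData L Z) {T : Set G} (hT : D.Sat T)
    (hcov : ∀ g ∈ L, g ∈ T) : T.ncard = Nat.card L := by
  have h1 : Nat.card L = (L : Set G).ncard := by
    rw [← Nat.card_coe_set_eq]; rfl
  rw [h1]
  congr 1
  exact Set.Subset.antisymm hT.2.1 hcov

end cls

end Cfsg.Agent.Lib.helper15
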