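import Mathlib

set_option autoImplicit false

namespace Cfsg.Agent.Lib.helper15.Dk

open Matrix

/-- The group `SL₂(F)`. -/
abbrev SL2 (F : Type*) [Field F] : Type _ := Matrix.SpecialLinearGroup (Fin 2) F

section entries

variable {F : Type*} [Field F]

/-- The four entries. -/
def ea (g : SL2 F) : F := (g : Matrix (Fin 2) (Fin 2) F) 0 0
def eb (g : SL2 F) : F := (g : Matrix (Fin 2) (Fin 2) F) 0 1
def ec (g : SL2 F) : F := (g : Matrix (Fin 2) (Fin 2) F) 1 0
def ed (g : SL2 F) : F := (g : Matrix (Fin 2) (Fin 2) F) 1 1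

@[simp] theorem ea_mul (g h : SL2 F) : ea (g * h) = ea g * ea h + eb g * ec h := by
  simp [ea, eb, ec, Matrix.SpecialLinearGroup.coe_mul, Matrix.mul_apply, Fin.sum_univ_two]
@[simp] theorem eb_mul (g h : SL2 F) : eb (g * h) = ea g * eb h + eb g * ed h := by
  simp [ea, eb, ed, Matrix.SpecialLinearGroup.coe_mul, Matrix.mul_apply, Fin.sum_univ_two]
@[simp] theorem ec_mul (g h : SL2 F) : ec (g * h) = ec g * ea h + ed g * ec h := by
  simp [ea, ec, ed, Matrix.SpecialLinearGroup.coe_mul, Matrix.mul_apply, Fin.sum_univ_two]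
@[simp] theorem ed_mul (g h : SL2 F) : ed (g * h) = ec g * eb h + ed g * ed h := by
  simp [eb, ec, ed, Matrix.SpecialLinearGroup.coe_mul, Matrix.mul_apply, Fin.sum_univ_two]

@[simp] theorem ea_inv (g : SL2 F) : ea g⁻¹ = ed g := by
  simp [ea, ed, Matrix.SpecialLinearGroup.coe_inv, Matrix.adjugate_fin_two]
@[simp] theorem eb_inv (g : SL2 F) : eb g⁻¹ = -eb g := by
  simp [eb, Matrix.SpecialLinearGroup.coe_inv, Matrix.adjugate_fin_two]
@[simp] theorem ec_inv (g : SL2 F) : ec g⁻¹ = -ec g := by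
  simp [ec, Matrix.SpecialLinearGroup.coe_inv, Matrix.adjugate_fin_two]
@[simp] theorem ed_inv (g : SL2 F) : ed g⁻¹ = ea g := by
  simp [ea, ed, Matrix.SpecialLinearGroup.coe_inv, Matrix.adjugate_fin_two]

@[simp] theorem ea_one : ea (1 : SL2 F) = 1 := by simp [ea]
@[simp] theorem eb_one : eb (1 : SL2 F) = 0 := by simp [eb]
@[simp] theorem ec_one : ec (1 : SL2 F) = 0 := by simp [ec]
@[simp] theorem ed_one : ed (1 : SL2 F) = 1 := by simp [ed]

theorem det_eq (g : SL2 F) : ea g * ed g - eb g * ec g = 1 := by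
  have hdet := g.det_coe
  rw [Matrix.det_fin_two] at hdet
  exact hdet

theorem ext4 {g h : SL2 F} (h1 : ea g = ea h) (h2 : eb g = eb h) (h3 : ec g = ec h)
    (h4 : ed g = ed h) : g = h := by
  apply Subtype.ext
  ext i j
  fin_cases i <;> fin_cases j
  · exact h1
  · exact h2
  · exact h3
  · exact h4

/-- The element with given entries. -/
def mk4 (a b c d : F) (h : a * d - b * c = 1) : SL2 F :=
  ⟨!![a, b; c, d], by rw [Matrix.det_fin_two]; simpa using h⟩

@[simp] theorem ea_mk4 (a b c d : F) (h : a * d - b * c = 1) : ea (mk4 a b c d h) = a := rfl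
@[simp] theorem eb_mk4 (a b c d : F) (h : a * d - b * c = 1) : eb (mk4 a b c d h) = b := rfl
@[simp] theorem ec_mk4 (a b c d : F) (h : a * d - b * c = 1) : ec (mk4 a b c d h) = c := rfl
@[simp] theorem ed_mk4 (a b c d : F) (h : a * d - b * c = 1) : ed (mk4 a b c d h) = d := rfl

/-- The trace. -/
def tr (g : SL2 F) : F := ea g + ed g

theorem tr_eq_trace (g : SL2 F) : tr g = (g : Matrix (Fin 2) (Fin 2) F).trace := by
  rw [Matrix.trace_fin_two]; rfl

theorem tr_conj (x g : SL2 F) : tr (x * g * x⁻¹) = tr g := by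
  simp only [tr, ea_mul, eb_mul, ec_mul, ed_mul, ea_inv, eb_inv, ec_inv, ed_inv]
  linear_combination (ea g + ed g) * det_eq x

theorem tr_conj' (x g : SL2 F) : tr (x⁻¹ * g * x) = tr g := by
  have := tr_conj x⁻¹ g
  rwa [inv_inv] at this

theorem tr_inv (g : SL2 F) : tr g⁻¹ = tr g := by
  simp only [tr, ea_inv, ed_inv]; ring

theorem tr_mul_comm (g h : SL2 F) : tr (g * h) = tr (h * g) := by
  simp only [tr, ea_mul, ed_mul]; ring

/-- Upper and lower unitriangular elements. -/
def uu (s : F) : SL2 F := mk4 1 s 0 1 (by ring)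
def ll (t : F) : SL2 F := mk4 1 0 t 1 (by ring)

@[simp] theorem ea_uu (s : F) : ea (uu s) = 1 := rfl
@[simp] theorem eb_uu (s : F) : eb (uu s) = s := rfl
@[simp] theorem ec_uu (s : F) : ec (uu s) = 0 := rfl
@[simp] theorem ed_uu (s : F) : ed (uu s) = 1 := rfl
@[simp] theorem ea_ll (s : F) : ea (ll s) = 1 := rfl
@[simp] theorem eb_ll (s : F) : eb (ll s) = 0 := rfl
@[simp] theorem ec_ll (s : F) : ec (ll s) = s := rfl
@[simp] theorem ed_ll (s : F) : ed (ll s) = 1 := rfl

theorem uu_add (s t : F) : uu (s + t) = uu s * uu t := by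
  apply ext4 <;> simp [add_comm]

theorem uu_zero : uu (0 : F) = 1 := by
  apply ext4 <;> simp

theorem uu_neg (s : F) : uu (-s) = (uu s)⁻¹ := by
  apply ext4 <;> simp

theorem ll_add (s t : F) : ll (s + t) = ll s * ll t := by
  apply ext4 <;> simp

theorem ll_zero : ll (0 : F) = 1 := by
  apply ext4 <;> simp

theorem tr_uu (s : F) : tr (uu s) = 2 := by
  simp only [tr, ea_uu, ed_uu]; norm_num

theorem tr_ll (s : F) : tr (ll s) = 2 := by
  simp only [tr, ea_ll, ed_ll]; norm_num

theorem uu_injective : Function.Injective (uu : F → SL2 F) := by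
  intro s t h
  have := congrArg eb h
  simpa using this

/-- Commutation in entries. -/
theorem comm_iff (g h : SL2 F) : g * h = h * g ↔
    (eb g * ec h = eb h * ec g ∧ eb g * (ea h - ed h) = eb h * (ea g - ed g) ∧
      ec g * (ea h - ed h) = ec h * (ea g - ed g)) := by
  constructor
  · intro hc
    have h1 := congrArg ea hc
    have h2 := congrArg eb hc
    have h3 := congrArg ec hc
    simp only [ea_mul, eb_mul, ec_mul] at h1 h2 h3
    refine ⟨by linear_combination h1, by linear_combination -h2, by linear_combination h3⟩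
  · rintro ⟨h1, h2, h3⟩
    apply ext4 <;> simp only [ea_mul, eb_mul, ec_mul, ed_mul]
    · linear_combination h1
    · linear_combination -h2
    · linear_combination h3
    · linear_combination -h1

/-- Scalar elements. -/
def IsScal (g : SL2 F) : Prop := eb g = 0 ∧ ec g = 0 ∧ ea g = ed g

theorem prop_of_cross {u1 u2 u3 w1 w2 w3 : F} (h12 : w1 * u2 = u1 * w2) (h13 : w1 * u3 = u1 * w3)
    (h23 : w2 * u3 = u2 * w3) (hw : ¬ (w1 = 0 ∧ w2 = 0 ∧ w3 = 0)) :
    ∃ r : F, u1 = r * w1 ∧ u2 = r * w2 ∧ u3 = r * w3 := by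
  by_cases h1 : w1 = 0
  · by_cases h2 : w2 = 0
    · have h3 : w3 ≠ 0 := fun h3 => hw ⟨h1, h2, h3⟩
      refine ⟨u3 / w3, ?_, ?_, ?_⟩
      · rw [h1, mul_zero]
        have : u1 * w3 = 0 := by rw [← h13, h1, zero_mul]
        exact (mul_eq_zero.mp this).resolve_right h3
      · rw [h2, mul_zero]
        have : u2 * w3 = 0 := by rw [← h23, h2, zero_mul]
        exact (mul_eq_zero.mp this).resolve_right h3
      · field_simp
    · refine ⟨u2 / w2, ?_, ?_, ?_⟩
      · rw [h1, mul_zero]
        have : u1 * w2 = 0 := by rw [← h12, h1, zero_mul]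
        exact (mul_eq_zero.mp this).resolve_right h2
      · field_simp
      · field_simp
        linear_combination h23
  · refine ⟨u1 / w1, ?_, ?_, ?_⟩
    · field_simp
    · field_simp
      linear_combination h12
    · field_simp
      linear_combination h13

/-- Commuting is transitive through a non-scalar element. -/
theorem comm_trans (g a b : SL2 F) (hg : ¬ IsScal g) (ha : g * a = a * g) (hb : g * b = b * g) :
    a * b = b * a := by
  obtain ⟨a1, a2, a3⟩ := (comm_iff g a).mp ha
  obtain ⟨b1, b2, b3⟩ := (comm_iff g b).mp hb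
  obtain ⟨r, r1, r2, r3⟩ := prop_of_cross (u1 := eb a) (u2 := ec a) (u3 := ea a - ed a)
    (w1 := eb g) (w2 := ec g) (w3 := ea g - ed g) a1 a2 a3
    (fun h => hg ⟨h.1, h.2.1, by linear_combination h.2.2⟩)
  obtain ⟨s, s1, s2, s3⟩ := prop_of_cross (u1 := eb b) (u2 := ec b) (u3 := ea b - ed b)
    (w1 := eb g) (w2 := ec g) (w3 := ea g - ed g) b1 b2 b3
    (fun h => hg ⟨h.1, h.2.1, by linear_combination h.2.2⟩)
  rw [comm_iff]
  refine ⟨?_, ?_, ?_⟩
  · rw [r1, r2, s1, s2]; ring
  · rw [r1, r3, s1, s3]; ring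
  · rw [r2, r3, s2, s3]; ring

theorem IsScal.comm {z : SL2 F} (hz : IsScal z) (a : SL2 F) : a * z = z * a := by
  obtain ⟨h1, h2, h3⟩ := hz
  rw [comm_iff]
  refine ⟨?_, ?_, ?_⟩
  · rw [h1, h2]; ring
  · rw [h1, h3]; ring
  · rw [h2, h3]; ring

theorem IsScal.sq {z : SL2 F} (hz : IsScal z) : z * z = 1 := by
  obtain ⟨h1, h2, h3⟩ := hz
  have hd := det_eq z
  rw [h1, zero_mul, sub_zero] at hd
  apply ext4 <;> simp only [ea_mul, eb_mul, ec_mul, ed_mul, ea_one, eb_one, ec_one, ed_one]
  · rw [h1, zero_mul, add_zero, ← hd, h3]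
  · rw [h1]; ring
  · rw [h2]; ring
  · rw [h1, mul_zero, zero_add, ← hd, h3]

/-- The subgroup of scalar elements. -/
def scal (F : Type*) [Field F] : Subgroup (SL2 F) where
  carrier := {g | IsScal g}
  mul_mem' := by
    rintro g h ⟨g1, g2, g3⟩ ⟨h1, h2, h3⟩
    refine ⟨?_, ?_, ?_⟩
    · simp only [eb_mul]; rw [g1, h1]; ring
    · simp only [ec_mul]; rw [g2, h2]; ring
    · simp only [ea_mul, ed_mul]; rw [g1, g2, g3, h3]; ring
  one_mem' := ⟨by simp, by simp, by simp⟩
  inv_mem' := by
    rintro g ⟨g1, g2, g3⟩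
    refine ⟨?_, ?_, ?_⟩
    · simp only [eb_inv]; rw [g1]; ring
    · simp only [ec_inv]; rw [g2]; ring
    · simp only [ea_inv, ed_inv]; rw [g3]

theorem mem_scal {g : SL2 F} : g ∈ scal F ↔ IsScal g := Iff.rfl

/-- The element `-1`. -/
def negOne (F : Type*) [Field F] : SL2 F := mk4 (-1) 0 0 (-1) (by ring)

theorem IsScal.eq_one_or {z : SL2 F} (hz : IsScal z) : z = 1 ∨ z = negOne F := by
  obtain ⟨h1, h2, h3⟩ := hz
  have hd := det_eq z
  rw [h1, zero_mul, sub_zero, ← h3] at hd
  have : (ea z - 1) * (ea z + 1) = 0 := by linear_combination hd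
  rcases mul_eq_zero.mp this with h | h
  · left
    have ha : ea z = 1 := by linear_combination h
    apply ext4 <;> simp only [ea_one, eb_one, ec_one, ed_one]
    · exact ha
    · exact h1
    · exact h2
    · rw [← h3, ha]
  · right
    have ha : ea z = -1 := by linear_combination h
    apply ext4 <;> simp only [negOne, ea_mk4, eb_mk4, ec_mk4, ed_mk4]
    · exact ha
    · exact h1
    · exact h2
    · rw [← h3, ha]

theorem card_scal_le [Finite F] (Z : Subgroup (SL2 F)) (hZ : Z ≤ scal F) : Nat.card Z ≤ 2 := by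
  classical
  have h1 : (Z : Set (SL2 F)) ⊆ {1, negOne F} := by
    intro z hz
    rcases (mem_scal.mp (hZ hz)).eq_one_or with h | h
    · left; exact h
    · right; exact h
  have h2 : (Z : Set (SL2 F)).ncard ≤ ({1, negOne F} : Set (SL2 F)).ncard :=
    Set.ncard_le_ncard h1 (Set.toFinite _)
  have h3 : ({1, negOne F} : Set (SL2 F)).ncard ≤ 2 := by
    have := Set.ncard_insert_le (1 : SL2 F) {negOne F}
    rw [Set.ncard_singleton] at this
    exact this
  have h4 : Nat.card Z = (Z : Set (SL2 F)).ncard := by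
    rw [← Nat.card_coe_set_eq]; rfl
  omega

/-- Torus lemma: an element commuting with a regular semisimple `s`, of the same trace. -/
theorem eq_or_inv_of_comm_tr (h2 : (2 : F) ≠ 0) (s h : SL2 F) (hns : ¬ IsScal s)
    (ht : tr s ^ 2 ≠ 4) (hc : s * h = h * s) (htr : tr h = tr s) : h = s ∨ h = s⁻¹ := by
  obtain ⟨a1, a2, a3⟩ := (comm_iff s h).mp hc
  obtain ⟨r, r1, r2, r3⟩ := prop_of_cross (u1 := eb h) (u2 := ec h) (u3 := ea h - ed h)
    (w1 := eb s) (w2 := ec s) (w3 := ea s - ed s) a1 a2 a3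
    (fun h => hns ⟨h.1, h.2.1, by linear_combination h.2.2⟩)
  have hds := det_eq s
  have hdh := det_eq h
  unfold tr at htr ht
  have key : (tr s ^ 2 - 4) * (1 - r ^ 2) = 0 := by
    unfold tr
    have e1 : 4 * (ea h * ed h) = (ea h + ed h) ^ 2 - (ea h - ed h) ^ 2 := by ring
    have e2 : 4 * (ea h * ed h - eb h * ec h) = 4 := by rw [hdh]; ring
    rw [r1, r2] at e2
    have e3 : 4 * (ea h * ed h) - 4 * r ^ 2 * (eb s * ec s) = 4 := by linear_combination e2
    rw [e1, htr, r3] at e3
    linear_combination e3 - 4 * r ^ 2 * hds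
  have hr : (r - 1) * (r + 1) = 0 := by
    rcases mul_eq_zero.mp key with h' | h'
    · exact absurd (by unfold tr at h'; linear_combination h') ht
    · linear_combination -h'
  rcases mul_eq_zero.mp hr with h' | h'
  · left
    have hr1 : r = 1 := by linear_combination h'
    rw [hr1, one_mul] at r1 r2 r3
    have ha : 2 * (ea h - ea s) = 0 := by linear_combination htr + r3
    have hd : 2 * (ed h - ed s) = 0 := by linear_combination htr - r3
    apply ext4
    · have := (mul_eq_zero.mp ha).resolve_left h2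
      linear_combination this
    · exact r1
    · exact r2
    · have := (mul_eq_zero.mp hd).resolve_left h2
      linear_combination this
  · right
    have hr1 : r = -1 := by linear_combination h'
    rw [hr1] at r1 r2 r3
    have ha : 2 * (ea h - ed s) = 0 := by linear_combination htr + r3
    have hd : 2 * (ed h - ea s) = 0 := by linear_combination htr - r3
    apply ext4 <;> simp only [ea_inv, eb_inv, ec_inv, ed_inv]
    · have := (mul_eq_zero.mp ha).resolve_left h2
      linear_combination this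
    · rw [r1]; ring
    · rw [r2]; ring
    · have := (mul_eq_zero.mp hd).resolve_left h2
      linear_combination this

/-- Powers of a unipotent element. -/
theorem unip_pow (g : SL2 F) (hg : tr g = 2) (n : ℕ) :
    ea (g ^ n) = 1 + n * (ea g - 1) ∧ eb (g ^ n) = n * eb g ∧ ec (g ^ n) = n * ec g ∧
      ed (g ^ n) = 1 + n * (ed g - 1) := by
  have hd := det_eq g
  unfold tr at hg
  induction n with
  | zero => simp
  | succ n ih =>
    obtain ⟨i1, i2, i3, i4⟩ := ih
    rw [pow_succ]
    simp only [ea_mul, eb_mul, ec_mul, ed_mul, i1, i2, i3, i4]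
    push_cast
    refine ⟨?_, ?_, ?_, ?_⟩
    · linear_combination (-(n : F)) * hd + (n : F) * ea g * hg
    · linear_combination (n : F) * eb g * hg
    · linear_combination (n : F) * ec g * hg
    · linear_combination (-(n : F)) * hd + (n : F) * ed g * hg

theorem unip_pow_char (p : ℕ) [CharP F p] (g : SL2 F) (hg : tr g = 2) : g ^ p = 1 := by
  obtain ⟨h1, h2, h3, h4⟩ := unip_pow g hg p
  have hp : ((p : ℕ) : F) = 0 := CharP.cast_eq_zero F p
  apply ext4 <;> simp only [ea_one, eb_one, ec_one, ed_one]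
  · rw [h1, hp]; ring
  · rw [h2, hp]; ring
  · rw [h3, hp]; ring
  · rw [h4, hp]; ring

theorem tr_of_pow_char (p : ℕ) [Fact p.Prime] [CharP F p] (g : SL2 F) (k : ℕ)
    (hg : g ^ (p ^ k) = 1) : tr g = 2 := by
  have hgp' : (g : Matrix (Fin 2) (Fin 2) F) ^ (p ^ k) = 1 := by
    rw [← Matrix.SpecialLinearGroup.coe_pow, hg, Matrix.SpecialLinearGroup.coe_one]
  have hnil : IsNilpotent ((g : Matrix (Fin 2) (Fin 2) F) - 1) := by
    refine ⟨p ^ k, ?_⟩
    rw [sub_pow_char_pow_of_commute p k (Commute.one_right _), hgp', one_pow, sub_self]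
  have := (Matrix.isNilpotent_trace_of_isNilpotent hnil).eq_zero
  rw [Matrix.trace_sub, Matrix.trace_one, ← tr_eq_trace] at this
  simp at this
  linear_combination this

/-- `SL₂` is generated by the unitriangular elements. -/
theorem eq_top_of_uu_ll (H : Subgroup (SL2 F)) (hu : ∀ y : F, uu y ∈ H) (hl : ∀ y : F, ll y ∈ H) :
    H = ⊤ := by
  have key : ∀ g : SL2 F, ec g ≠ 0 → g ∈ H := by
    intro g hc
    have e : g = uu ((ea g - 1) / ec g) * ll (ec g) * uu ((ed g - 1) / ec g) := by
      have hdet := det_eq g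
      apply ext4 <;> simp only [ea_mul, eb_mul, ec_mul, ed_mul, ea_uu, eb_uu, ec_uu, ed_uu,
        ea_ll, eb_ll, ec_ll, ed_ll]
      · field_simp
        ring
      · field_simp
        linear_combination (-1 : F) * hdet
      · ring
      · field_simp
        ring
    rw [e]
    exact H.mul_mem (H.mul_mem (hu _) (hl _)) (hu _)
  rw [Subgroup.eq_top_iff']
  intro g
  by_cases hc : ec g = 0
  · have h00 : ea g ≠ 0 := by
      have hdet := det_eq g
      rw [hc, mul_zero, sub_zero] at hdet
      exact left_ne_zero_of_mul_eq_one hdet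
    have h1 : ll 1 * g ∈ H := by
      apply key
      simp only [ec_mul, ec_ll, ed_ll, hc]
      simpa using h00
    have h2 := H.mul_mem (H.inv_mem (hl 1)) h1
    rwa [inv_mul_cancel_left] at h2
  · exact key g hc

/-- The upper triangular subgroup. -/
def BB (F : Type*) [Field F] : Subgroup (SL2 F) where
  carrier := {g | ec g = 0}
  mul_mem' := by
    intro g h hg hh
    have hg' : ec g = 0 := hg
    have hh' : ec h = 0 := hh
    show ec (g * h) = 0
    simp only [ec_mul, hg', hh']; ring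
  one_mem' := by show ec (1 : SL2 F) = 0; simp
  inv_mem' := by
    intro g hg
    have hg' : ec g = 0 := hg
    show ec g⁻¹ = 0
    simp only [ec_inv, hg']; ring

theorem mem_BB {g : SL2 F} : g ∈ BB F ↔ ec g = 0 := Iff.rfl

/-- The upper unitriangular subgroup. -/
def UU (F : Type*) [Field F] : Subgroup (SL2 F) where
  carrier := {g | ec g = 0 ∧ ea g = 1 ∧ ed g = 1}
  mul_mem' := by
    rintro g h ⟨g1, g2, g3⟩ ⟨h1, h2, h3⟩
    refine ⟨?_, ?_, ?_⟩
    · simp only [ec_mul, g1, h1]; ring
    · simp only [ea_mul, g2, h1, h2]; ring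
    · simp only [ed_mul, g1, g3, h3]; ring
  one_mem' := ⟨by simp, by simp, by simp⟩
  inv_mem' := by
    rintro g ⟨g1, g2, g3⟩
    refine ⟨?_, ?_, ?_⟩
    · simp only [ec_inv, g1]; ring
    · simp only [ea_inv, g3]
    · simp only [ed_inv, g2]

theorem mem_UU {g : SL2 F} : g ∈ UU F ↔ ec g = 0 ∧ ea g = 1 ∧ ed g = 1 := Iff.rfl

theorem mem_UU_iff {g : SL2 F} : g ∈ UU F ↔ g = uu (eb g) := by
  constructor
  · rintro ⟨h1, h2, h3⟩
    apply ext4 <;> simp [h1, h2, h3]
  · intro h
    rw [h]
    exact ⟨rfl, rfl, rfl⟩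

theorem uu_mem_UU (s : F) : uu s ∈ UU F := ⟨rfl, rfl, rfl⟩

theorem UU_le_BB : UU F ≤ BB F := fun _ h => h.1

theorem BB_diag {g : SL2 F} (hg : g ∈ BB F) : ea g * ed g = 1 := by
  have hd := det_eq g
  have hc : ec g = 0 := hg
  rw [hc, mul_zero, sub_zero] at hd
  exact hd

/-- A unipotent upper triangular element is unitriangular. -/
theorem mem_UU_of_BB_tr {g : SL2 F} (hg : g ∈ BB F) (ht : tr g = 2) : g ∈ UU F := by
  have h1 := BB_diag hg
  unfold tr at ht
  have h2 : (ea g - 1) ^ 2 = 0 := by linear_combination (-1 : F) * h1 + ea g * ht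
  have h3 : ea g = 1 := by
    have := pow_eq_zero_iff (n := 2) (by norm_num) |>.mp h2
    linear_combination this
  refine ⟨hg, h3, ?_⟩
  rw [h3] at ht
  linear_combination ht

end entries

end Cfsg.Agent.Lib.helper15.Dk
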