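import Mathlib
import Cfsg.Agent.Lib.helper15.DkCount
import Cfsg.Agent.Lib.helper15.DkMat
import Cfsg.Agent.Lib.helper16.Syl

set_option autoImplicit false
set_option linter.unusedSimpArgs false

namespace Cfsg.Agent.Lib.helper15.Dk

open Cfsg.Agent.Lib.helper15

section basic

variable {F : Type*} [Field F]

/-- The scalars of `L`, its unitriangular and its triangular part. -/
def zL (L : Subgroup (SL2 F)) : Subgroup (SL2 F) := L ⊓ scal F
def uL (L : Subgroup (SL2 F)) : Subgroup (SL2 F) := L ⊓ UU F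
def nL (L : Subgroup (SL2 F)) : Subgroup (SL2 F) := L ⊓ BB F

theorem caData (L : Subgroup (SL2 F)) : CAData L (zL L) where
  le := inf_le_left
  central := fun _ hz a _ => IsScal.comm hz.2 a
  ca := fun g hg hgZ a _ b _ ha hb => comm_trans g a b (fun hs => hgZ ⟨hg, hs⟩) ha hb

theorem uL_le_nL (L : Subgroup (SL2 F)) : uL L ≤ nL L := fun _ h => ⟨h.1, UU_le_BB h.2⟩

theorem mem_cen_uu {L : Subgroup (SL2 F)} {s₀ : F} (hs : s₀ ≠ 0) {g : SL2 F} :
    g ∈ cenIn L (uu s₀) ↔ g ∈ L ∧ ec g = 0 ∧ ea g = ed g := by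
  rw [mem_cenIn, comm_iff]
  simp only [eb_uu, ec_uu, ea_uu, ed_uu]
  constructor
  · rintro ⟨hg, h1, h2, -⟩
    refine ⟨hg, ?_, ?_⟩
    · have : s₀ * ec g = 0 := by rw [h1]; ring
      exact (mul_eq_zero.mp this).resolve_left hs
    · have : s₀ * (ea g - ed g) = 0 := by rw [h2]; ring
      have := (mul_eq_zero.mp this).resolve_left hs
      linear_combination this
  · rintro ⟨hg, h1, h2⟩
    refine ⟨hg, ?_, ?_, ?_⟩
    · rw [h1]; ring
    · rw [h2]; ring
    · rw [h1]; ring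

theorem cen_uu_le_nL {L : Subgroup (SL2 F)} {s₀ : F} (hs : s₀ ≠ 0) :
    cenIn L (uu s₀) ≤ nL L := by
  intro g hg
  obtain ⟨h1, h2, -⟩ := (mem_cen_uu hs).mp hg
  exact ⟨h1, h2⟩

theorem uL_le_cen_uu {L : Subgroup (SL2 F)} {s₀ : F} (hs : s₀ ≠ 0) :
    uL L ≤ cenIn L (uu s₀) := by
  intro g hg
  obtain ⟨h1, h2, h3, h4⟩ := hg
  exact (mem_cen_uu hs).mpr ⟨h1, h2, by rw [h3, h4]⟩

theorem conj_mem_cen_uu {L : Subgroup (SL2 F)} {s₀ : F} (hs : s₀ ≠ 0) {n y : SL2 F}
    (hn : n ∈ nL L) (hy : y ∈ cenIn L (uu s₀)) : n * y * n⁻¹ ∈ cenIn L (uu s₀) := by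
  obtain ⟨h1, h2, h3⟩ := (mem_cen_uu hs).mp hy
  have hc : ec n = 0 := hn.2
  have hd := BB_diag hn.2
  refine (mem_cen_uu hs).mpr ⟨L.mul_mem (L.mul_mem hn.1 h1) (L.inv_mem hn.1), ?_, ?_⟩
  · simp only [ec_mul, ea_mul, ed_mul, eb_mul, ea_inv, eb_inv, ec_inv, ed_inv, hc, h2]; ring
  · simp only [ec_mul, ea_mul, ed_mul, eb_mul, ea_inv, eb_inv, ec_inv, ed_inv, hc, h2, h3]
    ring

theorem nrm_uu {L : Subgroup (SL2 F)} {s₀ : F} (hs : s₀ ≠ 0) (hx : uu s₀ ∈ L) :
    nrmIn L (uu s₀) = nL L := by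
  ext n
  constructor
  · rintro ⟨hnL, hn⟩
    refine ⟨hnL, ?_⟩
    have hn' : n ∈ Subgroup.normalizer (cenIn L (uu s₀) : Set (SL2 F)) := hn
    have h1 := (Subgroup.mem_normalizer_iff.mp hn' (uu s₀)).mp (self_mem_cenIn hx)
    obtain ⟨-, h2, -⟩ := (mem_cen_uu hs).mp h1
    simp only [ec_mul, ea_mul, ed_mul, eb_mul, ea_inv, eb_inv, ec_inv, ed_inv, ea_uu, eb_uu,
      ec_uu, ed_uu] at h2
    have h3 : s₀ * (ec n * ec n) = 0 := by linear_combination -h2
    have h4 := (mul_eq_zero.mp h3).resolve_left hs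
    exact mul_self_eq_zero.mp h4
  · intro hn
    refine ⟨hn.1, ?_⟩
    show n ∈ Subgroup.normalizer (cenIn L (uu s₀) : Set (SL2 F))
    rw [Subgroup.mem_normalizer_iff]
    intro y
    constructor
    · exact conj_mem_cen_uu hs hn
    · intro hy
      have := conj_mem_cen_uu hs ((nL L).inv_mem hn) hy
      have e : n⁻¹ * (n * y * n⁻¹) * n⁻¹⁻¹ = y := by group
      rwa [e] at this

theorem conj_eq_conj_iff {G : Type*} [Group G] (a b x : G) :
    a * x * a⁻¹ = b * x * b⁻¹ ↔ x * (a⁻¹ * b) = (a⁻¹ * b) * x := by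
  constructor
  · intro h
    calc x * (a⁻¹ * b) = a⁻¹ * (a * x * a⁻¹) * b := by group
      _ = a⁻¹ * (b * x * b⁻¹) * b := by rw [h]
      _ = (a⁻¹ * b) * x := by group
  · intro h
    calc a * x * a⁻¹ = a * (x * (a⁻¹ * b)) * b⁻¹ := by group
      _ = a * ((a⁻¹ * b) * x) * b⁻¹ := by rw [h]
      _ = b * x * b⁻¹ := by group

/-- The additive group of translations in `L`. -/
def aL (L : Subgroup (SL2 F)) : AddSubgroup F where
  carrier := {s | uu s ∈ L}
  add_mem' := by
    intro s t hs ht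
    show uu (s + t) ∈ L
    rw [uu_add]
    exact L.mul_mem hs ht
  zero_mem' := by
    show uu (0 : F) ∈ L
    rw [uu_zero]
    exact L.one_mem
  neg_mem' := by
    intro s hs
    show uu (-s) ∈ L
    rw [uu_neg]
    exact L.inv_mem hs

theorem mem_aL {L : Subgroup (SL2 F)} {s : F} : s ∈ aL L ↔ uu s ∈ L := Iff.rfl

theorem card_aL (L : Subgroup (SL2 F)) : Nat.card (aL L) = Nat.card (uL L) := by
  apply Nat.card_congr
  refine Equiv.ofBijective (fun s => (⟨uu s.1, ⟨s.2, uu_mem_UU _⟩⟩ : uL L)) ⟨?_, ?_⟩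
  · intro s t h
    apply Subtype.ext
    exact uu_injective (congrArg Subtype.val h)
  · rintro ⟨g, hg1, hg2⟩
    have hg3 := mem_UU_iff.mp hg2
    refine ⟨⟨eb g, ?_⟩, ?_⟩
    · show uu (eb g) ∈ L
      rw [← hg3]; exact hg1
    · apply Subtype.ext
      exact hg3.symm

end basic

section cards

variable {F : Type*} [Field F]

theorem BB_pow_ea (g : SL2 F) (hg : ec g = 0) (n : ℕ) :
    ea (g ^ n) = ea g ^ n ∧ ec (g ^ n) = 0 := by
  induction n with
  | zero => simp
  | succ n ih =>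
    obtain ⟨i1, i2⟩ := ih
    rw [pow_succ]
    simp only [ea_mul, ec_mul, i1, i2, hg]
    constructor <;> ring

theorem tr_sq (g : SL2 F) : tr (g * g) = tr g ^ 2 - 2 := by
  simp only [tr, ea_mul, ed_mul]
  linear_combination (-2 : F) * det_eq g

theorem tr_cube (g : SL2 F) : tr (g * g * g) = tr g ^ 3 - 3 * tr g := by
  simp only [tr, ea_mul, ed_mul, eb_mul, ec_mul]
  linear_combination (-3 * (ea g + ed g)) * det_eq g

theorem isScal_of_sq (h2 : (2 : F) ≠ 0) {w : SL2 F} (hw : w * w = 1) : IsScal w := by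
  have hinv : w = w⁻¹ := eq_inv_of_mul_eq_one_left hw
  have h1 := congrArg eb hinv
  have h3 := congrArg ec hinv
  have h4 := congrArg ea hinv
  simp only [eb_inv, ec_inv, ea_inv] at h1 h3 h4
  refine ⟨?_, ?_, h4⟩
  · have : 2 * eb w = 0 := by linear_combination h1
    exact (mul_eq_zero.mp this).resolve_left h2
  · have : 2 * ec w = 0 := by linear_combination h3
    exact (mul_eq_zero.mp this).resolve_left h2

/-- A triangular element with diagonal `-1` in `L` forces a scalar with entry `-1` in `L`. -/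
theorem exists_neg_scal (p : ℕ) [Fact p.Prime] [CharP F p] (hp2 : p ≠ 2) (L : Subgroup (SL2 F))
    {g : SL2 F} (hg : g ∈ L) (hc : ec g = 0) (ha : ea g = -1) :
    ∃ w ∈ zL L, ea w = -1 := by
  have hp : p.Prime := Fact.out
  have h2 : (2 : F) ≠ 0 := by
    intro h
    have : ((2 : ℕ) : F) = 0 := by exact_mod_cast h
    rw [CharP.cast_eq_zero_iff F p] at this
    exact hp2 ((Nat.prime_dvd_prime_iff_eq hp Nat.prime_two).mp this)
  have hd : ed g = -1 := by
    have := det_eq g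
    rw [hc, mul_zero, sub_zero, ha] at this
    linear_combination -this
  have htr : tr (g * g) = 2 := by
    rw [tr_sq, tr, ha, hd]; ring
  have h1 : (g * g) ^ p = 1 := unip_pow_char p _ htr
  have h3 : (g ^ p) * (g ^ p) = 1 := by
    rw [← pow_two, ← pow_mul, mul_comm, pow_mul, pow_two, h1]
  refine ⟨g ^ p, ⟨L.pow_mem hg p, isScal_of_sq h2 h3⟩, ?_⟩
  rw [(BB_pow_ea g hc p).1, ha]
  exact Odd.neg_one_pow (hp.odd_of_ne_two hp2)

theorem card_zL_eq [Finite F] (L : Subgroup (SL2 F)) :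
    Nat.card (zL L) = Nat.card (ea '' ((zL L : Subgroup (SL2 F)) : Set (SL2 F))) := by
  have := card_eq_card_mul_card_image (zL L) ⊥ bot_le ea (by
    intro a ha b hb
    rw [Subgroup.mem_bot]
    constructor
    · intro h
      obtain ⟨a1, a2, a3⟩ := ha.2
      obtain ⟨b1, b2, b3⟩ := hb.2
      have hda : ea a * ea a = 1 := by
        have := det_eq a
        rw [a1, zero_mul, sub_zero, ← a3] at this
        exact this
      apply ext4 <;> simp only [ea_mul, eb_mul, ec_mul, ed_mul, ea_inv, eb_inv, ec_inv, ed_inv,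
        ea_one, eb_one, ec_one, ed_one]
      · linear_combination hda - ea b * a3 - ea a * h - ec b * a1
      · linear_combination ed a * b1 - ed b * a1
      · linear_combination ea a * b2 - ea b * a2
      · linear_combination hda - ea a * h - ea a * b3 - eb b * a2
    · intro h
      have h' : b = a := by
        have := congrArg (fun t => a * t) h
        simpa using this
      rw [h'])
  rw [this, Subgroup.card_bot, one_mul]

/-- `|C_L(x)| = |Z| · |U|`. -/
theorem card_cen_uu [Finite F] (p : ℕ) [Fact p.Prime] [CharP F p] (hp2 : p ≠ 2)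
    (L : Subgroup (SL2 F)) {s₀ : F} (hs : s₀ ≠ 0) (hx : uu s₀ ∈ L) :
    Nat.card (cenIn L (uu s₀)) = Nat.card (zL L) * Nat.card (uL L) := by
  have h1 := card_eq_card_mul_card_image (cenIn L (uu s₀)) (uL L) (uL_le_cen_uu hs) ea (by
    intro a ha b hb
    obtain ⟨a1, a2, a3⟩ := (mem_cen_uu hs).mp ha
    obtain ⟨b1, b2, b3⟩ := (mem_cen_uu hs).mp hb
    have hda := det_eq a
    rw [a2, mul_zero, sub_zero, ← a3] at hda
    have hdb := det_eq b
    rw [b2, mul_zero, sub_zero, ← b3] at hdb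
    constructor
    · intro h
      refine ⟨L.mul_mem (L.inv_mem a1) b1, ?_, ?_, ?_⟩
      · simp only [ec_mul, ea_inv, ec_inv, a2, b2]; ring
      · simp only [ea_mul, ea_inv, eb_inv, b2, ← a3, ← h]; linear_combination hda
      · simp only [ed_mul, ec_inv, ed_inv, a2, ← b3, ← h]; linear_combination hda
    · rintro ⟨-, -, h, -⟩
      simp only [ea_mul, ea_inv, eb_inv, b2, ← a3] at h
      have : ea a * (ea a * ea b) = ea a * 1 := by rw [← h]; ring
      linear_combination -this + ea b * hda)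
  have h2 : ea '' ((cenIn L (uu s₀) : Subgroup (SL2 F)) : Set (SL2 F)) =
      ea '' ((zL L : Subgroup (SL2 F)) : Set (SL2 F)) := by
    ext t
    constructor
    · rintro ⟨g, hg, rfl⟩
      obtain ⟨g1, g2, g3⟩ := (mem_cen_uu hs).mp hg
      have hdg := det_eq g
      rw [g2, mul_zero, sub_zero, ← g3] at hdg
      have : (ea g - 1) * (ea g + 1) = 0 := by linear_combination hdg
      rcases mul_eq_zero.mp this with h | h
      · exact ⟨1, (zL L).one_mem, by rw [ea_one]; linear_combination -h⟩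
      · obtain ⟨w, hw, hw1⟩ := exists_neg_scal p hp2 L g1 g2 (by linear_combination h)
        exact ⟨w, hw, by rw [hw1]; linear_combination -h⟩
    · rintro ⟨g, hg, rfl⟩
      exact ⟨g, (caData L).Z_le_cenIn hx hg, rfl⟩
  rw [h1, h2, ← card_zL_eq, mul_comm]

end cards

section cards2

variable {F : Type*} [Field F]

open scoped Classical in
/-- The point `g · ∞` of the projective line. -/
noncomputable def pt (g : SL2 F) : Option F := if ec g = 0 then none else some (ea g / ec g)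

theorem pt_of_ec {g : SL2 F} (h : ec g ≠ 0) : pt g = some (ea g / ec g) := by
  unfold pt; rw [if_neg h]

theorem pt_of_ec_zero {g : SL2 F} (h : ec g = 0) : pt g = none := by
  unfold pt; rw [if_pos h]

theorem pt_eq_iff (a b : SL2 F) : pt a = pt b ↔ -ec a * ea b + ea a * ec b = 0 := by
  have hda := det_eq a
  have hdb := det_eq b
  by_cases ha : ec a = 0
  · have ha0 : ea a ≠ 0 := by
      rw [ha, mul_zero, sub_zero] at hda
      exact left_ne_zero_of_mul_eq_one hda
    rw [pt_of_ec_zero ha, ha]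
    by_cases hb : ec b = 0
    · rw [pt_of_ec_zero hb, hb]; simp
    · rw [pt_of_ec hb]
      simp [ha0, hb]
  · rw [pt_of_ec ha]
    by_cases hb : ec b = 0
    · have hb0 : ea b ≠ 0 := by
        rw [hb, mul_zero, sub_zero] at hdb
        exact left_ne_zero_of_mul_eq_one hdb
      rw [pt_of_ec_zero hb, hb]
      simp [ha, hb0]
    · rw [pt_of_ec hb, Option.some_inj, div_eq_div_iff ha hb]
      constructor
      · intro h; linear_combination h
      · intro h; linear_combination h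

/-- `|L| = |N| · (number of points)`. -/
theorem card_L [Finite F] (L : Subgroup (SL2 F)) :
    Nat.card L = Nat.card (nL L) * Nat.card (pt '' (L : Set (SL2 F))) := by
  apply card_eq_card_mul_card_image L (nL L) inf_le_left pt
  intro a ha b hb
  rw [pt_eq_iff]
  constructor
  · intro h
    refine ⟨L.mul_mem (L.inv_mem ha) hb, ?_⟩
    show ec (a⁻¹ * b) = 0
    simp only [ec_mul, ec_inv, ed_inv]
    exact h
  · rintro ⟨-, h⟩
    have h' : ec (a⁻¹ * b) = 0 := h
    simp only [ec_mul, ec_inv, ed_inv] at h'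
    exact h'

theorem card_nL_le [Finite F] (L : Subgroup (SL2 F)) {s₀ : F} (hs : s₀ ≠ 0) (hx : uu s₀ ∈ L) :
    Nat.card (nL L) + Nat.card (cenIn L (uu s₀)) ≤
      Nat.card (cenIn L (uu s₀)) * Nat.card (uL L) := by
  have h1 := card_eq_card_mul_card_image (nL L) (cenIn L (uu s₀)) (cen_uu_le_nL hs)
    (fun n => n * uu s₀ * n⁻¹) (by
      intro a ha b hb
      show a * uu s₀ * a⁻¹ = b * uu s₀ * b⁻¹ ↔ _
      rw [conj_eq_conj_iff, mem_cenIn]
      constructor
      · intro h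
        exact ⟨L.mul_mem (L.inv_mem ha.1) hb.1, h⟩
      · rintro ⟨-, h⟩
        exact h)
  have h2 : insert (1 : SL2 F) ((fun n => n * uu s₀ * n⁻¹) '' ((nL L : Subgroup (SL2 F)) : Set (SL2 F))) ⊆
      ((uL L : Subgroup (SL2 F)) : Set (SL2 F)) := by
    intro g hg
    rcases hg with hg | ⟨n, hn, rfl⟩
    · rw [hg]; exact (uL L).one_mem
    · have hc : ec n = 0 := hn.2
      have hd := BB_diag hn.2
      refine ⟨L.mul_mem (L.mul_mem hn.1 hx) (L.inv_mem hn.1), ?_, ?_, ?_⟩
      · simp only [ec_mul, ea_mul, ed_mul, eb_mul, ea_inv, eb_inv, ec_inv, ed_inv, ea_uu, eb_uu,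
          ec_uu, ed_uu, hc]; ring
      · simp only [ec_mul, ea_mul, ed_mul, eb_mul, ea_inv, eb_inv, ec_inv, ed_inv, ea_uu, eb_uu,
          ec_uu, ed_uu, hc]; linear_combination hd
      · simp only [ec_mul, ea_mul, ed_mul, eb_mul, ea_inv, eb_inv, ec_inv, ed_inv, ea_uu, eb_uu,
          ec_uu, ed_uu, hc]; linear_combination hd
  have h3 : (1 : SL2 F) ∉ (fun n => n * uu s₀ * n⁻¹) '' ((nL L : Subgroup (SL2 F)) : Set (SL2 F)) := by
    rintro ⟨n, -, hn⟩
    have hn' : n * uu s₀ * n⁻¹ = 1 := hn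
    have : uu s₀ = 1 := by
      have := congrArg (fun t => n⁻¹ * t * n) hn'
      simpa [mul_assoc] using this
    have := congrArg eb this
    simp at this
    exact hs this
  have h4 := Set.ncard_le_ncard h2 (Set.toFinite _)
  rw [Set.ncard_insert_of_notMem h3 (Set.toFinite _)] at h4
  have h5 : Nat.card (uL L) = ((uL L : Subgroup (SL2 F)) : Set (SL2 F)).ncard := by
    rw [← Nat.card_coe_set_eq]; rfl
  rw [← Nat.card_coe_set_eq] at h4
  rw [h1, h5]
  nlinarith [h4]

theorem cen_le_nL_of_ea (L : Subgroup (SL2 F)) {h : SL2 F} (hh : h ∈ nL L) (ha : ea h ^ 2 ≠ 1) :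
    cenIn L h ≤ nL L := by
  intro g hg
  obtain ⟨hgL, hc⟩ := mem_cenIn.mp hg
  obtain ⟨-, -, h3⟩ := (comm_iff h g).mp hc
  have hch : ec h = 0 := hh.2
  have hd := BB_diag hh.2
  rw [hch, zero_mul] at h3
  have hne : ea h - ed h ≠ 0 := by
    intro h0
    apply ha
    have : ea h = ed h := by linear_combination h0
    rw [← this] at hd
    rw [pow_two]; exact hd
  exact ⟨hgL, (mul_eq_zero.mp h3.symm).resolve_right hne⟩

theorem card_nL_T [Finite F] (L : Subgroup (SL2 F)) {h : SL2 F} (hh : h ∈ nL L)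
    (ha : ea h ^ 2 ≠ 1) : Nat.card (nL L) = Nat.card (cenIn L h) * Nat.card (uL L) := by
  have hch : ec h = 0 := hh.2
  have hd := BB_diag hh.2
  have hne : ea h - ed h ≠ 0 := by
    intro h0
    apply ha
    have : ea h = ed h := by linear_combination h0
    rw [← this] at hd
    rw [pow_two]; exact hd
  have h1 := card_eq_card_mul_card_image (nL L) (cenIn L h) (cen_le_nL_of_ea L hh ha)
    (fun n => n * h * n⁻¹) (by
      intro a ha b hb
      show a * h * a⁻¹ = b * h * b⁻¹ ↔ _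
      rw [conj_eq_conj_iff, mem_cenIn]
      constructor
      · intro h
        exact ⟨L.mul_mem (L.inv_mem ha.1) hb.1, h⟩
      · rintro ⟨-, h⟩
        exact h)
  have hU : Nat.card (uL L) = ((uL L : Subgroup (SL2 F)) : Set (SL2 F)).ncard := by
    rw [← Nat.card_coe_set_eq]; rfl
  -- upper bound
  have h2 : (fun n => n * h * n⁻¹) '' ((nL L : Subgroup (SL2 F)) : Set (SL2 F)) ⊆
      (fun u => u * h) '' ((uL L : Subgroup (SL2 F)) : Set (SL2 F)) := by
    rintro _ ⟨n, hn, rfl⟩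
    have hc : ec n = 0 := hn.2
    have hdn := BB_diag hn.2
    refine ⟨n * h * n⁻¹ * h⁻¹, ⟨L.mul_mem (L.mul_mem (L.mul_mem hn.1 hh.1) (L.inv_mem hn.1))
      (L.inv_mem hh.1), ?_, ?_, ?_⟩, by group⟩
    · simp only [ec_mul, ea_mul, ed_mul, eb_mul, ea_inv, eb_inv, ec_inv, ed_inv, hc, hch]; ring
    · simp only [ec_mul, ea_mul, ed_mul, eb_mul, ea_inv, eb_inv, ec_inv, ed_inv, hc, hch]
      linear_combination (ea h * ed h) * hdn + hd
    · simp only [ec_mul, ea_mul, ed_mul, eb_mul, ea_inv, eb_inv, ec_inv, ed_inv, hc, hch]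
      linear_combination (ea h * ed h) * hdn + hd
  have h3 := Set.ncard_le_ncard h2 (Set.toFinite _)
  have h4 : ((fun u => u * h) '' ((uL L : Subgroup (SL2 F)) : Set (SL2 F))).ncard =
      ((uL L : Subgroup (SL2 F)) : Set (SL2 F)).ncard :=
    Set.ncard_image_of_injective _ (mul_left_injective h)
  -- lower bound
  have h5 : (fun u => u * h * u⁻¹) '' ((uL L : Subgroup (SL2 F)) : Set (SL2 F)) ⊆
      (fun n => n * h * n⁻¹) '' ((nL L : Subgroup (SL2 F)) : Set (SL2 F)) := by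
    rintro _ ⟨u, hu, rfl⟩
    exact ⟨u, uL_le_nL L hu, rfl⟩
  have h6 := Set.ncard_le_ncard h5 (Set.toFinite _)
  have h7 : ((fun u => u * h * u⁻¹) '' ((uL L : Subgroup (SL2 F)) : Set (SL2 F))).ncard =
      ((uL L : Subgroup (SL2 F)) : Set (SL2 F)).ncard := by
    apply Set.InjOn.ncard_image
    intro u hu v hv huv
    have huv' : u * h * u⁻¹ = v * h * v⁻¹ := huv
    rw [conj_eq_conj_iff] at huv'
    obtain ⟨-, e2, -⟩ := (comm_iff h (u⁻¹ * v)).mp huv'
    obtain ⟨-, u1, u2, u3⟩ := hu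
    obtain ⟨-, v1, v2, v3⟩ := hv
    simp only [ea_mul, eb_mul, ed_mul, ea_inv, eb_inv, ec_inv, ed_inv, u1, u2, u3, v1, v2, v3] at e2
    have e3 : (eb v - eb u) * (ea h - ed h) = 0 := by linear_combination -e2
    have e4 := (mul_eq_zero.mp e3).resolve_right hne
    apply ext4
    · rw [u2, v2]
    · linear_combination -e4
    · rw [u1, v1]
    · rw [u3, v3]
  rw [Nat.card_coe_set_eq] at h1
  rw [h1, hU]
  congr 1
  omega

theorem card_nrm_le [Finite F] (h2 : (2 : F) ≠ 0) (L : Subgroup (SL2 F)) {g : SL2 F}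
    (hg : g ∈ L) (hns : ¬ IsScal g) (ht : tr g ^ 2 ≠ 4) :
    Nat.card (nrmIn L g) ≤ 2 * Nat.card (cenIn L g) := by
  have hgZ : g ∉ zL L := fun h => hns h.2
  have h1 := card_eq_card_mul_card_image (nrmIn L g) (cenIn L g)
    ((caData L).cenIn_le_nrmIn hg hgZ) (fun n => n * g * n⁻¹) (by
      intro a ha b hb
      show a * g * a⁻¹ = b * g * b⁻¹ ↔ _
      rw [conj_eq_conj_iff, mem_cenIn]
      constructor
      · intro h
        exact ⟨L.mul_mem (L.inv_mem ha.1) hb.1, h⟩
      · rintro ⟨-, h⟩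
        exact h)
  have h3 : (fun n => n * g * n⁻¹) '' ((nrmIn L g : Subgroup (SL2 F)) : Set (SL2 F)) ⊆ {g, g⁻¹} := by
    rintro _ ⟨n, hn, rfl⟩
    have hn' : n ∈ Subgroup.normalizer (cenIn L g : Set (SL2 F)) := hn.2
    have h4 := (Subgroup.mem_normalizer_iff.mp hn' g).mp (self_mem_cenIn hg)
    have h5 := (mem_cenIn.mp h4).2
    rcases eq_or_inv_of_comm_tr h2 g (n * g * n⁻¹) hns ht h5 (tr_conj n g) with h | h
    · left; exact h
    · right; exact h
  have h4 := Set.ncard_le_ncard h3 (Set.toFinite _)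
  have h5 : ({g, g⁻¹} : Set (SL2 F)).ncard ≤ 2 := by
    have := Set.ncard_insert_le g {g⁻¹}
    rw [Set.ncard_singleton] at this
    exact this
  rw [← Nat.card_coe_set_eq] at h4
  rw [h1]
  nlinarith [h4, h5]

end cards2

section clsx

variable {F : Type*} [Field F]

theorem two_ne_zero_of_char (p : ℕ) [Fact p.Prime] [CharP F p] (hp2 : p ≠ 2) : (2 : F) ≠ 0 := by
  have hp : p.Prime := Fact.out
  intro h
  have : ((2 : ℕ) : F) = 0 := by exact_mod_cast h
  rw [CharP.cast_eq_zero_iff F p] at this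
  exact hp2 ((Nat.prime_dvd_prime_iff_eq hp Nat.prime_two).mp this)

theorem tr_sq_of_mem_cls {L : Subgroup (SL2 F)} {s₀ : F} (hs : s₀ ≠ 0) {g : SL2 F}
    (hg : g ∈ clsIn L (zL L) (uu s₀)) : tr g ^ 2 = 4 := by
  obtain ⟨-, -, w, -, hw⟩ := hg
  obtain ⟨-, h1, h2⟩ := (mem_cen_uu hs).mp hw
  have hd := det_eq (w⁻¹ * g * w)
  rw [h1, mul_zero, sub_zero, ← h2] at hd
  rw [← tr_conj' w g, tr, ← h2]
  linear_combination 4 * hd

theorem isPGroup_zpowers (p : ℕ) {G : Type*} [Group G] (y : G) (hy : y ^ p = 1) :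
    IsPGroup p (Subgroup.zpowers y) := by
  rintro ⟨g, hg⟩
  obtain ⟨m, rfl⟩ := Subgroup.mem_zpowers_iff.mp hg
  refine ⟨1, Subtype.ext ?_⟩
  rw [pow_one, Subgroup.coe_pow, Subgroup.coe_one]
  show (y ^ m) ^ p = 1
  rw [← zpow_natCast, ← zpow_mul, mul_comm, zpow_mul, zpow_natCast, hy, one_zpow]

/-- A `p`-subgroup containing a translation is unitriangular. -/
theorem pgroup_le_UU (p : ℕ) [Fact p.Prime] [CharP F p] {s₀ : F} (hs : s₀ ≠ 0)
    (R : Subgroup (SL2 F)) (hR : IsPGroup p R) (hx : uu s₀ ∈ R) : R ≤ UU F := by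
  intro r hr
  have ht : ∀ y ∈ R, tr y = 2 := by
    intro y hy
    obtain ⟨k, hk⟩ := hR ⟨y, hy⟩
    have hk' : y ^ (p ^ k) = 1 := by
      have := congrArg Subtype.val hk
      rw [Subgroup.coe_pow] at this
      exact this
    exact tr_of_pow_char p y k hk'
  have h1 := ht r hr
  have h2 := ht (r * uu s₀) (R.mul_mem hr hx)
  unfold tr at h1 h2
  simp only [ea_mul, ed_mul, ea_uu, eb_uu, ec_uu, ed_uu] at h2
  have h3 : ec r * s₀ = 0 := by linear_combination h2 - h1
  have h4 : ec r = 0 := (mul_eq_zero.mp h3).resolve_right hs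
  exact mem_UU_of_BB_tr h4 (by unfold tr; exact h1)

theorem unip_conj [Finite F] (p : ℕ) [Fact p.Prime] [CharP F p] (L : Subgroup (SL2 F))
    {s₀ : F} (hs : s₀ ≠ 0) (hx : uu s₀ ∈ L) {g : SL2 F} (hg : g ∈ L) (ht : tr g = 2) :
    ∃ w ∈ L, w * g * w⁻¹ ∈ uL L := by
  have hA : IsPGroup p (Subgroup.zpowers (uu s₀)) :=
    isPGroup_zpowers p _ (unip_pow_char p _ (tr_uu s₀))
  have hB : IsPGroup p (Subgroup.zpowers g) := isPGroup_zpowers p _ (unip_pow_char p _ ht)
  obtain ⟨w, hw, R, hR, hAR, hRL, hBR⟩ := Cfsg.Agent.Lib.helper16.common_sylow L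
    (Subgroup.zpowers (uu s₀)) (Subgroup.zpowers g)
    (by rw [Subgroup.zpowers_le]; exact hx) (by rw [Subgroup.zpowers_le]; exact hg) hA hB
  have h1 := hBR g (Subgroup.mem_zpowers g)
  have h2 := pgroup_le_UU p hs R hR (hAR (Subgroup.mem_zpowers _))
  exact ⟨w, hw, hRL h1, h2 h1⟩

theorem mem_cls_of_tr [Finite F] (p : ℕ) [Fact p.Prime] [CharP F p] (hp2 : p ≠ 2)
    (L : Subgroup (SL2 F)) {s₀ : F} (hs : s₀ ≠ 0) (hx : uu s₀ ∈ L) {g : SL2 F} (hg : g ∈ L)
    (hgZ : g ∉ zL L) (ht : tr g ^ 2 = 4) : g ∈ clsIn L (zL L) (uu s₀) := by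
  have h2 : (2 : F) ≠ 0 := two_ne_zero_of_char p hp2
  have ht' : (tr g - 2) * (tr g + 2) = 0 := by linear_combination ht
  rcases mul_eq_zero.mp ht' with h | h
  · have ht2 : tr g = 2 := by linear_combination h
    obtain ⟨w, hw, hwg⟩ := unip_conj p L hs hx hg ht2
    refine ⟨hg, hgZ, w⁻¹, L.inv_mem hw, ?_⟩
    rw [inv_inv]
    exact uL_le_cen_uu hs hwg
  · have ht2 : tr g = -2 := by linear_combination h
    have htr : tr (g * g) = 2 := by rw [tr_sq, ht2]; ring
    have h1 : (g * g) ^ p = 1 := unip_pow_char p _ htr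
    have h3 : (g ^ p) * (g ^ p) = 1 := by
      rw [← pow_two, ← pow_mul, mul_comm, pow_mul, pow_two, h1]
    have hsc : IsScal (g ^ p) := isScal_of_sq h2 h3
    have hne : g ^ p ≠ 1 := by
      intro h1'
      have := tr_of_pow_char p g 1 (by rw [pow_one]; exact h1')
      rw [ht2] at this
      apply h2
      have h4 : (2 : F) * 2 = 0 := by linear_combination -this
      exact (mul_eq_zero.mp h4).elim id id
    have hw' : g ^ p = negOne F := hsc.eq_one_or.resolve_left hne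
    have hwL : g ^ p ∈ L := L.pow_mem hg p
    have hg'L : g ^ p * g ∈ L := L.mul_mem hwL hg
    have hg't : tr (g ^ p * g) = 2 := by
      rw [hw']
      simp only [tr, ea_mul, ed_mul, negOne, ea_mk4, eb_mk4, ec_mk4, ed_mk4]
      unfold tr at ht2
      linear_combination -ht2
    obtain ⟨w, hw, hwg⟩ := unip_conj p L hs hx hg'L hg't
    refine ⟨hg, hgZ, w⁻¹, L.inv_mem hw, ?_⟩
    rw [inv_inv]
    have e : w * g * w⁻¹ = g ^ p * (w * (g ^ p * g) * w⁻¹) := by
      have c1 : w * g ^ p = g ^ p * w := hsc.comm w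
      calc w * g * w⁻¹ = (g ^ p * g ^ p) * (w * g * w⁻¹) := by rw [h3, one_mul]
        _ = g ^ p * (g ^ p * w) * g * w⁻¹ := by group
        _ = g ^ p * (w * g ^ p) * g * w⁻¹ := by rw [c1]
        _ = g ^ p * (w * (g ^ p * g) * w⁻¹) := by group
    rw [e]
    exact (cenIn L (uu s₀)).mul_mem ((caData L).Z_le_cenIn hx ⟨hwL, hsc⟩) (uL_le_cen_uu hs hwg)

end clsx

section points

variable {F : Type*} [Field F]

theorem pt_uu_mul {y : SL2 F} (hy : ec y ≠ 0) (s : F) :
    pt (uu s * y) = some (ea y / ec y + s) := by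
  have h1 : ec (uu s * y) = ec y := by simp
  rw [pt_of_ec (by rw [h1]; exact hy), h1]
  congr 1
  simp only [ea_mul, ea_uu, eb_uu]
  field_simp

theorem pts_subset (L : Subgroup (SL2 F)) {y : SL2 F} (hy : y ∈ L) (hc : ec y ≠ 0) :
    insert none (some '' ((fun s => ea y / ec y + s) '' ((aL L : AddSubgroup F) : Set F))) ⊆
      pt '' (L : Set (SL2 F)) := by
  intro t ht
  rcases ht with ht | ⟨_, ⟨s, hs, rfl⟩, rfl⟩
  · exact ⟨1, L.one_mem, by rw [ht, pt_of_ec_zero ec_one]⟩
  · exact ⟨uu s * y, L.mul_mem hs hy, pt_uu_mul hc s⟩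

theorem ncard_pts [Finite F] (L : Subgroup (SL2 F)) (ω : F) :
    (insert none (some '' ((fun s => ω + s) '' ((aL L : AddSubgroup F) : Set F)))).ncard =
      Nat.card (uL L) + 1 := by
  have h1 : (none : Option F) ∉ some '' ((fun s => ω + s) '' ((aL L : AddSubgroup F) : Set F)) := by
    rintro ⟨_, -, h⟩
    exact Option.some_ne_none _ h
  rw [Set.ncard_insert_of_notMem h1 (Set.toFinite _),
    Set.ncard_image_of_injective _ (Option.some_injective F),
    Set.ncard_image_of_injective _ (add_right_injective ω), ← card_aL, ← Nat.card_coe_set_eq]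
  rfl

theorem card_pt_ge [Finite F] (L : Subgroup (SL2 F)) {y : SL2 F} (hy : y ∈ L) (hc : ec y ≠ 0) :
    Nat.card (uL L) + 1 ≤ Nat.card (pt '' (L : Set (SL2 F))) := by
  rw [← ncard_pts L (ea y / ec y), Nat.card_coe_set_eq]
  exact Set.ncard_le_ncard (pts_subset L hy hc) (Set.toFinite _)

/-- The doubly transitive case: `u(1/c) ∈ L`. -/
theorem endgame [Finite F] (h2 : (2 : F) ≠ 0) (L : Subgroup (SL2 F)) {y : SL2 F} (hy : y ∈ L)
    (hc : ec y ≠ 0) (ht : tr y = 2)
    (hn : Nat.card (pt '' (L : Set (SL2 F))) = Nat.card (uL L) + 1) :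
    uu (1 / ec y) ∈ L := by
  have hsub := pts_subset L hy hc
  have heq : insert none (some '' ((fun s => ea y / ec y + s) '' ((aL L : AddSubgroup F) : Set F))) =
      pt '' (L : Set (SL2 F)) := by
    apply Set.eq_of_subset_of_ncard_le hsub _ (Set.toFinite _)
    rw [ncard_pts, ← hn, Nat.card_coe_set_eq]
  have hc2 : ec (y * y) = 2 * ec y := by
    unfold tr at ht
    simp only [ec_mul]
    linear_combination ec y * ht
  have hc2' : ec (y * y) ≠ 0 := by
    rw [hc2]; exact mul_ne_zero h2 hc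
  have hmem : pt (y * y) ∈ pt '' (L : Set (SL2 F)) := ⟨y * y, L.mul_mem hy hy, rfl⟩
  rw [← heq, pt_of_ec hc2'] at hmem
  rcases hmem with hmem | ⟨_, ⟨s, hs, rfl⟩, hmem⟩
  · exact absurd hmem (Option.some_ne_none _)
  · have hmem' : ea y / ec y + s = ea (y * y) / ec (y * y) := Option.some_injective F hmem
    rw [hc2] at hmem'
    simp only [ea_mul] at hmem'
    have hd := det_eq y
    unfold tr at ht
    have hs' : s = -(1 / (2 * ec y)) := by
      have e1 : eb y * ec y = ea y * ed y - 1 := by linear_combination -hd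
      have e2 : ed y = 2 - ea y := by linear_combination ht
      have e3 : s = (ea y * ea y + eb y * ec y) / (2 * ec y) - ea y / ec y := by
        linear_combination hmem'
      rw [e3, e1, e2]
      field_simp
      ring
    have h3 : -s + -s ∈ aL L := (aL L).add_mem ((aL L).neg_mem hs) ((aL L).neg_mem hs)
    have h4 : -s + -s = 1 / ec y := by
      rw [hs']
      field_simp
      ring
    rw [h4] at h3
    exact h3

end points

end Cfsg.Agent.Lib.helper15.Dk
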