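import Mathlib
import Cfsg.Agent.Lib.helper15.DkClass
import Cfsg.Agent.Lib.helper15.DkArith

set_option autoImplicit false
set_option linter.unusedSimpArgs false

namespace Cfsg.Agent.Lib.helper15.Dk

open Cfsg.Agent.Lib.helper15

section casework

variable {F : Type*} [Field F]

/-- Numerical data of a class of torus type. -/
theorem torus_data [Finite F] (h2 : (2 : F) ≠ 0) (L : Subgroup (SL2 F)) {g : SL2 F} (hg : g ∈ L)
    (hgZ : g ∉ zL L) (ht : tr g ^ 2 ≠ 4) :
    ∃ m ε : ℕ, 2 ≤ m ∧ (ε = 1 ∨ ε = 2) ∧ Nat.card (cenIn L g) = Nat.card (zL L) * m ∧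
      (clsIn L (zL L) g).ncard * (ε * m) + Nat.card L = Nat.card L * m := by
  have D := caData L
  have hcount := D.cls_count hg hgZ
  rw [Nat.card_coe_set_eq] at hcount
  have hz1 : 0 < Nat.card (zL L) := Nat.card_pos
  have hM1 : 0 < Nat.card (cenIn L g) := Nat.card_pos
  have hN1 : 0 < Nat.card (nrmIn L g) := Nat.card_pos
  obtain ⟨m, hm⟩ := Subgroup.card_dvd_of_le (D.Z_le_cenIn hg)
  obtain ⟨ε, hε⟩ := Subgroup.card_dvd_of_le (D.cenIn_le_nrmIn hg hgZ)
  have hns : ¬ IsScal g := fun h => hgZ ⟨hg, h⟩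
  have hle := card_nrm_le h2 L hg hns ht
  have hε12 : ε = 1 ∨ ε = 2 := by
    have h1 : ε ≤ 2 := by
      rw [hε] at hle
      have : Nat.card (cenIn L g) * ε ≤ Nat.card (cenIn L g) * 2 := by linarith
      exact Nat.le_of_mul_le_mul_left this hM1
    have h0 : ε ≠ 0 := by
      rintro rfl
      rw [mul_zero] at hε
      omega
    omega
  have hm2 : 2 ≤ m := by
    by_contra hlt
    have hm01 : m = 0 ∨ m = 1 := by omega
    rcases hm01 with h | h
    · rw [h, mul_zero] at hm; omega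
    · rw [h, mul_one] at hm
      have heq : zL L = cenIn L g :=
        Subgroup.eq_of_le_of_card_ge (D.Z_le_cenIn hg) (by rw [hm])
      exact hgZ (by rw [heq]; exact self_mem_cenIn hg)
  refine ⟨m, ε, hm2, hε12, hm, ?_⟩
  rw [hε, hm] at hcount
  have : Nat.card (zL L) * ((clsIn L (zL L) g).ncard * (ε * m) + Nat.card L) =
      Nat.card (zL L) * (Nat.card L * m) := by
    linarith
  exact Nat.eq_of_mul_eq_mul_left hz1 this

theorem casework [Finite F] (p : ℕ) [Fact p.Prime] [CharP F p] (hp2 : p ≠ 2)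
    (L : Subgroup (SL2 F)) {s₀ : F} (hs : s₀ ≠ 0) (hx : uu s₀ ∈ L) {y : SL2 F} (hy : y ∈ L)
    (hc : ec y ≠ 0) :
    Nat.card (pt '' (L : Set (SL2 F))) = Nat.card (uL L) + 1 ∨
      (Nat.card (uL L) = 3 ∧ ∀ g ∈ L, g ^ 4 = 1 ∨ g ^ 6 = 1 ∨ g ^ 10 = 1) := by
  classical
  have h2 : (2 : F) ≠ 0 := two_ne_zero_of_char p hp2
  have D := caData L
  obtain ⟨z, hz⟩ : ∃ z, z = Nat.card (zL L) := ⟨_, rfl⟩
  obtain ⟨q, hq⟩ : ∃ q, q = Nat.card (uL L) := ⟨_, rfl⟩
  obtain ⟨n, hn⟩ : ∃ n, n = Nat.card (pt '' (L : Set (SL2 F))) := ⟨_, rfl⟩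
  obtain ⟨N, hN⟩ : ∃ N, N = Nat.card (nL L) := ⟨_, rfl⟩
  obtain ⟨G, hG⟩ : ∃ G, G = Nat.card L := ⟨_, rfl⟩
  have hz1 : 1 ≤ z := by rw [hz]; exact Nat.card_pos
  have hz2 : z ≤ 2 := by rw [hz]; exact card_scal_le (zL L) inf_le_right
  have hq3 : 3 ≤ q := by
    have hsub : ({0, s₀, -s₀} : Set F) ⊆ ((aL L : AddSubgroup F) : Set F) := by
      intro t ht
      rcases ht with rfl | rfl | rfl
      · exact (aL L).zero_mem
      · exact hx
      · exact (aL L).neg_mem hx
    have h3 : ({0, s₀, -s₀} : Set F).ncard = 3 := by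
      rw [Set.ncard_eq_three]
      refine ⟨0, s₀, -s₀, fun h => hs h.symm, ?_, ?_, rfl⟩
      · intro h
        apply hs
        have : s₀ = 0 := by linear_combination h
        exact this
      · intro h
        have : 2 * s₀ = 0 := by linear_combination h
        exact hs ((mul_eq_zero.mp this).resolve_left h2)
    have h4 := Set.ncard_le_ncard hsub (Set.toFinite _)
    rw [h3] at h4
    have h5 : Nat.card (aL L) = ((aL L : AddSubgroup F) : Set F).ncard := by
      rw [← Nat.card_coe_set_eq]; rfl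
    rw [hq, ← card_aL, h5]
    exact h4
  have hcx : Nat.card (cenIn L (uu s₀)) = z * q := by
    rw [hz, hq]; exact card_cen_uu p hp2 L hs hx
  have hnq : q + 1 ≤ n := by rw [hq, hn]; exact card_pt_ge L hy hc
  have hGN : G = N * n := by rw [hG, hN, hn]; exact card_L L
  have hN1 : 1 ≤ N := by rw [hN]; exact Nat.card_pos
  obtain ⟨e, he⟩ : ∃ e, N = z * q * e := by
    have := Subgroup.card_dvd_of_le (cen_uu_le_nL (L := L) hs)
    rw [hcx, ← hN] at this
    exact this
  have he1 : 1 ≤ e := by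
    rcases Nat.eq_zero_or_pos e with h | h
    · rw [h, mul_zero] at he; omega
    · exact h
  have hzq : 0 < z * q := Nat.mul_pos (by omega) (by omega)
  have heq : e + 1 ≤ q := by
    have := card_nL_le L hs hx
    rw [hcx, ← hN, he, ← hq] at this
    have h' : z * q * (e + 1) ≤ z * q * q := by linarith
    exact Nat.le_of_mul_le_mul_left h' hzq
  have hxZ : uu s₀ ∉ zL L := by
    intro h
    have := h.2.1
    simp only [eb_uu] at this
    exact hs this
  have hU0 := D.cls_count hx hxZ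
  rw [nrm_uu hs hx, hcx, ← hN, ← hG, ← hz, Nat.card_coe_set_eq] at hU0
  obtain ⟨cU, hcU⟩ : ∃ cU, cU = (clsIn L (zL L) (uu s₀)).ncard := ⟨_, rfl⟩
  rw [← hcU] at hU0
  have hU := arith_U hz1 hq3 hN1 hGN hU0
  have hG' : G = z * q * e * n := by rw [hGN, he]
  have hT0 := D.sat_Z
  obtain ⟨hT1, hT1c⟩ := D.sat_union hT0 hx hxZ
  have hZc : ((zL L : Subgroup (SL2 F)) : Set (SL2 F)).ncard = z := by
    rw [hz, ← Nat.card_coe_set_eq]; rfl
  rw [hZc, ← hcU] at hT1c
  have htor : ∀ g ∈ L, g ∉ (((zL L : Subgroup (SL2 F)) : Set (SL2 F)) ∪ clsIn L (zL L) (uu s₀)) →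
      g ∉ zL L ∧ tr g ^ 2 ≠ 4 := by
    intro g hg hgT
    have hgZ : g ∉ zL L := fun h => hgT (Or.inl h)
    exact ⟨hgZ, fun ht => hgT (Or.inr (mem_cls_of_tr p hp2 L hs hx hg hgZ ht))⟩
  rcases Nat.lt_or_ge e 2 with he2 | he2
  · -- no torus in the normaliser
    have he' : e = 1 := by omega
    left
    rw [← hn, ← hq]
    have hG1 : G = z * q * n := by rw [hG', he']; ring
    have hex : ∃ g₁ ∈ L, g₁ ∉ (((zL L : Subgroup (SL2 F)) : Set (SL2 F)) ∪
        clsIn L (zL L) (uu s₀)) := by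
      by_contra hno
      push Not at hno
      have h5 := D.sat_card_eq hT1 hno
      rw [hT1c, ← hG] at h5
      have h6 : z * n * q = z * q * n := by ring
      have h7 : z * 2 ≤ z * n := Nat.mul_le_mul_left z (by omega)
      omega
    obtain ⟨g₁, hg₁, hg₁T⟩ := hex
    obtain ⟨hg₁Z, hg₁t⟩ := htor g₁ hg₁ hg₁T
    obtain ⟨m₁, ε₁, hm₁, hε₁, hM₁, hc₁⟩ := torus_data h2 L hg₁ hg₁Z hg₁t
    rw [← hG] at hc₁
    obtain ⟨hT2, hT2c⟩ := D.sat_union hT1 hg₁ hg₁T
    rw [hT1c] at hT2c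
    by_cases hcov : ∀ g ∈ L, g ∈ (((zL L : Subgroup (SL2 F)) : Set (SL2 F)) ∪
        clsIn L (zL L) (uu s₀) ∪ clsIn L (zL L) g₁)
    · have h5 := D.sat_card_eq hT2 hcov
      rw [hT2c, ← hG] at h5
      exact arith1 hz1 hq3 hnq hG1 hU hm₁ hε₁ hc₁ h5
    · push Not at hcov
      obtain ⟨g₂, hg₂, hg₂T⟩ := hcov
      obtain ⟨hg₂Z, hg₂t⟩ := htor g₂ hg₂ (fun h => hg₂T (Or.inl h))
      obtain ⟨m₂, ε₂, hm₂, hε₂, hM₂, hc₂⟩ := torus_data h2 L hg₂ hg₂Z hg₂t
      rw [← hG] at hc₂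
      obtain ⟨hT3, hT3c⟩ := D.sat_union hT2 hg₂ hg₂T
      rw [hT2c] at hT3c
      have h5 := D.sat_card_le hT3
      rw [hT3c, ← hG] at h5
      exact (arith1B hz1 hq3 hnq hG1 hU (class_lb hc₁ hε₁ hm₁) (class_lb hc₂ hε₂ hm₂) h5).elim
  · -- a torus in the normaliser
    have hex : ∃ h ∈ nL L, h ∉ cenIn L (uu s₀) := by
      by_contra hno
      push Not at hno
      have h5 : nL L ≤ cenIn L (uu s₀) := hno
      have h6 := le_antisymm h5 (cen_uu_le_nL hs)
      have h7 : Nat.card (nL L) = Nat.card (cenIn L (uu s₀)) := by rw [h6]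
      rw [← hN, hcx, he] at h7
      have h8 : z * q * e = z * q * 1 := by rw [h7, mul_one]
      have := Nat.eq_of_mul_eq_mul_left hzq h8
      omega
    obtain ⟨h, hh, hhc⟩ := hex
    have hd := BB_diag hh.2
    have hha : ea h ^ 2 ≠ 1 := by
      intro h1
      apply hhc
      refine (mem_cen_uu hs).mpr ⟨hh.1, hh.2, ?_⟩
      have h0 : ea h * (ea h - ed h) = 0 := by linear_combination h1 - hd
      rcases mul_eq_zero.mp h0 with h0 | h0
      · rw [h0, zero_mul] at hd
        exact absurd hd zero_ne_one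
      · linear_combination h0
    have hhZ : h ∉ zL L := by
      intro hz'
      obtain ⟨-, -, h3⟩ := hz'.2
      apply hha
      rw [← h3] at hd
      rw [pow_two]; exact hd
    have hht : tr h ^ 2 ≠ 4 := by
      intro ht
      apply hha
      unfold tr at ht
      have h0 : (ea h - ed h) ^ 2 = 0 := by linear_combination ht - 4 * hd
      have h1 := pow_eq_zero_iff (n := 2) (by norm_num) |>.mp h0
      have h3 : ed h = ea h := by linear_combination -h1
      rw [h3] at hd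
      rw [pow_two]; exact hd
    have hhT : h ∉ (((zL L : Subgroup (SL2 F)) : Set (SL2 F)) ∪ clsIn L (zL L) (uu s₀)) := by
      rintro (hZ | hcls)
      · exact hhZ hZ
      · exact hht (tr_sq_of_mem_cls hs hcls)
    obtain ⟨mT, εT, hmT, hεT, hMT, hcT⟩ := torus_data h2 L hh.1 hhZ hht
    have hmTe : mT = e := by
      have h5 := card_nL_T L hh hha
      rw [hMT, ← hN, ← hz, ← hq, he] at h5
      have h6 : z * q * e = z * q * mT := by linarith
      exact (Nat.eq_of_mul_eq_mul_left hzq h6).symm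
    rw [hmTe] at hMT hcT
    rw [← hG] at hcT
    obtain ⟨hT2, hT2c⟩ := D.sat_union hT1 hh.1 hhT
    rw [hT1c] at hT2c
    obtain ⟨cT, hcTdef⟩ : ∃ cT, cT = (clsIn L (zL L) h).ncard := ⟨_, rfl⟩
    rw [← hcTdef] at hT2c hcT
    have hex1 : ∃ g₁ ∈ L, g₁ ∉ (((zL L : Subgroup (SL2 F)) : Set (SL2 F)) ∪
        clsIn L (zL L) (uu s₀) ∪ clsIn L (zL L) h) := by
      by_contra hno
      push Not at hno
      have h5 := D.sat_card_eq hT2 hno
      rw [hT2c, ← hG] at h5
      have h6 := arith2_pre hz1 hq3 he2 hnq hG' hU hεT hcT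
      omega
    obtain ⟨g₁, hg₁, hg₁T⟩ := hex1
    obtain ⟨hg₁Z, hg₁t⟩ := htor g₁ hg₁ (fun h => hg₁T (Or.inl h))
    obtain ⟨m₁, ε₁, hm₁, hε₁, hM₁, hc₁⟩ := torus_data h2 L hg₁ hg₁Z hg₁t
    rw [← hG] at hc₁
    obtain ⟨hT3, hT3c⟩ := D.sat_union hT2 hg₁ hg₁T
    rw [hT2c] at hT3c
    rcases arith2_cT he2 hG' hεT hcT with ⟨-, hT'⟩ | ⟨-, hT'⟩
    · have h5 := D.sat_card_le hT3
      rw [hT3c, ← hG] at h5
      exact (arith2_T1 hz1 hq3 he2 hnq hG' hU hT' (class_lb hc₁ hε₁ hm₁) h5).elim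
    · by_cases hcov : ∀ g ∈ L, g ∈ (((zL L : Subgroup (SL2 F)) : Set (SL2 F)) ∪
          clsIn L (zL L) (uu s₀) ∪ clsIn L (zL L) h ∪ clsIn L (zL L) g₁)
      · have hA := D.sat_card_eq hT3 hcov
        rw [hT3c, ← hG] at hA
        rcases arith2_A hz1 hq3 he2 heq hnq hG' hU hT' hm₁ hε₁ hc₁ hA with hres | ⟨hq3', he2', hm5⟩
        · left
          rw [← hn, ← hq]
          exact hres
        · right
          refine ⟨by rw [← hq]; exact hq3', ?_⟩
          have hzc : z = 1 ∨ z = 2 := by omega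
          intro g hg
          rcases hcov g hg with ((hgZ | hgU) | hgT) | hg1
          · left
            have h5 := IsScal.sq hgZ.2
            have h6 : g ^ 2 = 1 := by rw [pow_two]; exact h5
            rw [show (4 : ℕ) = 2 * 2 from rfl, pow_mul, h6, one_pow]
          · right; left
            have h5 := pow_card_cenIn_of_mem_clsIn hgU
            rw [hcx, hq3'] at h5
            rcases hzc with hz' | hz'
            · rw [hz'] at h5
              rw [show (6 : ℕ) = 1 * 3 * 2 from rfl, pow_mul, h5, one_pow]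
            · rw [hz'] at h5
              exact h5
          · left
            have h5 := pow_card_cenIn_of_mem_clsIn hgT
            rw [hMT, ← hz, he2'] at h5
            rcases hzc with hz' | hz'
            · rw [hz'] at h5
              rw [show (4 : ℕ) = 1 * 2 * 2 from rfl, pow_mul, h5, one_pow]
            · rw [hz'] at h5
              exact h5
          · right; right
            have h5 := pow_card_cenIn_of_mem_clsIn hg1
            rw [hM₁, ← hz, hm5] at h5
            rcases hzc with hz' | hz'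
            · rw [hz'] at h5
              rw [show (10 : ℕ) = 1 * 5 * 2 from rfl, pow_mul, h5, one_pow]
            · rw [hz'] at h5
              exact h5
      · push Not at hcov
        obtain ⟨g₂, hg₂, hg₂T⟩ := hcov
        obtain ⟨hg₂Z, hg₂t⟩ := htor g₂ hg₂ (fun h => hg₂T (Or.inl (Or.inl h)))
        obtain ⟨m₂, ε₂, hm₂, hε₂, hM₂, hc₂⟩ := torus_data h2 L hg₂ hg₂Z hg₂t
        rw [← hG] at hc₂
        obtain ⟨hT4, hT4c⟩ := D.sat_union hT3 hg₂ hg₂T
        rw [hT3c] at hT4c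
        have h5 := D.sat_card_le hT4
        rw [hT4c, ← hG] at h5
        exact (arith2_B hz1 hq3 he2 hnq hG' hU hT' (class_lb hc₁ hε₁ hm₁)
          (class_lb hc₂ hε₂ hm₂) h5).elim

end casework

end Cfsg.Agent.Lib.helper15.Dk
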