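import Mathlib
import Cfsg.Agent.Lib.helper15.DkCase

set_option autoImplicit false
set_option linter.unusedSimpArgs false

namespace Cfsg.Agent.Lib.helper15.Dk

open Cfsg.Agent.Lib.helper15

section exc

variable {F : Type*} [Field F]

theorem tr_cases3 [CharP F 3] (g : SL2 F) (h : g ^ 4 = 1 ∨ g ^ 6 = 1 ∨ g ^ 10 = 1) :
    (tr g = 0 ∨ tr g = 1 ∨ tr g = -1) ∨ tr g ^ 4 = -1 := by
  have h3 : (3 : F) = 0 := by exact_mod_cast CharP.cast_eq_zero F 3
  have h2 : (2 : F) ≠ 0 := two_ne_zero_of_char 3 (by norm_num)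
  have hσ := tr_sq g
  have of_sq : tr g ^ 2 = 4 → (tr g = 0 ∨ tr g = 1 ∨ tr g = -1) ∨ tr g ^ 4 = -1 := by
    intro h4
    left; right
    have : (tr g - 1) * (tr g + 1) = 0 := by linear_combination h4 + h3
    rcases mul_eq_zero.mp this with h | h
    · left; linear_combination h
    · right; linear_combination h
  rcases h with h | h | h
  · have h4 : (g * g) * (g * g) = 1 := by
      rw [← pow_two, ← pow_two, ← pow_mul]; exact h
    obtain ⟨-, -, s3⟩ := isScal_of_sq h2 h4
    have hd := det_eq (g * g)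
    have s1 := (isScal_of_sq h2 h4).1
    rw [s1, zero_mul, sub_zero, ← s3] at hd
    have h5 : tr (g * g) ^ 2 = 4 := by
      unfold tr
      rw [← s3]
      linear_combination 4 * hd
    rw [hσ] at h5
    have h6 : tr g ^ 2 * (tr g ^ 2 - 4) = 0 := by linear_combination h5
    rcases mul_eq_zero.mp h6 with h7 | h7
    · left; left
      exact pow_eq_zero_iff (n := 2) (by norm_num) |>.mp h7
    · exact of_sq (by linear_combination h7)
  · have h4 : (g * g) ^ (3 ^ 1) = 1 := by
      rw [pow_one, ← pow_two, ← pow_mul]; exact h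
    have h5 := tr_of_pow_char 3 (g * g) 1 h4
    rw [hσ] at h5
    exact of_sq (by linear_combination h5)
  · have h4 : (g * g) ^ 5 = 1 := by
      rw [← pow_two, ← pow_mul]; exact h
    have h5 : (g * g) * (g * g) * (g * g) = ((g * g) * (g * g))⁻¹ := by
      apply eq_inv_of_mul_eq_one_left
      rw [← h4, show (5 : ℕ) = 3 + 2 from rfl, pow_add, pow_succ, pow_succ, pow_one]
    have h6 := congrArg tr h5
    rw [tr_inv, tr_cube, tr_sq (g * g), hσ] at h6
    have h7 : (tr g ^ 2 - 4) * ((tr g ^ 2 - 2) ^ 2 + (tr g ^ 2 - 2) - 1) = 0 := by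
      linear_combination h6
    rcases mul_eq_zero.mp h7 with h8 | h8
    · exact of_sq (by linear_combination h8)
    · right
      linear_combination h8 + tr g ^ 2 * h3

/-- The normalised weak Dickson theorem. -/
theorem W_norm [Finite F] (p : ℕ) [Fact p.Prime] [CharP F p] (hp2 : p ≠ 2)
    (L : Subgroup (SL2 F)) {s₀ : F} (hs : s₀ ≠ 0) (hx : uu s₀ ∈ L) {y : SL2 F} (hy : y ∈ L)
    (hty : tr y = 2) (hc : ec y ≠ 0) :
    ∃ s : F, s ≠ 0 ∧ uu s ∈ L ∧ ∃ y' ∈ L, tr y' = 2 ∧ ec y' * s = 1 := by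
  have h2 : (2 : F) ≠ 0 := two_ne_zero_of_char p hp2
  rcases casework p hp2 L hs hx hy hc with hn | ⟨hq3, hexp⟩
  · have h1 := endgame h2 L hy hc hty hn
    refine ⟨1 / ec y, by simpa using hc, h1, y, hy, hty, ?_⟩
    field_simp
  · -- the exceptional group
    have hp3 : p = 3 := by
      have hp : p.Prime := Fact.out
      have hxu : uu s₀ ∈ uL L := ⟨hx, uu_mem_UU _⟩
      have ho : orderOf (⟨uu s₀, hxu⟩ : uL L) = p := by
        apply orderOf_eq_prime
        · apply Subtype.ext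
          rw [Subgroup.coe_pow, Subgroup.coe_one]
          exact unip_pow_char p _ (tr_uu s₀)
        · intro h
          have h' : uu s₀ = 1 := congrArg Subtype.val h
          have := congrArg eb h'
          simp only [eb_uu, eb_one] at this
          exact hs this
      have hdvd := orderOf_dvd_natCard (⟨uu s₀, hxu⟩ : uL L)
      rw [ho, hq3] at hdvd
      exact (Nat.prime_dvd_prime_iff_eq hp Nat.prime_three).mp hdvd
    subst hp3
    have h3 : (3 : F) = 0 := by exact_mod_cast CharP.cast_eq_zero F 3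
    obtain ⟨lam, hlam⟩ : ∃ lam : F, lam = s₀ * ec y := ⟨_, rfl⟩
    have hlam0 : lam ≠ 0 := by rw [hlam]; exact mul_ne_zero hs hc
    have ht1 : tr (uu s₀ * y) = 2 + lam := by
      unfold tr at hty ⊢
      simp only [ea_mul, ed_mul, ea_uu, eb_uu, ec_uu, ed_uu]
      rw [hlam]; linear_combination hty
    have ht2 : tr (uu s₀ * y⁻¹) = 2 - lam := by
      unfold tr at hty ⊢
      simp only [ea_mul, ed_mul, ea_uu, eb_uu, ec_uu, ed_uu, ea_inv, eb_inv, ec_inv, ed_inv]
      rw [hlam]; linear_combination hty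
    have c1 := tr_cases3 _ (hexp _ (L.mul_mem hx hy))
    have c2 := tr_cases3 _ (hexp _ (L.mul_mem hx (L.inv_mem hy)))
    rw [ht1] at c1
    rw [ht2] at c2
    have key : lam = 1 ∨ lam = -1 ∨ lam ^ 2 = -1 := by
      rcases c1 with (c1 | c1 | c1) | c1
      · left; linear_combination c1 - h3
      · right; left; linear_combination c1
      · exact absurd (by linear_combination c1 - h3) hlam0
      · rcases c2 with (c2 | c2 | c2) | c2
        · right; left; linear_combination -c2 + h3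
        · left; linear_combination -c2
        · exact absurd (by linear_combination -c2 + h3) hlam0
        · right; right
          have h4 : lam * (lam ^ 2 + 1) = 0 := by
            linear_combination c1 - c2 - (5 * lam ^ 3 + 21 * lam) * h3
          have h5 := (mul_eq_zero.mp h4).resolve_left hlam0
          linear_combination h5
    rcases key with h | h | h
    · exact ⟨s₀, hs, hx, y, hy, hty, by rw [mul_comm, ← hlam, h]⟩
    · refine ⟨s₀, hs, hx, y⁻¹, L.inv_mem hy, by rw [tr_inv, hty], ?_⟩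
      simp only [ec_inv]
      linear_combination -h + hlam
    · refine ⟨s₀, hs, hx, y * uu s₀ * y⁻¹, L.mul_mem (L.mul_mem hy hx) (L.inv_mem hy),
        by rw [tr_conj, tr_uu], ?_⟩
      simp only [ec_mul, ea_mul, ed_mul, eb_mul, ea_inv, eb_inv, ec_inv, ed_inv, ea_uu, eb_uu,
        ec_uu, ed_uu]
      rw [hlam] at h
      linear_combination -h

end exc

section hom

variable {F : Type*} [Field F]

theorem uu_natCast_pow (n : ℕ) : uu (n : F) = uu (1 : F) ^ n := by
  induction n with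
  | zero => simp [uu_zero]
  | succ n ih => rw [Nat.cast_succ, uu_add, ih, pow_succ]

theorem ll_natCast_pow (n : ℕ) : ll (n : F) = ll (1 : F) ^ n := by
  induction n with
  | zero => simp [ll_zero]
  | succ n ih => rw [Nat.cast_succ, ll_add, ih, pow_succ]

/-- `SL₂(𝔽_p)` is generated by the two elementary unipotents. -/
theorem zmod_gen (p : ℕ) [Fact p.Prime] (H : Subgroup (SL2 (ZMod p))) (hu : uu (1 : ZMod p) ∈ H)
    (hl : ll (1 : ZMod p) ∈ H) : H = ⊤ := by
  apply eq_top_of_uu_ll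
  · intro y
    rw [← ZMod.natCast_zmod_val y, uu_natCast_pow]
    exact H.pow_mem hu _
  · intro y
    rw [← ZMod.natCast_zmod_val y, ll_natCast_pow]
    exact H.pow_mem hl _

/-- The twisted embedding of `SL₂(𝔽_p)`. -/
def psiHom (p : ℕ) [Fact p.Prime] [CharP F p] (s : F) (hs : s ≠ 0) : SL2 (ZMod p) →* SL2 F where
  toFun M := mk4 (ZMod.castHom (dvd_refl p) F (ea M)) (s * ZMod.castHom (dvd_refl p) F (eb M))
    (ZMod.castHom (dvd_refl p) F (ec M) / s) (ZMod.castHom (dvd_refl p) F (ed M)) (by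
      have h := congrArg (ZMod.castHom (dvd_refl p) F) (det_eq M)
      rw [map_sub, map_mul, map_mul, map_one] at h
      have e : s * ZMod.castHom (dvd_refl p) F (eb M) * (ZMod.castHom (dvd_refl p) F (ec M) / s) =
          ZMod.castHom (dvd_refl p) F (eb M) * ZMod.castHom (dvd_refl p) F (ec M) := by
        field_simp
      rw [e]
      exact h)
  map_one' := by
    apply ext4 <;> simp
  map_mul' := by
    intro M N
    apply ext4 <;> simp only [ea_mk4, eb_mk4, ec_mk4, ed_mk4, ea_mul, eb_mul, ec_mul, ed_mul,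
      map_add, map_mul]
    · field_simp
    · ring
    · field_simp
    · field_simp

theorem psiHom_ea (p : ℕ) [Fact p.Prime] [CharP F p] (s : F) (hs : s ≠ 0) (M : SL2 (ZMod p)) :
    ea (psiHom p s hs M) = ZMod.castHom (dvd_refl p) F (ea M) := rfl
theorem psiHom_eb (p : ℕ) [Fact p.Prime] [CharP F p] (s : F) (hs : s ≠ 0) (M : SL2 (ZMod p)) :
    eb (psiHom p s hs M) = s * ZMod.castHom (dvd_refl p) F (eb M) := rfl
theorem psiHom_ec (p : ℕ) [Fact p.Prime] [CharP F p] (s : F) (hs : s ≠ 0) (M : SL2 (ZMod p)) :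
    ec (psiHom p s hs M) = ZMod.castHom (dvd_refl p) F (ec M) / s := rfl
theorem psiHom_ed (p : ℕ) [Fact p.Prime] [CharP F p] (s : F) (hs : s ≠ 0) (M : SL2 (ZMod p)) :
    ed (psiHom p s hs M) = ZMod.castHom (dvd_refl p) F (ed M) := rfl

theorem psiHom_injective (p : ℕ) [Fact p.Prime] [CharP F p] (s : F) (hs : s ≠ 0) :
    Function.Injective (psiHom p s hs) := by
  have hinj : Function.Injective (ZMod.castHom (dvd_refl p) F) := RingHom.injective _
  intro M N h
  have h1 := congrArg ea h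
  have h2 := congrArg eb h
  have h3 := congrArg ec h
  have h4 := congrArg ed h
  rw [psiHom_ea, psiHom_ea] at h1
  rw [psiHom_eb, psiHom_eb] at h2
  rw [psiHom_ec, psiHom_ec] at h3
  rw [psiHom_ed, psiHom_ed] at h4
  apply ext4
  · exact hinj h1
  · exact hinj (mul_left_cancel₀ hs h2)
  · apply hinj
    field_simp at h3
    exact h3
  · exact hinj h4

theorem psiHom_uu (p : ℕ) [Fact p.Prime] [CharP F p] (s : F) (hs : s ≠ 0) :
    psiHom p s hs (uu 1) = uu s := by
  apply ext4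
  · rw [psiHom_ea]; simp
  · rw [psiHom_eb]; simp
  · rw [psiHom_ec]; simp
  · rw [psiHom_ed]; simp

theorem psiHom_ll (p : ℕ) [Fact p.Prime] [CharP F p] (s : F) (hs : s ≠ 0) :
    psiHom p s hs (ll 1) = ll (1 / s) := by
  apply ext4
  · rw [psiHom_ea]; simp
  · rw [psiHom_eb]; simp
  · rw [psiHom_ec]; simp
  · rw [psiHom_ed]; simp

/-- A unipotent element is conjugate to a translation. -/
theorem exists_conj_uu {x : SL2 F} (htx : tr x = 2) (hx1 : x ≠ 1) :
    ∃ (g₀ : SL2 F) (s₀ : F), s₀ ≠ 0 ∧ g₀ * x * g₀⁻¹ = uu s₀ := by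
  have hd := det_eq x
  unfold tr at htx
  by_cases hc : ec x = 0
  · have hU : x ∈ UU F := mem_UU_of_BB_tr hc (by unfold tr; exact htx)
    have hxu := mem_UU_iff.mp hU
    refine ⟨1, eb x, ?_, by rw [one_mul, inv_one, mul_one]; exact hxu⟩
    intro h0
    apply hx1
    rw [hxu, h0, uu_zero]
  · refine ⟨mk4 0 1 (-1) ((ea x - 1) / ec x) (by ring), -ec x, neg_ne_zero.mpr hc, ?_⟩
    apply ext4 <;> simp only [ea_mul, eb_mul, ec_mul, ed_mul, ea_inv, eb_inv, ec_inv, ed_inv,
      ea_mk4, eb_mk4, ec_mk4, ed_mk4, ea_uu, eb_uu, ec_uu, ed_uu]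
    · field_simp
      linear_combination ec x * htx
    · ring
    · field_simp
      linear_combination hd - htx
    · field_simp
      ring

/-- The weak Dickson theorem: two non-commuting unipotent elements of a subgroup of `SL₂(F)`,
`F` finite of odd characteristic `p`, force a copy of `SL₂(𝔽_p)` inside the subgroup. -/
theorem W_hom [Finite F] (p : ℕ) [Fact p.Prime] [CharP F p] (hp2 : p ≠ 2) (L : Subgroup (SL2 F))
    (x y : SL2 F) (hx : x ∈ L) (hy : y ∈ L) (htx : tr x = 2) (hty : tr y = 2)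
    (hxy : x * y ≠ y * x) :
    ∃ Ψ : SL2 (ZMod p) →* SL2 F, Function.Injective Ψ ∧ ∀ M, Ψ M ∈ L := by
  have hx1 : x ≠ 1 := by
    rintro rfl
    exact hxy (by rw [one_mul, mul_one])
  obtain ⟨g₀, s₀, hs₀, hg₀⟩ := exists_conj_uu htx hx1
  -- the conjugate subgroup
  obtain ⟨L', hL'⟩ : ∃ L' : Subgroup (SL2 F), L' = L.map (MulAut.conj g₀).toMonoidHom := ⟨_, rfl⟩
  have hmem : ∀ g ∈ L, g₀ * g * g₀⁻¹ ∈ L' := by
    intro g hg
    rw [hL']
    exact ⟨g, hg, by simp⟩
  have hmem' : ∀ g ∈ L', g₀⁻¹ * g * g₀ ∈ L := by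
    intro g hg
    rw [hL'] at hg
    obtain ⟨k, hk, rfl⟩ := hg
    have : g₀⁻¹ * ((MulAut.conj g₀).toMonoidHom k) * g₀ = k := by simp [mul_assoc]
    rw [this]
    exact hk
  have hxL' : uu s₀ ∈ L' := by rw [← hg₀]; exact hmem x hx
  have hyL' := hmem y hy
  have hty' : tr (g₀ * y * g₀⁻¹) = 2 := by rw [tr_conj, hty]
  have hcy' : ec (g₀ * y * g₀⁻¹) ≠ 0 := by
    intro h0
    have hU : g₀ * y * g₀⁻¹ ∈ UU F := mem_UU_of_BB_tr h0 hty'
    have hcomm : uu s₀ * (g₀ * y * g₀⁻¹) = (g₀ * y * g₀⁻¹) * uu s₀ := by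
      rw [mem_UU_iff.mp hU, ← uu_add, ← uu_add, add_comm]
    rw [← hg₀] at hcomm
    apply hxy
    have e1 : g₀ * x * g₀⁻¹ * (g₀ * y * g₀⁻¹) = g₀ * (x * y) * g₀⁻¹ := by group
    have e2 : g₀ * y * g₀⁻¹ * (g₀ * x * g₀⁻¹) = g₀ * (y * x) * g₀⁻¹ := by group
    rw [e1, e2] at hcomm
    exact mul_left_cancel (mul_right_cancel hcomm)
  obtain ⟨s, hs, hsL, y', hy'L, hty'', hcs⟩ := W_norm p hp2 L' hs₀ hxL' hyL' hty' hcy'
  -- normalise the second element
  have hcy'' : ec y' = 1 / s := by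
    field_simp
    exact hcs
  obtain ⟨w, hw⟩ : ∃ w : SL2 F, w = uu (s * (ea y' - 1)) := ⟨_, rfl⟩
  have hwy : w * ll (1 / s) * w⁻¹ = y' := by
    have hd := det_eq y'
    unfold tr at hty''
    rw [hw]
    apply ext4 <;> simp only [ea_mul, eb_mul, ec_mul, ed_mul, ea_inv, eb_inv, ec_inv, ed_inv,
      ea_uu, eb_uu, ec_uu, ed_uu, ea_ll, eb_ll, ec_ll, ed_ll]
    · field_simp
      ring
    · rw [hcy''] at hd
      field_simp at hd ⊢
      linear_combination hd - s * ea y' * hty''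
    · rw [hcy'']; ring
    · field_simp
      linear_combination -hty''
  have hwu : w * uu s * w⁻¹ = uu s := by
    rw [hw, ← uu_neg, ← uu_add, ← uu_add]
    congr 1
    ring
  -- the homomorphism
  obtain ⟨Ψ, hΨ⟩ : ∃ Ψ : SL2 (ZMod p) →* SL2 F,
      Ψ = ((MulAut.conj (g₀⁻¹ * w)).toMonoidHom).comp (psiHom p s hs) := ⟨_, rfl⟩
  have hΨapp : ∀ M, Ψ M = g₀⁻¹ * (w * psiHom p s hs M * w⁻¹) * g₀ := by
    intro M
    rw [hΨ]
    simp [mul_assoc]
  refine ⟨Ψ, ?_, ?_⟩
  · rw [hΨ]
    exact (MulAut.conj (g₀⁻¹ * w)).injective.comp (psiHom_injective p s hs)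
  · have htop : L.comap Ψ = ⊤ := by
      apply zmod_gen
      · rw [Subgroup.mem_comap, hΨapp, psiHom_uu, hwu]
        exact hmem' _ hsL
      · rw [Subgroup.mem_comap, hΨapp, psiHom_ll, hwy]
        exact hmem' _ hy'L
    intro M
    have : M ∈ L.comap Ψ := by rw [htop]; exact Subgroup.mem_top M
    exact this

end hom

end Cfsg.Agent.Lib.helper15.Dk
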