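import Mathlib
import Cfsg.Agent.Lib.helper14.S4Inv

set_option autoImplicit false

namespace Cfsg.Agent.Lib.helper15

theorem inv_self (A : Type*) [Group A] : Cfsg.Involves A A :=
  Cfsg.Agent.Lib.helper14.involves_of_surjective (⊤ : Subgroup A) (⊤ : Subgroup A).subtype
    (fun a => ⟨⟨a, Subgroup.mem_top a⟩, rfl⟩)

theorem inv_trans {A : Type*} {B : Type*} {C : Type*} [Group A] [Group B] [Group C]
    (h1 : Cfsg.Involves A B) (h2 : Cfsg.Involves B C) : Cfsg.Involves A C := by
  obtain ⟨K, R, hR, ⟨e⟩⟩ := h2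
  haveI := hR
  have h3 : Cfsg.Involves A ↥K :=
    Cfsg.Agent.Lib.helper14.involves_of_surjective_hom
      (e.toMonoidHom.comp (QuotientGroup.mk' (R.subgroupOf K)))
      (e.surjective.comp (QuotientGroup.mk'_surjective _)) h1
  exact Cfsg.Agent.Lib.helper14.involves_of_injective K.subtype K.subtype_injective h3

end Cfsg.Agent.Lib.helper15
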