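import Mathlib
import Cfsg.Prelude.Def_PLocal
import Cfsg.Agent.Lib.helper15.DkMat

set_option autoImplicit false

namespace Cfsg.Agent.Lib.helper15.Qd

open Cfsg.Agent.Lib.helper15

variable {F : Type*} [Field F]

/-- The affine block matrix with linear part `A` and translation part `t`. -/
def blkM (A : Matrix (Fin 2) (Fin 2) F) (t : Fin 2 → F) : Matrix (Fin 3) (Fin 3) F :=
  !![A 0 0, A 0 1, t 0; A 1 0, A 1 1, t 1; 0, 0, 1]

theorem blkM_mul (A B : Matrix (Fin 2) (Fin 2) F) (t s : Fin 2 → F) :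
    blkM A t * blkM B s = blkM (A * B) (A.mulVec s + t) := by
  ext i j
  fin_cases i <;> fin_cases j <;>
    simp [blkM, Matrix.mul_apply, Fin.sum_univ_three, Fin.sum_univ_two, Matrix.mulVec,
      dotProduct]

theorem blkM_det (A : Matrix (Fin 2) (Fin 2) F) (t : Fin 2 → F) : (blkM A t).det = A.det := by
  rw [Matrix.det_fin_three, Matrix.det_fin_two]
  simp [blkM]

/-- The affine element of `SL₃` with linear part `A` and translation part `t`. -/
def aff (A : Dk.SL2 F) (t : Fin 2 → F) : Matrix.SpecialLinearGroup (Fin 3) F :=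
  ⟨blkM (A : Matrix (Fin 2) (Fin 2) F) t, by rw [blkM_det]; exact A.2⟩

theorem aff_val (A : Dk.SL2 F) (t : Fin 2 → F) :
    ((aff A t : Matrix.SpecialLinearGroup (Fin 3) F) : Matrix (Fin 3) (Fin 3) F) =
      blkM (A : Matrix (Fin 2) (Fin 2) F) t := rfl

theorem aff_mul (A B : Dk.SL2 F) (t s : Fin 2 → F) :
    aff A t * aff B s = aff (A * B) ((A : Matrix (Fin 2) (Fin 2) F).mulVec s + t) := by
  apply Subtype.ext
  rw [Matrix.SpecialLinearGroup.coe_mul, aff_val, aff_val, aff_val, blkM_mul,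
    Matrix.SpecialLinearGroup.coe_mul]

theorem aff_one : aff (1 : Dk.SL2 F) 0 = 1 := by
  apply Subtype.ext
  rw [aff_val]
  ext i j
  fin_cases i <;> fin_cases j <;> simp [blkM]

theorem aff_inv (A : Dk.SL2 F) (t : Fin 2 → F) :
    (aff A t)⁻¹ = aff A⁻¹ (-((A⁻¹ : Dk.SL2 F) : Matrix (Fin 2) (Fin 2) F).mulVec t) := by
  apply inv_eq_of_mul_eq_one_right
  rw [aff_mul, mul_inv_cancel]
  have h : (A : Matrix (Fin 2) (Fin 2) F).mulVec
      (-((A⁻¹ : Dk.SL2 F) : Matrix (Fin 2) (Fin 2) F).mulVec t) + t = 0 := by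
    rw [Matrix.mulVec_neg, Matrix.mulVec_mulVec, ← Matrix.SpecialLinearGroup.coe_mul,
      mul_inv_cancel, Matrix.SpecialLinearGroup.coe_one, Matrix.one_mulVec, neg_add_cancel]
  rw [h, aff_one]

theorem aff_inj {A B : Dk.SL2 F} {t s : Fin 2 → F} (h : aff A t = aff B s) : A = B ∧ t = s := by
  have h' : blkM (A : Matrix (Fin 2) (Fin 2) F) t = blkM (B : Matrix (Fin 2) (Fin 2) F) s :=
    congrArg Subtype.val h
  have e := fun i j => congrFun (congrFun h' i) j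
  refine ⟨Dk.ext4 ?_ ?_ ?_ ?_, ?_⟩
  · show (A : Matrix (Fin 2) (Fin 2) F) 0 0 = (B : Matrix (Fin 2) (Fin 2) F) 0 0
    simpa [blkM] using e 0 0
  · show (A : Matrix (Fin 2) (Fin 2) F) 0 1 = (B : Matrix (Fin 2) (Fin 2) F) 0 1
    simpa [blkM] using e 0 1
  · show (A : Matrix (Fin 2) (Fin 2) F) 1 0 = (B : Matrix (Fin 2) (Fin 2) F) 1 0
    simpa [blkM] using e 1 0
  · show (A : Matrix (Fin 2) (Fin 2) F) 1 1 = (B : Matrix (Fin 2) (Fin 2) F) 1 1
    simpa [blkM] using e 1 1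
  · funext i
    fin_cases i
    · simpa [blkM] using e 0 2
    · simpa [blkM] using e 1 2

theorem aff_mem_qd (p : ℕ) [Fact p.Prime] (A : Dk.SL2 (ZMod p)) (t : Fin 2 → ZMod p) :
    aff A t ∈ Cfsg.qd p := by
  apply Subgroup.subset_closure
  refine ⟨?_, ?_, ?_⟩ <;> simp [aff, blkM]

theorem exists_aff_of_mem_qd (p : ℕ) [Fact p.Prime]
    (M : Matrix.SpecialLinearGroup (Fin 3) (ZMod p)) (hM : M ∈ Cfsg.qd p) :
    ∃ (A : Dk.SL2 (ZMod p)) (t : Fin 2 → ZMod p), M = aff A t := by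
  unfold Cfsg.qd at hM
  induction hM using Subgroup.closure_induction with
  | mem M hM =>
    obtain ⟨h0, h1, h2⟩ := hM
    have hdet := M.2
    rw [Matrix.det_fin_three, h0, h1, h2] at hdet
    refine ⟨⟨!![(M : Matrix (Fin 3) (Fin 3) (ZMod p)) 0 0, (M : Matrix (Fin 3) (Fin 3) (ZMod p)) 0 1;
      (M : Matrix (Fin 3) (Fin 3) (ZMod p)) 1 0, (M : Matrix (Fin 3) (Fin 3) (ZMod p)) 1 1], ?_⟩,
      ![(M : Matrix (Fin 3) (Fin 3) (ZMod p)) 0 2, (M : Matrix (Fin 3) (Fin 3) (ZMod p)) 1 2], ?_⟩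
    · rw [Matrix.det_fin_two_of]
      linear_combination hdet
    · apply Subtype.ext
      show (M : Matrix (Fin 3) (Fin 3) (ZMod p)) = blkM _ _
      ext i j
      fin_cases i <;> fin_cases j <;> simp [blkM, h0, h1, h2]
  | one => exact ⟨1, 0, aff_one.symm⟩
  | mul x y _ _ hx hy =>
    obtain ⟨A, t, rfl⟩ := hx
    obtain ⟨B, s, rfl⟩ := hy
    exact ⟨_, _, aff_mul A B t s⟩
  | inv x _ hx =>
    obtain ⟨A, t, rfl⟩ := hx
    exact ⟨_, _, aff_inv A t⟩

end Cfsg.Agent.Lib.helper15.Qd
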