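import Mathlib
import Cfsg.Agent.Lib.helper15.QdMat
import Cfsg.Agent.Lib.helper15.Inv

set_option autoImplicit false
set_option linter.style.haveILetI false

namespace Cfsg.Agent.Lib.helper15.Qd

open Cfsg.Agent.Lib.helper15

open scoped Pointwise

/-- Splitting lemma: if `ρ` maps `G` onto `S`, `c` is a central element of `S` of order at most
two whose preimages invert the `p`-subgroup `W` (`p` odd), then some subgroup of `G` meeting `W`
trivially still maps onto `S`. -/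
theorem exists_compl {G : Type*} [Group G] [Finite G] {S : Type*} [Group S] (ρ : G →* S)
    (hρ : Function.Surjective ρ) (c : S) (hc : ∀ s : S, s * c = c * s) (hc2 : c * c = 1)
    (W : Subgroup G) {p : ℕ} [Fact p.Prime] (hp2 : p ≠ 2)
    (hWp : ∀ w ∈ W, ∃ k : ℕ, w ^ (p ^ k) = 1)
    (hinv : ∀ g : G, ρ g = c → ∀ w ∈ W, g * w * g⁻¹ = w⁻¹) :
    ∃ N₂ : Subgroup G, (∀ s : S, ∃ n ∈ N₂, ρ n = s) ∧ N₂ ⊓ W = ⊥ := by
  classical
  have hp : p.Prime := Fact.out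
  haveI : Fact (Nat.Prime 2) := ⟨Nat.prime_two⟩
  haveI hZn : (Subgroup.zpowers c).Normal := by
    refine ⟨fun n hn g => ?_⟩
    obtain ⟨k, rfl⟩ := Subgroup.mem_zpowers_iff.mp hn
    have h1 : g * c ^ k * g⁻¹ = c ^ k := by
      have h2 : Commute g (c ^ k) := (show Commute g c from hc g).zpow_right k
      rw [h2.eq, mul_inv_cancel_right]
    rw [h1]
    exact Subgroup.zpow_mem_zpowers c k
  obtain ⟨M, hM⟩ : ∃ M : Subgroup G, M = (Subgroup.zpowers c).comap ρ := ⟨_, rfl⟩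
  haveI hMn : M.Normal := by rw [hM]; infer_instance
  obtain ⟨Z₂⟩ : Nonempty (Sylow 2 ↥M) := inferInstance
  obtain ⟨Z, hZ⟩ : ∃ Z : Subgroup G, Z = (Z₂ : Subgroup ↥M).map M.subtype := ⟨_, rfl⟩
  have hZ2 : ∀ z ∈ Z, ∃ k : ℕ, z ^ (2 ^ k) = 1 := by
    intro z hz
    rw [hZ] at hz
    obtain ⟨z', hz', rfl⟩ := hz
    obtain ⟨k, hk⟩ := Z₂.isPGroup' ⟨z', hz'⟩
    refine ⟨k, ?_⟩
    have h1 := congrArg Subtype.val hk
    rw [Subgroup.coe_pow, Subgroup.coe_one] at h1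
    have h2 := congrArg Subtype.val h1
    rw [Subgroup.coe_pow, Subgroup.coe_one] at h2
    exact h2
  have hfr : Subgroup.normalizer (Z : Set G) ⊔ M = ⊤ := by
    rw [hZ]; exact Sylow.normalizer_sup_eq_top Z₂
  -- an element of `Z` over `c`
  have hzc : ∃ z ∈ Z, ρ z = c := by
    obtain ⟨g₀, hg₀⟩ := hρ c
    have ho : orderOf g₀ ≠ 0 := (orderOf_pos g₀).ne'
    obtain ⟨k, m, hm, hkm⟩ := Nat.exists_eq_two_pow_mul_odd ho
    have hz1 : (g₀ ^ m) ^ (2 ^ k) = 1 := by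
      rw [← pow_mul, mul_comm, ← hkm, pow_orderOf_eq_one]
    have hρz1 : ρ (g₀ ^ m) = c := by
      obtain ⟨j, rfl⟩ := hm
      rw [map_pow, hg₀, pow_succ, pow_mul, pow_two, hc2, one_pow, one_mul]
    have hz1M : g₀ ^ m ∈ M := by
      rw [hM, Subgroup.mem_comap, hρz1]
      exact Subgroup.mem_zpowers c
    have hP : IsPGroup 2 (Subgroup.zpowers (⟨g₀ ^ m, hz1M⟩ : ↥M)) := by
      rintro ⟨g, hg⟩
      obtain ⟨i, rfl⟩ := Subgroup.mem_zpowers_iff.mp hg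
      refine ⟨k, Subtype.ext ?_⟩
      rw [Subgroup.coe_pow, Subgroup.coe_one]
      show ((⟨g₀ ^ m, hz1M⟩ : ↥M) ^ i) ^ (2 ^ k) = 1
      have h1 : (⟨g₀ ^ m, hz1M⟩ : ↥M) ^ (2 ^ k) = 1 := Subtype.ext (by
        rw [Subgroup.coe_pow, Subgroup.coe_one]; exact hz1)
      rw [← zpow_natCast, ← zpow_mul, mul_comm, zpow_mul, zpow_natCast, h1, one_zpow]
    obtain ⟨Q, hQ⟩ := hP.exists_le_sylow
    obtain ⟨m₀, hm₀⟩ := MulAction.exists_smul_eq ↥M Q Z₂
    have h1 : (⟨g₀ ^ m, hz1M⟩ : ↥M) ∈ (Q : Subgroup ↥M) := hQ (Subgroup.mem_zpowers _)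
    have h2 : MulAut.conj m₀ • (⟨g₀ ^ m, hz1M⟩ : ↥M) ∈ MulAut.conj m₀ • (Q : Subgroup ↥M) :=
      Subgroup.smul_mem_pointwise_smul _ _ _ h1
    rw [← Sylow.coe_subgroup_smul, hm₀, MulAut.smul_def, MulAut.conj_apply] at h2
    refine ⟨(m₀ : G) * g₀ ^ m * (m₀ : G)⁻¹, ?_, ?_⟩
    · rw [hZ]
      exact ⟨_, h2, rfl⟩
    · rw [map_mul, map_mul, map_inv, hρz1, hc (ρ m₀), mul_inv_cancel_right]
  obtain ⟨z, hzZ, hzc⟩ := hzc
  have hZN : Z ≤ Subgroup.normalizer (Z : Set G) := Subgroup.le_normalizer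
  refine ⟨Subgroup.normalizer (Z : Set G), ?_, ?_⟩
  · intro s
    obtain ⟨k, rfl⟩ := hρ s
    have hk : k ∈ ((Subgroup.normalizer (Z : Set G) ⊔ M : Subgroup G) : Set G) := by
      rw [hfr]; exact Subgroup.mem_top k
    rw [Subgroup.mul_normal] at hk
    obtain ⟨n, hn, m, hm, rfl⟩ := Set.mem_mul.mp hk
    have hm' : ρ m ∈ Subgroup.zpowers c := by
      have : m ∈ (Subgroup.zpowers c).comap ρ := by rw [← hM]; exact hm
      exact this
    obtain ⟨i, hi⟩ := Subgroup.mem_zpowers_iff.mp hm'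
    refine ⟨n * z ^ i, Subgroup.mul_mem _ hn (hZN (Subgroup.zpow_mem _ hzZ i)), ?_⟩
    rw [map_mul, map_mul, map_zpow, hzc, hi]
  · rw [eq_bot_iff]
    rintro w ⟨hwN, hwW⟩
    rw [Subgroup.mem_bot]
    have hwN' : w ∈ Subgroup.normalizer (Z : Set G) := hwN
    rw [Subgroup.mem_normalizer_iff] at hwN'
    have h1 : w * z * w⁻¹ ∈ Z := (hwN' z).mp hzZ
    have h2 : w * z * w⁻¹ * z⁻¹ ∈ Z := Subgroup.mul_mem _ h1 (Subgroup.inv_mem _ hzZ)
    have h3 : z * w⁻¹ * z⁻¹ = w := by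
      rw [hinv z hzc w⁻¹ (Subgroup.inv_mem _ hwW), inv_inv]
    have h4 : w * z * w⁻¹ * z⁻¹ = w * w := by
      calc w * z * w⁻¹ * z⁻¹ = w * (z * w⁻¹ * z⁻¹) := by group
        _ = w * w := by rw [h3]
    rw [h4] at h2
    obtain ⟨k, hk⟩ := hZ2 _ h2
    obtain ⟨j, hj⟩ := hWp w hwW
    have h5 : w ^ (2 ^ (k + 1)) = 1 := by
      rw [pow_succ', pow_mul, pow_two]; exact hk
    have h6 : orderOf w ∣ Nat.gcd (2 ^ (k + 1)) (p ^ j) :=
      Nat.dvd_gcd (orderOf_dvd_of_pow_eq_one h5) (orderOf_dvd_of_pow_eq_one hj)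
    have h7 : Nat.Coprime (2 ^ (k + 1)) (p ^ j) :=
      Nat.Coprime.pow _ _ ((Nat.coprime_primes Nat.prime_two hp).mpr (Ne.symm hp2))
    rw [h7] at h6
    exact orderOf_eq_one_iff.mp (Nat.dvd_one.mp h6)

/-- From equivariant coordinates on a normal subgroup `W` (a plane over `𝔽_p`) and a compatible
surjection onto `SL₂(p)`, the group `Qd(p)` is involved. -/
theorem qd_of_data {G : Type*} [Group G] [Finite G] {p : ℕ} [Fact p.Prime] (hp : p ≠ 2)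
    (W : Subgroup G) [hWn : W.Normal]
    (ψ : ↥W → (Fin 2 → ZMod p)) (hψmul : ∀ x y : ↥W, ψ (x * y) = ψ x + ψ y)
    (hψbij : Function.Bijective ψ)
    (ρ : G →* Dk.SL2 (ZMod p)) (hρ : Function.Surjective ρ)
    (heq : ∀ (g : G) (x : ↥W) (hx : g * (x : G) * g⁻¹ ∈ W),
      ψ ⟨g * (x : G) * g⁻¹, hx⟩ =
        ((ρ g : Dk.SL2 (ZMod p)) : Matrix (Fin 2) (Fin 2) (ZMod p)).mulVec (ψ x)) :
    Cfsg.Involves ↥(Cfsg.qd p) G := by
  classical
  have hψ1 : ψ 1 = 0 := by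
    have h := hψmul 1 1
    rw [mul_one] at h
    exact left_eq_add.mp h
  have hψinv : ∀ x : ↥W, ψ x⁻¹ = -ψ x := by
    intro x
    have h := hψmul x x⁻¹
    rw [mul_inv_cancel, hψ1] at h
    exact eq_neg_of_add_eq_zero_right h.symm
  have hψpow : ∀ (x : ↥W) (n : ℕ), ψ (x ^ n) = n • ψ x := by
    intro x n
    induction n with
    | zero => rw [pow_zero, hψ1, zero_smul]
    | succ n ih => rw [pow_succ, hψmul, ih, succ_nsmul]
  have hWp : ∀ w ∈ W, ∃ k : ℕ, w ^ (p ^ k) = 1 := by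
    intro w hw
    refine ⟨1, ?_⟩
    have h1 : ψ ((⟨w, hw⟩ : ↥W) ^ p) = 0 := by
      rw [hψpow]
      ext i
      simp
    have h2 : (⟨w, hw⟩ : ↥W) ^ p = 1 := hψbij.1 (by rw [h1, hψ1])
    rw [pow_one]
    have h3 := congrArg Subtype.val h2
    rw [Subgroup.coe_pow, Subgroup.coe_one] at h3
    exact h3
  have hinv : ∀ g : G, ρ g = Dk.negOne (ZMod p) → ∀ w ∈ W, g * w * g⁻¹ = w⁻¹ := by
    intro g hg w hw
    have hx : g * w * g⁻¹ ∈ W := hWn.conj_mem w hw g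
    have h1 := heq g ⟨w, hw⟩ hx
    rw [hg] at h1
    have h2 : ((Dk.negOne (ZMod p) : Dk.SL2 (ZMod p)) : Matrix (Fin 2) (Fin 2) (ZMod p)).mulVec
        (ψ ⟨w, hw⟩) = -ψ ⟨w, hw⟩ := by
      ext i
      fin_cases i <;> simp [Dk.negOne, Dk.mk4, Matrix.mulVec, dotProduct, Fin.sum_univ_two]
    rw [h2, ← hψinv] at h1
    exact congrArg Subtype.val (hψbij.1 h1)
  have hcen : ∀ s : Dk.SL2 (ZMod p), s * Dk.negOne (ZMod p) = Dk.negOne (ZMod p) * s := by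
    intro s
    apply Dk.ext4 <;> simp [Dk.negOne]
  have hc2 : Dk.negOne (ZMod p) * Dk.negOne (ZMod p) = 1 := by
    apply Dk.ext4 <;> simp [Dk.negOne]
  obtain ⟨N₂, hN₂surj, hN₂W⟩ := exists_compl ρ hρ (Dk.negOne (ZMod p)) hcen hc2 W hp hWp hinv
  obtain ⟨φc, hφc⟩ : ∃ φc : ↥N₂ →* MulAut ↥W,
      ∀ (n : ↥N₂) (x : ↥W), ((φc n x : ↥W) : G) = (n : G) * x * (n : G)⁻¹ :=
    ⟨MulAut.conjNormal.comp N₂.subtype, fun n x => rfl⟩
  obtain ⟨j, hj⟩ : ∃ j : ↥W ⋊[φc] ↥N₂ →* G, ∀ y, j y = (y.left : G) * (y.right : G) := by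
    refine ⟨{ toFun := fun y => (y.left : G) * (y.right : G)
              map_one' := by simp
              map_mul' := ?_ }, fun y => rfl⟩
    intro y y'
    rw [SemidirectProduct.mul_left, SemidirectProduct.mul_right, Subgroup.coe_mul,
      Subgroup.coe_mul, hφc]
    group
  have hjinj : Function.Injective j := by
    rw [injective_iff_map_eq_one]
    intro y hy
    rw [hj] at hy
    have h1 : (y.left : G) = (y.right : G)⁻¹ := eq_inv_of_mul_eq_one_left hy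
    have h2 : (y.left : G) ∈ N₂ ⊓ W := ⟨by rw [h1]; exact N₂.inv_mem y.right.2, y.left.2⟩
    rw [hN₂W, Subgroup.mem_bot] at h2
    have h3 : (y.right : G) = 1 := by rw [h2, one_mul] at hy; exact hy
    exact SemidirectProduct.ext (Subtype.ext h2) (Subtype.ext h3)
  obtain ⟨Φ, hΦ⟩ : ∃ Φ : ↥W ⋊[φc] ↥N₂ →* Matrix.SpecialLinearGroup (Fin 3) (ZMod p),
      ∀ y, Φ y = aff (ρ (y.right : G)) (ψ y.left) := by
    refine ⟨{ toFun := fun y => aff (ρ (y.right : G)) (ψ y.left)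
              map_one' := ?_
              map_mul' := ?_ }, fun y => rfl⟩
    · show aff (ρ ((1 : ↥N₂) : G)) (ψ 1) = 1
      rw [Subgroup.coe_one, map_one, hψ1, aff_one]
    · intro y y'
      show aff (ρ ((y * y').right : G)) (ψ (y * y').left) = aff _ _ * aff _ _
      rw [aff_mul, SemidirectProduct.mul_left, SemidirectProduct.mul_right, Subgroup.coe_mul,
        map_mul, hψmul]
      have h1 : ψ (φc y.right y'.left) =
          ((ρ (y.right : G) : Dk.SL2 (ZMod p)) : Matrix (Fin 2) (Fin 2) (ZMod p)).mulVec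
            (ψ y'.left) := by
        have hx : (y.right : G) * (y'.left : G) * (y.right : G)⁻¹ ∈ W :=
          hWn.conj_mem _ y'.left.2 _
        have h2 := heq (y.right : G) y'.left hx
        rw [← h2]
        congr 1
        exact Subtype.ext (hφc _ _)
      rw [h1, add_comm]
  have hΦmem : ∀ y, Φ y ∈ Cfsg.qd p := fun y => by rw [hΦ]; exact aff_mem_qd p _ _
  have hsurj : Function.Surjective (Φ.codRestrict (Cfsg.qd p) hΦmem) := by
    rintro ⟨M, hM⟩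
    obtain ⟨A, t, rfl⟩ := exists_aff_of_mem_qd p M hM
    obtain ⟨n, hn, rfl⟩ := hN₂surj A
    obtain ⟨x, rfl⟩ := hψbij.2 t
    refine ⟨⟨x, ⟨n, hn⟩⟩, Subtype.ext ?_⟩
    show Φ _ = _
    rw [hΦ]
  have h1 : Cfsg.Involves ↥(Cfsg.qd p) (↥W ⋊[φc] ↥N₂) :=
    Cfsg.Agent.Lib.helper14.involves_of_surjective_hom _ hsurj
      (Cfsg.Agent.Lib.helper15.inv_self _)
  exact Cfsg.Agent.Lib.helper14.involves_of_injective j hjinj h1

end Cfsg.Agent.Lib.helper15.Qd
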