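import Mathlib
import Cfsg.Agent.Lib.helper15.QdCompl
import Cfsg.Agent.Lib.helper15.DkMain

set_option autoImplicit false
set_option linter.style.haveILetI false

namespace Cfsg.Agent.Lib.helper15.Qd

open Cfsg.Agent.Lib.helper15

/-- Coordinates on a plane: a group generated by two commuting elements `v`, `w` of exponent `p`
on which two elements act as the elementary transvections gets `𝔽_p`-coordinates, and the acting
group (generated by these two and elements acting trivially) maps onto `SL₂(p)` compatibly. -/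
theorem plane_data {K : Type*} [Group K] {E : Type*} [CommGroup E] {p : ℕ} [Fact p.Prime]
    (hexp : ∀ x : E, x ^ p = 1) (β : K →* MulAut E) (a b : K) (v w : E) (hv : v ≠ 1)
    (hav : β a v = v * w) (haw : β a w = w) (hbw : β b w = w * v) (hbv : β b v = v)
    (hE : Subgroup.closure ({v, w} : Set E) = ⊤)
    (hK : Subgroup.closure ({k : K | β k = 1} ∪ {a, b}) = ⊤) :
    ∃ (ψ : E → (Fin 2 → ZMod p)) (ρ : K →* Dk.SL2 (ZMod p)),
      (∀ x y : E, ψ (x * y) = ψ x + ψ y) ∧ Function.Bijective ψ ∧ Function.Surjective ρ ∧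
      ∀ (k : K) (x : E), ψ (β k x) =
        ((ρ k : Dk.SL2 (ZMod p)) : Matrix (Fin 2) (Fin 2) (ZMod p)).mulVec (ψ x) := by
  classical
  have hA : ∀ x : Additive E, p • x = 0 := fun x => congrArg Additive.ofMul (hexp x.toMul)
  haveI : Module (ZMod p) (Additive E) := AddCommGroup.zmodModule hA
  obtain ⟨L, hL⟩ : ∃ L : K →* Module.End (ZMod p) (Additive E),
      ∀ (g : K) (x : Additive E), L g x = Additive.ofMul (β g x.toMul) := by
    refine ⟨{ toFun := fun g => (MonoidHom.toAdditive (β g).toMonoidHom).toZModLinearMap p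
              map_one' := ?_
              map_mul' := ?_ }, fun g x => rfl⟩
    · apply LinearMap.ext
      intro x
      show Additive.ofMul (β 1 x.toMul) = x
      rw [map_one]
      rfl
    · intro g h
      apply LinearMap.ext
      intro x
      show Additive.ofMul (β (g * h) x.toMul) = Additive.ofMul (β g (β h x.toMul))
      rw [map_mul]
      rfl
  obtain ⟨ev, hev⟩ : ∃ ev : Additive E, ev = Additive.ofMul v := ⟨_, rfl⟩
  obtain ⟨ew, hew⟩ : ∃ ew : Additive E, ew = Additive.ofMul w := ⟨_, rfl⟩
  have hLav : L a ev = ev + ew := by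
    rw [hL, hev, hew]; exact congrArg Additive.ofMul hav
  have hLaw : L a ew = ew := by
    rw [hL, hew]; exact congrArg Additive.ofMul haw
  have hLbw : L b ew = ew + ev := by
    rw [hL, hev, hew]; exact congrArg Additive.ofMul hbw
  have hLbv : L b ev = ev := by
    rw [hL, hev]; exact congrArg Additive.ofMul hbv
  have hev0 : ev ≠ 0 := by
    intro h
    rw [hev] at h
    exact hv (congrArg Additive.toMul h)
  have hli : LinearIndependent (ZMod p) ![ev, ew] := by
    rw [LinearIndependent.pair_iff]
    intro s t hst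
    have h1 := congrArg (L b) hst
    rw [map_add, map_smul, map_smul, hLbv, hLbw, map_zero] at h1
    have h2 : t • ev = 0 := by
      have e : s • ev + t • (ew + ev) - (s • ev + t • ew) = t • ev := by
        rw [smul_add]; abel
      rw [← e, h1, hst, sub_zero]
    have ht : t = 0 := (smul_eq_zero.mp h2).resolve_right hev0
    rw [ht, zero_smul, add_zero] at hst
    exact ⟨(smul_eq_zero.mp hst).resolve_right hev0, ht⟩
  have hsp : ⊤ ≤ Submodule.span (ZMod p) (Set.range ![ev, ew]) := by
    intro x _
    have key : ∀ y ∈ Subgroup.closure ({v, w} : Set E),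
        Additive.ofMul y ∈ Submodule.span (ZMod p) (Set.range ![ev, ew]) := by
      intro y hy
      induction hy using Subgroup.closure_induction with
      | mem z hz =>
        apply Submodule.subset_span
        rcases hz with rfl | hz
        · exact ⟨0, by simp [hev]⟩
        · rw [Set.mem_singleton_iff] at hz
          subst hz
          exact ⟨1, by simp [hew]⟩
      | one => exact Submodule.zero_mem _
      | mul y z _ _ hy hz => exact Submodule.add_mem _ hy hz
      | inv y _ hy => exact Submodule.neg_mem _ hy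
    exact key x.toMul (by rw [hE]; exact Subgroup.mem_top _)
  obtain ⟨bas, hb0, hb1⟩ : ∃ bas : Module.Basis (Fin 2) (ZMod p) (Additive E),
      bas 0 = ev ∧ bas 1 = ew :=
    ⟨Module.Basis.mk hli hsp, by rw [Module.Basis.mk_apply]; rfl,
      by rw [Module.Basis.mk_apply]; rfl⟩
  have hMa : LinearMap.toMatrix bas bas (L a) = !![1, 0; 1, 1] := by
    ext i j
    rw [LinearMap.toMatrix_apply]
    fin_cases j
    · show bas.repr (L a (bas 0)) i = _
      rw [hb0, hLav, ← hb0, ← hb1, map_add, Module.Basis.repr_self, Module.Basis.repr_self]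
      fin_cases i <;> simp
    · show bas.repr (L a (bas 1)) i = _
      rw [hb1, hLaw, ← hb1, Module.Basis.repr_self]
      fin_cases i <;> simp
  have hMb : LinearMap.toMatrix bas bas (L b) = !![1, 1; 0, 1] := by
    ext i j
    rw [LinearMap.toMatrix_apply]
    fin_cases j
    · show bas.repr (L b (bas 0)) i = _
      rw [hb0, hLbv, ← hb0, Module.Basis.repr_self]
      fin_cases i <;> simp
    · show bas.repr (L b (bas 1)) i = _
      rw [hb1, hLbw, ← hb0, ← hb1, map_add, Module.Basis.repr_self, Module.Basis.repr_self]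
      fin_cases i <;> simp
  have hdet : ∀ k : K, LinearMap.det (L k) = 1 := by
    intro k
    have hk : k ∈ Subgroup.closure ({k : K | β k = 1} ∪ {a, b}) := by
      rw [hK]; exact Subgroup.mem_top k
    induction hk using Subgroup.closure_induction with
    | mem s hs =>
      rcases hs with hs | hs | hs
      · have h1 : L s = 1 := by
          apply LinearMap.ext
          intro x
          have hs' : β s = 1 := hs
          rw [hL, hs']
          rfl
        rw [h1, map_one]
      · rw [hs, ← LinearMap.det_toMatrix bas, hMa, Matrix.det_fin_two_of]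
        norm_num
      · rw [Set.mem_singleton_iff] at hs
        rw [hs, ← LinearMap.det_toMatrix bas, hMb, Matrix.det_fin_two_of]
        norm_num
    | one => rw [map_one, map_one]
    | mul y z _ _ hy hz => rw [map_mul, map_mul, hy, hz, one_mul]
    | inv y _ hy =>
      have h3 : LinearMap.det (L y⁻¹) * LinearMap.det (L y) = 1 := by
        rw [← map_mul, ← map_mul, inv_mul_cancel, map_one, map_one]
      rw [hy, mul_one] at h3
      exact h3
  obtain ⟨ρ, hρ⟩ : ∃ ρ : K →* Dk.SL2 (ZMod p),
      ∀ g : K, ((ρ g : Dk.SL2 (ZMod p)) : Matrix (Fin 2) (Fin 2) (ZMod p))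
        = LinearMap.toMatrix bas bas (L g) := by
    refine ⟨{ toFun := fun g => ⟨LinearMap.toMatrix bas bas (L g), by
                rw [LinearMap.det_toMatrix]; exact hdet g⟩
              map_one' := ?_
              map_mul' := ?_ }, fun g => rfl⟩
    · apply Subtype.ext
      show LinearMap.toMatrix bas bas (L 1) = 1
      rw [map_one, LinearMap.toMatrix_one]
    · intro g h
      apply Subtype.ext
      show LinearMap.toMatrix bas bas (L (g * h))
        = LinearMap.toMatrix bas bas (L g) * LinearMap.toMatrix bas bas (L h)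
      rw [map_mul, LinearMap.toMatrix_mul]
  have hρa : ρ a = Dk.ll 1 := by
    apply Subtype.ext
    show ((ρ a : Dk.SL2 (ZMod p)) : Matrix (Fin 2) (Fin 2) (ZMod p)) = _
    rw [hρ, hMa]
    rfl
  have hρb : ρ b = Dk.uu 1 := by
    apply Subtype.ext
    show ((ρ b : Dk.SL2 (ZMod p)) : Matrix (Fin 2) (Fin 2) (ZMod p)) = _
    rw [hρ, hMb]
    rfl
  have hsurj : Function.Surjective ρ := by
    have h1 : ρ.range = ⊤ := Dk.zmod_gen p ρ.range ⟨b, hρb⟩ ⟨a, hρa⟩
    intro s
    have h2 : s ∈ ρ.range := by rw [h1]; exact Subgroup.mem_top s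
    exact h2
  refine ⟨fun x => bas.equivFun (Additive.ofMul x), ρ, ?_, ?_, hsurj, ?_⟩
  · intro x y
    show bas.equivFun (Additive.ofMul x + Additive.ofMul y) = _
    rw [map_add]
  · exact bas.equivFun.bijective.comp Additive.ofMul.bijective
  · intro k x
    show bas.equivFun (Additive.ofMul (β k x)) =
      ((ρ k : Dk.SL2 (ZMod p)) : Matrix (Fin 2) (Fin 2) (ZMod p)).mulVec
        (bas.equivFun (Additive.ofMul x))
    have h1 := LinearMap.toMatrix_mulVec_repr bas bas (L k) (Additive.ofMul x)
    rw [hρ, Module.Basis.equivFun_apply, Module.Basis.equivFun_apply]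
    rw [hL] at h1
    exact h1.symm

/-- The `Qd(p)` configuration: commuting elements `v`, `w` of order dividing `p` (`v ≠ 1`) and
elements `a`, `b` acting on them by conjugation as the two elementary transvections force a
section isomorphic to `Qd(p)`. -/
theorem qd_of_conf {X : Type*} [Group X] [Finite X] {p : ℕ} [Fact p.Prime] (hp : p ≠ 2)
    (v w a b : X) (hvp : v ^ p = 1) (hwp : w ^ p = 1) (hvw : v * w = w * v) (hv1 : v ≠ 1)
    (hav : a * v * a⁻¹ = v * w) (haw : a * w * a⁻¹ = w) (hbw : b * w * b⁻¹ = w * v)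
    (hbv : b * v * b⁻¹ = v) : Cfsg.Involves ↥(Cfsg.qd p) X := by
  classical
  have hpair : ∀ x ∈ ({v, w} : Set X), ∀ y ∈ ({v, w} : Set X), x * y = y * x := by
    intro x hx y hy
    rcases hx with rfl | hx <;> rcases hy with rfl | hy
    · rfl
    · rw [Set.mem_singleton_iff] at hy; subst hy; exact hvw
    · rw [Set.mem_singleton_iff] at hx; subst hx; exact hvw.symm
    · rw [Set.mem_singleton_iff] at hx hy; subst hx; subst hy; rfl
  have hWc : ∀ x ∈ Subgroup.closure ({v, w} : Set X), ∀ y ∈ Subgroup.closure ({v, w} : Set X),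
      x * y = y * x := by
    intro x hx y hy
    exact congrArg Subtype.val ((Subgroup.isMulCommutative_closure hpair).is_comm.comm
      (⟨x, hx⟩ : ↥(Subgroup.closure ({v, w} : Set X))) ⟨y, hy⟩)
  have hWe : ∀ x ∈ Subgroup.closure ({v, w} : Set X), x ^ p = 1 := by
    intro x hx
    induction hx using Subgroup.closure_induction with
    | mem z hz =>
      rcases hz with rfl | hz
      · exact hvp
      · rw [Set.mem_singleton_iff] at hz; subst hz; exact hwp
    | one => exact one_pow p
    | mul y z hy hz ihy ihz =>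
      rw [(show Commute y z from hWc y hy z hz).mul_pow, ihy, ihz, one_mul]
    | inv y _ ihy => rw [inv_pow, ihy, inv_one]
  obtain ⟨W₀, hW₀⟩ : ∃ W₀ : Subgroup X, W₀ = Subgroup.closure {v, w} := ⟨_, rfl⟩
  rw [← hW₀] at hWc hWe
  have hvW : v ∈ W₀ := by rw [hW₀]; exact Subgroup.subset_closure (by simp)
  have hwW : w ∈ W₀ := by rw [hW₀]; exact Subgroup.subset_closure (by simp)
  have conjW : ∀ c : X, c * v * c⁻¹ ∈ W₀ → c * w * c⁻¹ ∈ W₀ →
      c ∈ Subgroup.normalizer (W₀ : Set X) := by
    intro c h1 h2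
    apply Cfsg.Agent.Lib.helper14.mem_normalizer_of_forall_conj_mem
    intro x hx
    rw [hW₀] at hx
    induction hx using Subgroup.closure_induction with
    | mem z hz =>
      rcases hz with rfl | hz
      · exact h1
      · rw [Set.mem_singleton_iff] at hz; subst hz; exact h2
    | one => rw [mul_one, mul_inv_cancel]; exact W₀.one_mem
    | mul y z _ _ ihy ihz =>
      have e : c * (y * z) * c⁻¹ = (c * y * c⁻¹) * (c * z * c⁻¹) := by group
      rw [e]; exact W₀.mul_mem ihy ihz
    | inv y _ ihy =>
      have e : c * y⁻¹ * c⁻¹ = (c * y * c⁻¹)⁻¹ := by group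
      rw [e]; exact W₀.inv_mem ihy
  have haN : a ∈ Subgroup.normalizer (W₀ : Set X) :=
    conjW a (by rw [hav]; exact W₀.mul_mem hvW hwW) (by rw [haw]; exact hwW)
  have hbN : b ∈ Subgroup.normalizer (W₀ : Set X) :=
    conjW b (by rw [hbv]; exact hvW) (by rw [hbw]; exact W₀.mul_mem hwW hvW)
  obtain ⟨K, hK⟩ : ∃ K : Subgroup X, K = Subgroup.closure {v, w, a, b} := ⟨_, rfl⟩
  have hW₀K : W₀ ≤ K := by
    rw [hW₀, hK]
    apply Subgroup.closure_mono
    intro x hx
    rcases hx with rfl | hx
    · simp
    · rw [Set.mem_singleton_iff] at hx; subst hx; simp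
  have hKN : K ≤ Subgroup.normalizer (W₀ : Set X) := by
    rw [hK, Subgroup.closure_le]
    intro x hx
    rcases hx with rfl | rfl | rfl | hx
    · exact Subgroup.le_normalizer hvW
    · exact Subgroup.le_normalizer hwW
    · exact haN
    · rw [Set.mem_singleton_iff] at hx; subst hx; exact hbN
  letI : CommGroup ↥W₀ :=
    { (inferInstance : Group ↥W₀) with
      mul_comm := fun x y => Subtype.ext (hWc x x.2 y y.2) }
  obtain ⟨αK, hαK⟩ : ∃ αK : ↥K →* MulAut ↥W₀,
      ∀ (k : ↥K) (x : ↥W₀), ((αK k x : ↥W₀) : X) = (k : X) * x * (k : X)⁻¹ :=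
    ⟨(Subgroup.normalizerMonoidHom W₀).comp (Subgroup.inclusion hKN), fun k x => rfl⟩
  have haK : a ∈ K := by rw [hK]; exact Subgroup.subset_closure (by simp)
  have hbK : b ∈ K := by rw [hK]; exact Subgroup.subset_closure (by simp)
  have hexp : ∀ x : ↥W₀, x ^ p = 1 := fun x => Subtype.ext (by
    rw [Subgroup.coe_pow, Subgroup.coe_one]; exact hWe x x.2)
  have hE : Subgroup.closure ({(⟨v, hvW⟩ : ↥W₀), ⟨w, hwW⟩} : Set ↥W₀) = ⊤ := by
    subst hW₀
    have h1 := Subgroup.closure_closure_coe_preimage (k := ({v, w} : Set X))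
    have h2 : (Subtype.val ⁻¹' ({v, w} : Set X) :
        Set ↥(Subgroup.closure ({v, w} : Set X))) = {⟨v, hvW⟩, ⟨w, hwW⟩} := by
      ext t
      constructor
      · intro ht
        have ht' : (t : X) = v ∨ (t : X) = w := ht
        rcases ht' with h | h
        · left; exact Subtype.ext h
        · right; exact Subtype.ext h
      · intro ht
        have ht' : t = ⟨v, hvW⟩ ∨ t = ⟨w, hwW⟩ := ht
        show (t : X) = v ∨ (t : X) = w
        rcases ht' with h | h
        · left; rw [h]
        · right; rw [h]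
    rw [← h2]; exact h1
  have htriv : ∀ k : ↥K, (k : X) ∈ W₀ → αK k = 1 := by
    intro k hk
    apply MulEquiv.ext
    intro x
    apply Subtype.ext
    rw [hαK]
    show (k : X) * x * (k : X)⁻¹ = x
    rw [hWc _ hk x x.2, mul_inv_cancel_right]
  have hKgen : Subgroup.closure ({k : ↥K | αK k = 1} ∪ {(⟨a, haK⟩ : ↥K), ⟨b, hbK⟩}) = ⊤ := by
    subst hK
    have h1 := Subgroup.closure_closure_coe_preimage (k := ({v, w, a, b} : Set X))
    rw [eq_top_iff, ← h1]
    apply Subgroup.closure_mono
    intro t ht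
    have ht' : (t : X) = v ∨ (t : X) = w ∨ (t : X) = a ∨ (t : X) = b := ht
    rcases ht' with h | h | h | h
    · left; exact htriv t (by rw [h]; exact hvW)
    · left; exact htriv t (by rw [h]; exact hwW)
    · right; left; exact Subtype.ext h
    · right; right; exact Subtype.ext h
  obtain ⟨ψ, ρ, hψmul, hψbij, hρsurj, heq⟩ := plane_data hexp αK ⟨a, haK⟩ ⟨b, hbK⟩
    (⟨v, hvW⟩ : ↥W₀) ⟨w, hwW⟩ (fun h => hv1 (congrArg Subtype.val h))
    (Subtype.ext (by rw [hαK]; exact hav)) (Subtype.ext (by rw [hαK]; exact haw))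
    (Subtype.ext (by rw [hαK]; exact hbw)) (Subtype.ext (by rw [hαK]; exact hbv)) hE hKgen
  haveI hWn : (W₀.subgroupOf K).Normal := by
    refine ⟨fun n hn g => ?_⟩
    rw [Subgroup.mem_subgroupOf] at hn ⊢
    exact (Subgroup.mem_normalizer_iff.mp (hKN g.2) n).mp hn
  have h1 : Cfsg.Involves ↥(Cfsg.qd p) ↥K := by
    refine qd_of_data hp (W₀.subgroupOf K)
      (fun x => ψ ⟨((x : ↥K) : X), Subgroup.mem_subgroupOf.mp x.2⟩) ?_ ?_ ρ hρsurj ?_
    · intro x y
      exact hψmul ⟨_, Subgroup.mem_subgroupOf.mp x.2⟩ ⟨_, Subgroup.mem_subgroupOf.mp y.2⟩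
    · constructor
      · intro x y hxy
        have h2 := hψbij.1 hxy
        have h3 : ((x : ↥K) : X) = ((y : ↥K) : X) := congrArg (fun e : ↥W₀ => (e : X)) h2
        exact Subtype.ext (Subtype.ext h3)
      · intro t
        obtain ⟨e, he⟩ := hψbij.2 t
        exact ⟨⟨⟨e, hW₀K e.2⟩, Subgroup.mem_subgroupOf.mpr e.2⟩, he⟩
    · intro g x hx
      have h2 := heq g ⟨((x : ↥K) : X), Subgroup.mem_subgroupOf.mp x.2⟩
      rw [← h2]
      congr 1
      apply Subtype.ext
      rw [hαK]
      rfl
  exact Cfsg.Agent.Lib.helper14.involves_of_injective K.subtype K.subtype_injective h1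

end Cfsg.Agent.Lib.helper15.Qd
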