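import Mathlib
import Cfsg.Agent.Lib.helper15.DkMain

set_option autoImplicit false
set_option linter.unusedSimpArgs false

namespace Cfsg.Agent.Lib.helper15.Dk

open Cfsg.Agent.Lib.helper15

variable {F : Type*} [Field F]

/-- `z` is conjugate under `L` to one of `x`, `x⁻¹`, `y`, `y⁻¹`. -/
def CJ (L : Subgroup (SL2 F)) (x y z : SL2 F) : Prop :=
  ∃ l ∈ L, z = l * x * l⁻¹ ∨ z = l * x⁻¹ * l⁻¹ ∨ z = l * y * l⁻¹ ∨ z = l * y⁻¹ * l⁻¹

/-- The normalised pair version of the weak Dickson theorem. -/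
theorem W_pair_norm [Finite F] (p : ℕ) [Fact p.Prime] [CharP F p] (hp2 : p ≠ 2)
    (L : Subgroup (SL2 F)) {s₀ : F} (hs : s₀ ≠ 0) (hx : uu s₀ ∈ L) {y : SL2 F} (hy : y ∈ L)
    (hty : tr y = 2) (hc : ec y ≠ 0) :
    ∃ x₁ y₁ : SL2 F, CJ L (uu s₀) y x₁ ∧ CJ L (uu s₀) y y₁ ∧ tr (x₁ * y₁) = 3 := by
  have h2 : (2 : F) ≠ 0 := two_ne_zero_of_char p hp2
  have hself : CJ L (uu s₀) y (uu s₀) := ⟨1, L.one_mem, Or.inl (by simp)⟩
  rcases casework p hp2 L hs hx hy hc with hn | ⟨hq3, hexp⟩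
  · have h1 := endgame h2 L hy hc hty hn
    have hd := det_eq y
    have hty' := hty
    unfold tr at hty'
    refine ⟨uu (1 / ec y), y, ?_, ⟨1, L.one_mem, Or.inr (Or.inr (Or.inl (by simp)))⟩, ?_⟩
    · refine ⟨uu (-(1 / ec y)) * y * uu (-(1 / ec y)),
        L.mul_mem (L.mul_mem (by rw [uu_neg]; exact L.inv_mem h1) hy)
          (by rw [uu_neg]; exact L.inv_mem h1), Or.inr (Or.inr (Or.inr ?_))⟩
      have e : uu (1 / ec y) * (uu (-(1 / ec y)) * y * uu (-(1 / ec y))) =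
          (uu (-(1 / ec y)) * y * uu (-(1 / ec y))) * y⁻¹ := by
        apply ext4 <;> simp only [ea_mul, eb_mul, ec_mul, ed_mul, ea_inv, eb_inv, ec_inv, ed_inv,
          ea_uu, eb_uu, ec_uu, ed_uu]
        · field_simp
          linear_combination (-(ec y)) * hd
        · field_simp
          linear_combination (ec y * ea y) * hty'
        · field_simp
          ring
        · field_simp
          linear_combination (ec y) * hty' - (ec y) * hd
      rw [← e]
      group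
    · unfold tr
      simp only [ea_mul, eb_mul, ec_mul, ed_mul, ea_uu, eb_uu, ec_uu, ed_uu]
      field_simp
      linear_combination hty'
  · -- the exceptional group
    have hp3 : p = 3 := by
      have hp : p.Prime := Fact.out
      have hxu : uu s₀ ∈ uL L := ⟨hx, uu_mem_UU _⟩
      have ho : orderOf (⟨uu s₀, hxu⟩ : uL L) = p := by
        apply orderOf_eq_prime
        · apply Subtype.ext
          rw [Subgroup.coe_pow, Subgroup.coe_one]
          exact unip_pow_char p _ (tr_uu s₀)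
        · intro h
          have h' : uu s₀ = 1 := congrArg Subtype.val h
          have := congrArg eb h'
          simp only [eb_uu, eb_one] at this
          exact hs this
      have hdvd := orderOf_dvd_natCard (⟨uu s₀, hxu⟩ : uL L)
      rw [ho, hq3] at hdvd
      exact (Nat.prime_dvd_prime_iff_eq hp Nat.prime_three).mp hdvd
    subst hp3
    have h3 : (3 : F) = 0 := by exact_mod_cast CharP.cast_eq_zero F 3
    obtain ⟨lam, hlam⟩ : ∃ lam : F, lam = s₀ * ec y := ⟨_, rfl⟩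
    have hlam0 : lam ≠ 0 := by rw [hlam]; exact mul_ne_zero hs hc
    have ht1 : tr (uu s₀ * y) = 2 + lam := by
      unfold tr at hty ⊢
      simp only [ea_mul, ed_mul, ea_uu, eb_uu, ec_uu, ed_uu]
      rw [hlam]; linear_combination hty
    have ht2 : tr (uu s₀ * y⁻¹) = 2 - lam := by
      unfold tr at hty ⊢
      simp only [ea_mul, ed_mul, ea_uu, eb_uu, ec_uu, ed_uu, ea_inv, eb_inv, ec_inv, ed_inv]
      rw [hlam]; linear_combination hty
    have c1 := tr_cases3 _ (hexp _ (L.mul_mem hx hy))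
    have c2 := tr_cases3 _ (hexp _ (L.mul_mem hx (L.inv_mem hy)))
    rw [ht1] at c1
    rw [ht2] at c2
    have key : lam = 1 ∨ lam = -1 ∨ lam ^ 2 = -1 := by
      rcases c1 with (c1 | c1 | c1) | c1
      · left; linear_combination c1 - h3
      · right; left; linear_combination c1
      · exact absurd (by linear_combination c1 - h3) hlam0
      · rcases c2 with (c2 | c2 | c2) | c2
        · right; left; linear_combination -c2 + h3
        · left; linear_combination -c2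
        · exact absurd (by linear_combination -c2 + h3) hlam0
        · right; right
          have h4 : lam * (lam ^ 2 + 1) = 0 := by
            linear_combination c1 - c2 - (5 * lam ^ 3 + 21 * lam) * h3
          have h5 := (mul_eq_zero.mp h4).resolve_left hlam0
          linear_combination h5
    rcases key with h | h | h
    · refine ⟨uu s₀, y, hself, ⟨1, L.one_mem, Or.inr (Or.inr (Or.inl (by simp)))⟩, ?_⟩
      rw [ht1, h]; norm_num
    · refine ⟨uu s₀, y⁻¹, hself, ⟨1, L.one_mem, Or.inr (Or.inr (Or.inr (by simp)))⟩, ?_⟩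
      rw [ht2, h]; norm_num
    · refine ⟨uu s₀, y * uu s₀ * y⁻¹, hself, ⟨y, hy, Or.inl rfl⟩, ?_⟩
      unfold tr at hty ⊢
      simp only [ec_mul, ea_mul, ed_mul, eb_mul, ea_inv, eb_inv, ec_inv, ed_inv, ea_uu, eb_uu,
        ec_uu, ed_uu]
      rw [hlam] at h
      have hd := det_eq y
      linear_combination -h + 2 * hd

/-- Pair version of the weak Dickson theorem: two non-commuting unipotent elements of a subgroup
`L` of `SL₂(F)` have `L`-conjugates (up to inversion) whose product has trace `3`. -/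
theorem W_pair [Finite F] (p : ℕ) [Fact p.Prime] [CharP F p] (hp2 : p ≠ 2) (L : Subgroup (SL2 F))
    (x y : SL2 F) (hx : x ∈ L) (hy : y ∈ L) (htx : tr x = 2) (hty : tr y = 2)
    (hxy : x * y ≠ y * x) :
    ∃ x₁ y₁ : SL2 F, CJ L x y x₁ ∧ CJ L x y y₁ ∧ tr (x₁ * y₁) = 3 := by
  have hx1 : x ≠ 1 := by
    rintro rfl
    exact hxy (by rw [one_mul, mul_one])
  obtain ⟨g₀, s₀, hs₀, hg₀⟩ := exists_conj_uu htx hx1
  obtain ⟨L', hL'⟩ : ∃ L' : Subgroup (SL2 F), L' = L.map (MulAut.conj g₀).toMonoidHom := ⟨_, rfl⟩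
  have hmem : ∀ g ∈ L, g₀ * g * g₀⁻¹ ∈ L' := by
    intro g hg
    rw [hL']
    exact ⟨g, hg, by simp⟩
  have hmem' : ∀ g ∈ L', g₀⁻¹ * g * g₀ ∈ L := by
    intro g hg
    rw [hL'] at hg
    obtain ⟨k, hk, rfl⟩ := hg
    have : g₀⁻¹ * ((MulAut.conj g₀).toMonoidHom k) * g₀ = k := by simp [mul_assoc]
    rw [this]
    exact hk
  have hxL' : uu s₀ ∈ L' := by rw [← hg₀]; exact hmem x hx
  have hyL' := hmem y hy
  have hty' : tr (g₀ * y * g₀⁻¹) = 2 := by rw [tr_conj, hty]
  have hcy' : ec (g₀ * y * g₀⁻¹) ≠ 0 := by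
    intro h0
    have hU : g₀ * y * g₀⁻¹ ∈ UU F := mem_UU_of_BB_tr h0 hty'
    have hcomm : uu s₀ * (g₀ * y * g₀⁻¹) = (g₀ * y * g₀⁻¹) * uu s₀ := by
      rw [mem_UU_iff.mp hU, ← uu_add, ← uu_add, add_comm]
    rw [← hg₀] at hcomm
    apply hxy
    have e1 : g₀ * x * g₀⁻¹ * (g₀ * y * g₀⁻¹) = g₀ * (x * y) * g₀⁻¹ := by group
    have e2 : g₀ * y * g₀⁻¹ * (g₀ * x * g₀⁻¹) = g₀ * (y * x) * g₀⁻¹ := by group
    rw [e1, e2] at hcomm
    exact mul_left_cancel (mul_right_cancel hcomm)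
  obtain ⟨x₁, y₁, hcx, hcy, htr⟩ := W_pair_norm p hp2 L' hs₀ hxL' hyL' hty' hcy'
  have back : ∀ z : SL2 F, CJ L' (uu s₀) (g₀ * y * g₀⁻¹) z → CJ L x y (g₀⁻¹ * z * g₀) := by
    rintro z ⟨l, hl, hz⟩
    refine ⟨g₀⁻¹ * l * g₀, hmem' l hl, ?_⟩
    rw [← hg₀] at hz
    rcases hz with rfl | rfl | rfl | rfl
    · left; group
    · right; left; group
    · right; right; left; group
    · right; right; right; group
  refine ⟨g₀⁻¹ * x₁ * g₀, g₀⁻¹ * y₁ * g₀, back x₁ hcx, back y₁ hcy, ?_⟩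
  have e : g₀⁻¹ * x₁ * g₀ * (g₀⁻¹ * y₁ * g₀) = g₀⁻¹ * (x₁ * y₁) * g₀ := by group
  rw [e, tr_conj', htr]

end Cfsg.Agent.Lib.helper15.Dk
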