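import Mathlib
import Cfsg.Agent.Lib.helper3.QuadPairGroup
import Cfsg.Agent.Lib.helper15.DkPair

set_option autoImplicit false
set_option linter.style.haveILetI false

namespace Cfsg.Agent.Lib.helper15

open Cfsg.Agent.Lib.helper3

universe u v w

theorem tr_of_sq_zero {K : Type*} [Field K] (A : Dk.SL2 K)
    (hA : ((A : Matrix (Fin 2) (Fin 2) K) - 1) * ((A : Matrix (Fin 2) (Fin 2) K) - 1) = 0) :
    (A : Matrix (Fin 2) (Fin 2) K) 0 0 + (A : Matrix (Fin 2) (Fin 2) K) 1 1 = 2 := by
  have e00 := congrFun (congrFun hA 0) 0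
  have e01 := congrFun (congrFun hA 0) 1
  have hdet := A.2
  rw [Matrix.det_fin_two] at hdet
  simp only [Matrix.mul_apply, Fin.sum_univ_two, Matrix.sub_apply, Matrix.one_apply,
    Matrix.zero_apply] at e00 e01
  simp at e00 e01
  linear_combination (A : Matrix (Fin 2) (Fin 2) K) 1 1 * e00 +
    ((A : Matrix (Fin 2) (Fin 2) K) 1 1 - ((A : Matrix (Fin 2) (Fin 2) K) 0 0 +
      (A : Matrix (Fin 2) (Fin 2) K) 1 1 - 2)) * hdet - (A : Matrix (Fin 2) (Fin 2) K) 1 0 * e01

theorem det_quad_pair {K : Type*} [Field K] (A B : Dk.SL2 K)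
    (hA : ((A : Matrix (Fin 2) (Fin 2) K) - 1) * ((A : Matrix (Fin 2) (Fin 2) K) - 1) = 0)
    (hB : ((B : Matrix (Fin 2) (Fin 2) K) - 1) * ((B : Matrix (Fin 2) (Fin 2) K) - 1) = 0) :
    (((A : Matrix (Fin 2) (Fin 2) K) - 1) * ((B : Matrix (Fin 2) (Fin 2) K) - 1) -
      (Dk.tr (A * B) - 2) • (1 : Matrix (Fin 2) (Fin 2) K)).det = 0 := by
  have hd : (A : Matrix (Fin 2) (Fin 2) K) 1 1 = 2 - (A : Matrix (Fin 2) (Fin 2) K) 0 0 := by
    linear_combination tr_of_sq_zero A hA
  have hd' : (B : Matrix (Fin 2) (Fin 2) K) 1 1 = 2 - (B : Matrix (Fin 2) (Fin 2) K) 0 0 := by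
    linear_combination tr_of_sq_zero B hB
  have e00 := congrFun (congrFun hA 0) 0
  have f00 := congrFun (congrFun hB 0) 0
  simp only [Matrix.mul_apply, Fin.sum_univ_two, Matrix.sub_apply, Matrix.one_apply,
    Matrix.zero_apply] at e00 f00
  simp at e00 f00
  rw [Matrix.det_fin_two]
  unfold Dk.tr Dk.ea Dk.ed
  simp only [Matrix.SpecialLinearGroup.coe_mul, Matrix.mul_apply, Fin.sum_univ_two,
    Matrix.sub_apply, Matrix.one_apply, Matrix.smul_apply, smul_eq_mul]
  simp
  rw [hd, hd']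
  linear_combination (((B : Matrix (Fin 2) (Fin 2) K) 0 0 - 1) *
    ((B : Matrix (Fin 2) (Fin 2) K) 0 0 - 1) +
    (B : Matrix (Fin 2) (Fin 2) K) 0 1 * (B : Matrix (Fin 2) (Fin 2) K) 1 0) * e00

/-- The eigenvector property linking a representation with quadratic elements to its
two-dimensional shadow: the operator `(ρ g - 1)(ρ h - 1)` has the eigenvalue `tr (φ g φ h) - 2`. -/
def EigProp {K : Type u} [Field K] {W : Type v} [AddCommGroup W] [Module K W] {G : Type w}
    [Group G] (ρ : G →* Module.End K W) (φ : G →* Matrix.SpecialLinearGroup (Fin 2) K) : Prop :=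
  ∀ g h : G, (∀ x : W, ρ g (ρ g x - x) = ρ g x - x) → (∀ x : W, ρ h (ρ h x - x) = ρ h x - x) →
    ∃ x : W, x ≠ 0 ∧ ρ g (ρ h x - x) - (ρ h x - x) = (Dk.tr (φ g * φ h) - 2) • x

theorem eig_of_restrict {K : Type u} [Field K] {W : Type v} [AddCommGroup W] [Module K W]
    {G : Type w} [Group G] (ρ : G →* Module.End K W) (U : Submodule K W)
    (hU : ∀ g : G, ∀ x ∈ U, ρ g x ∈ U) (φ : G →* Matrix.SpecialLinearGroup (Fin 2) K)
    (h : EigProp (repRestrict ρ U hU) φ) : EigProp ρ φ := by
  intro g k hg hk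
  obtain ⟨x, hx0, hx⟩ := h g k (fun x => Subtype.ext (hg x)) (fun x => Subtype.ext (hk x))
  refine ⟨(x : W), fun h0 => hx0 (Subtype.ext h0), ?_⟩
  have h1 := congrArg Subtype.val hx
  exact h1

theorem eig_of_quot {K : Type u} [Field K] {W : Type v} [AddCommGroup W] [Module K W]
    [FiniteDimensional K W] {G : Type w} [Group G] (ρ : G →* Module.End K W) (U : Submodule K W)
    (hU : ∀ g : G, ∀ x ∈ U, ρ g x ∈ U) (φ : G →* Matrix.SpecialLinearGroup (Fin 2) K)
    (h : EigProp (repQuot ρ U hU) φ) : EigProp ρ φ := by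
  intro g k hg hk
  have hgq : ∀ q : W ⧸ U, repQuot ρ U hU g (repQuot ρ U hU g q - q) = repQuot ρ U hU g q - q := by
    intro q
    induction q using Submodule.Quotient.induction_on with
    | _ z => rw [repQuot_apply, ← Submodule.Quotient.mk_sub, repQuot_apply, hg]
  have hkq : ∀ q : W ⧸ U, repQuot ρ U hU k (repQuot ρ U hU k q - q) = repQuot ρ U hU k q - q := by
    intro q
    induction q using Submodule.Quotient.induction_on with
    | _ z => rw [repQuot_apply, ← Submodule.Quotient.mk_sub, repQuot_apply, hk]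
  obtain ⟨q, hq0, hq⟩ := h g k hgq hkq
  obtain ⟨μ, hμ⟩ : ∃ μ : K, μ = Dk.tr (φ g * φ k) - 2 := ⟨_, rfl⟩
  rw [← hμ] at hq ⊢
  obtain ⟨F, hF⟩ : ∃ F : Module.End K W,
      ∀ x, F x = ρ g (ρ k x - x) - (ρ k x - x) - μ • x :=
    ⟨(ρ g - 1) * (ρ k - 1) - μ • 1, fun x => rfl⟩
  by_contra hcon
  push Not at hcon
  have hinj : Function.Injective F := by
    rw [← LinearMap.ker_eq_bot, LinearMap.ker_eq_bot']
    intro x hx
    by_contra hx0
    exact hcon x hx0 (by rw [hF] at hx; exact sub_eq_zero.mp hx)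
  have hFU : ∀ x ∈ U, F x ∈ U := by
    intro x hx
    rw [hF]
    exact U.sub_mem (U.sub_mem (hU g _ (U.sub_mem (hU k x hx) hx)) (U.sub_mem (hU k x hx) hx))
      (U.smul_mem μ hx)
  have hinjU : Function.Injective (F.restrict hFU) :=
    fun a b hab => Subtype.ext (hinj (congrArg Subtype.val hab))
  have hsurjU : Function.Surjective (F.restrict hFU) :=
    LinearMap.injective_iff_surjective.mp hinjU
  obtain ⟨z, rfl⟩ := Submodule.Quotient.mk_surjective U q
  have hz : F z ∈ U := by
    rw [repQuot_apply, ← Submodule.Quotient.mk_sub, repQuot_apply, ← Submodule.Quotient.mk_sub,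
      ← Submodule.Quotient.mk_smul, Submodule.Quotient.eq] at hq
    rw [hF]
    exact hq
  obtain ⟨u, hu⟩ := hsurjU ⟨F z, hz⟩
  have h1 : F u = F z := congrArg Subtype.val hu
  have hzu : (u : W) = z := hinj h1
  apply hq0
  rw [← hzu]
  exact (Submodule.Quotient.mk_eq_zero U).mpr u.2

theorem eig_irred {K : Type u} [Field K] {W : Type v} [AddCommGroup W] [Module K W]
    {G : Type w} [Group G] (ρ : G →* Module.End K W)
    (φ : G →* Matrix.SpecialLinearGroup (Fin 2) K) (bas : Module.Basis (Fin 2) K W)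
    (hφ : ∀ g : G, ((φ g : Matrix.SpecialLinearGroup (Fin 2) K) : Matrix (Fin 2) (Fin 2) K)
      = LinearMap.toMatrix bas bas (ρ g)) : EigProp ρ φ := by
  intro g k hg hk
  have sq : ∀ c : G, (∀ x : W, ρ c (ρ c x - x) = ρ c x - x) →
      ((φ c : Matrix (Fin 2) (Fin 2) K) - 1) * ((φ c : Matrix (Fin 2) (Fin 2) K) - 1) = 0 := by
    intro c hc
    have h1 : (ρ c - 1) * (ρ c - 1) = 0 := by
      apply LinearMap.ext
      intro x
      show ρ c (ρ c x - x) - (ρ c x - x) = 0
      rw [hc, sub_self]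
    have h2 := congrArg (LinearMap.toMatrix bas bas) h1
    rw [LinearMap.toMatrix_mul, map_sub, LinearMap.toMatrix_one, map_zero, ← hφ] at h2
    exact h2
  have hdet := det_quad_pair (φ g) (φ k) (sq g hg) (sq k hk)
  obtain ⟨μ, hμ⟩ : ∃ μ : K, μ = Dk.tr (φ g * φ k) - 2 := ⟨_, rfl⟩
  rw [← hμ] at hdet ⊢
  obtain ⟨F, hF⟩ : ∃ F : Module.End K W, F = (ρ g - 1) * (ρ k - 1) - μ • 1 := ⟨_, rfl⟩
  have hFm : LinearMap.toMatrix bas bas F =
      ((φ g : Matrix (Fin 2) (Fin 2) K) - 1) * ((φ k : Matrix (Fin 2) (Fin 2) K) - 1) -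
        μ • (1 : Matrix (Fin 2) (Fin 2) K) := by
    rw [hF, map_sub, LinearMap.toMatrix_mul, map_sub, map_sub, map_smul, LinearMap.toMatrix_one,
      ← hφ, ← hφ]
  have hdF : LinearMap.det F = 0 := by
    rw [← LinearMap.det_toMatrix bas, hFm]
    exact hdet
  have hker := LinearMap.bot_lt_ker_of_det_eq_zero hdF
  obtain ⟨x, hxk, hx0⟩ := SetLike.exists_of_lt hker
  refine ⟨x, fun h0 => hx0 (by rw [h0]; exact Submodule.zero_mem _), ?_⟩
  have h3 : F x = 0 := hxk
  rw [hF] at h3
  exact sub_eq_zero.mp h3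

/-- The irreducible case of `quad_pair_sl2`. -/
theorem quad_pair_irred' {K : Type u} [Field K] [Fintype K] {p : ℕ} [Fact p.Prime] [CharP K p]
    {G : Type w} [Group G] (a b : G) (hgen : Subgroup.closure {a, b} = ⊤)
    (W : Type v) [AddCommGroup W] [Module K W] [FiniteDimensional K W]
    (ρ : G →* Module.End K W)
    (ha : ∀ x : W, ρ a (ρ a x - x) = ρ a x - x) (hb : ∀ x : W, ρ b (ρ b x - x) = ρ b x - x)
    (hnp : ∃ g : G, ∀ j : ℕ, ρ g ^ (p ^ j) ≠ 1)
    (hord : ∃ e k : ℕ, ρ (a * b) ^ (p ^ e * k) = 1 ∧ k ∣ Fintype.card K - 1)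
    (hirr : ∀ U : Submodule K W, (∀ g : G, ∀ x ∈ U, ρ g x ∈ U) → U = ⊥ ∨ U = ⊤) :
    ∃ φ : G →* Matrix.SpecialLinearGroup (Fin 2) K,
      (∀ g : G, ρ g = 1 → φ g = 1) ∧ (∃ g : G, ∀ j : ℕ, φ g ^ (p ^ j) ≠ 1) ∧ EigProp ρ φ := by
  classical
  have hp : p.Prime := Fact.out
  obtain ⟨g₀, hg₀⟩ := hnp
  have htriv : (∀ x : W, ρ a x = x) → (∀ x : W, ρ b x = x) → False := by
    intro h1 h2
    apply hg₀ 0
    rw [pow_zero, pow_one]
    exact rep_trivial_of_gens ρ a b hgen h1 h2 g₀
  haveI : Nontrivial W := by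
    by_contra hcon
    rw [not_nontrivial_iff_subsingleton] at hcon
    exact htriv (fun x => Subsingleton.elim _ _) (fun x => Subsingleton.elim _ _)
  obtain ⟨e, k, hT, hk⟩ := hord
  obtain ⟨μ, x, hx0, hTx⟩ := exists_eigen_of_pow_eq_one (ρ (a * b)) e k hT hk
  have hab : ρ a (ρ b x) = μ • x := by rw [← hTx, map_mul]; rfl
  have hE : ρ b x = μ • (x - (ρ a x - x)) := by
    have := congrArg (ρ a⁻¹) hab
    rw [rep_inv_apply, map_smul, quad_inv_apply ρ a ha] at this
    exact this
  have hμ : μ ≠ 0 := by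
    rintro rfl
    rw [zero_smul] at hab
    have := congrArg (ρ b⁻¹) (congrArg (ρ a⁻¹) hab)
    rw [rep_inv_apply, rep_inv_apply, map_zero, map_zero] at this
    exact hx0 this
  obtain ⟨u₁, hu₁⟩ : ∃ u₁ : W, u₁ = ρ a x - x := ⟨_, rfl⟩
  obtain ⟨u₂, hu₂⟩ : ∃ u₂ : W, u₂ = ρ b x - x := ⟨_, rfl⟩
  have hax : ρ a x = x + u₁ := by rw [hu₁]; abel
  have hbx : ρ b x = x + u₂ := by rw [hu₂]; abel
  have a_u₁ : ρ a u₁ = u₁ := by rw [hu₁]; exact ha x
  have b_u₂ : ρ b u₂ = u₂ := by rw [hu₂]; exact hb x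
  have e1 : u₂ = (μ - 1) • x - μ • u₁ := by
    rw [hu₂, hE, ← hu₁]
    module
  have e2 : u₁ = μ⁻¹ • ((μ - 1) • x - u₂) := by
    rw [e1, sub_sub_cancel, smul_smul, inv_mul_cancel₀ hμ, one_smul]
  have a_u₂ : ρ a u₂ = u₂ + (μ - 1) • u₁ := by
    calc ρ a u₂ = ρ a ((μ - 1) • x - μ • u₁) := by rw [← e1]
      _ = (μ - 1) • (x + u₁) - μ • u₁ := by rw [map_sub, map_smul, map_smul, a_u₁, hax]
      _ = ((μ - 1) • x - μ • u₁) + (μ - 1) • u₁ := by module
      _ = u₂ + (μ - 1) • u₁ := by rw [← e1]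
  have b_u₁ : ρ b u₁ = u₁ + (μ⁻¹ * (μ - 1)) • u₂ := by
    calc ρ b u₁ = ρ b (μ⁻¹ • ((μ - 1) • x - u₂)) := by rw [← e2]
      _ = μ⁻¹ • ((μ - 1) • (x + u₂) - u₂) := by rw [map_smul, map_sub, map_smul, b_u₂, hbx]
      _ = μ⁻¹ • ((μ - 1) • x - u₂) + (μ⁻¹ * (μ - 1)) • u₂ := by module
      _ = u₁ + (μ⁻¹ * (μ - 1)) • u₂ := by rw [← e2]
  obtain ⟨U, hUdef⟩ : ∃ U : Submodule K W, U = Submodule.span K (({u₁, u₂} : Finset W) : Set W) :=
    ⟨_, rfl⟩
  have hu₁U : u₁ ∈ U := by
    rw [hUdef]; exact Submodule.subset_span (by simp)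
  have hu₂U : u₂ ∈ U := by
    rw [hUdef]; exact Submodule.subset_span (by simp)
  have hUa : ∀ y ∈ U, ρ a y ∈ U := by
    have : U ≤ U.comap (ρ a) := by
      conv_lhs => rw [hUdef]
      rw [Submodule.span_le]
      intro y hy
      simp only [Finset.coe_insert, Finset.coe_singleton, Set.mem_insert_iff,
        Set.mem_singleton_iff] at hy
      rcases hy with rfl | rfl
      · show ρ a y ∈ U
        rw [a_u₁]; exact hu₁U
      · show ρ a y ∈ U
        rw [a_u₂]; exact U.add_mem hu₂U (U.smul_mem _ hu₁U)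
    exact fun y hy => this hy
  have hUb : ∀ y ∈ U, ρ b y ∈ U := by
    have : U ≤ U.comap (ρ b) := by
      conv_lhs => rw [hUdef]
      rw [Submodule.span_le]
      intro y hy
      simp only [Finset.coe_insert, Finset.coe_singleton, Set.mem_insert_iff,
        Set.mem_singleton_iff] at hy
      rcases hy with rfl | rfl
      · show ρ b y ∈ U
        rw [b_u₁]; exact U.add_mem hu₁U (U.smul_mem _ hu₂U)
      · show ρ b y ∈ U
        rw [b_u₂]; exact hu₂U
    exact fun y hy => this hy
  have hUa' : ∀ y ∈ U, ρ a⁻¹ y ∈ U := by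
    intro y hy
    rw [quad_inv_apply ρ a ha]
    exact U.sub_mem hy (U.sub_mem (hUa y hy) hy)
  have hUb' : ∀ y ∈ U, ρ b⁻¹ y ∈ U := by
    intro y hy
    rw [quad_inv_apply ρ b hb]
    exact U.sub_mem hy (U.sub_mem (hUb y hy) hy)
  have hUinv := rep_invariant_of_gens ρ a b hgen U hUa hUa' hUb hUb'
  rcases hirr U hUinv with hbot | htop
  · exfalso
    have h1 : u₁ = 0 := by
      have := hu₁U; rw [hbot] at this; exact (Submodule.mem_bot K).mp this
    have h2 : u₂ = 0 := by
      have := hu₂U; rw [hbot] at this; exact (Submodule.mem_bot K).mp this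
    rw [h1, add_zero] at hax
    rw [h2, add_zero] at hbx
    obtain ⟨U', hU'def⟩ : ∃ U' : Submodule K W, U' = Submodule.span K ({x} : Set W) := ⟨_, rfl⟩
    have hfix : ∀ y ∈ U', ρ a y = y ∧ ρ b y = y := by
      intro y hy
      rw [hU'def, Submodule.mem_span_singleton] at hy
      obtain ⟨c, rfl⟩ := hy
      rw [map_smul, map_smul, hax, hbx]
      exact ⟨rfl, rfl⟩
    have hU'inv : ∀ g : G, ∀ y ∈ U', ρ g y ∈ U' := by
      apply rep_invariant_of_gens ρ a b hgen U'
      · intro y hy; rw [(hfix y hy).1]; exact hy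
      · intro y hy; rw [quad_inv_apply ρ a ha, (hfix y hy).1, sub_self, sub_zero]; exact hy
      · intro y hy; rw [(hfix y hy).2]; exact hy
      · intro y hy; rw [quad_inv_apply ρ b hb, (hfix y hy).2, sub_self, sub_zero]; exact hy
    have hxU' : x ∈ U' := by rw [hU'def]; exact Submodule.mem_span_singleton_self x
    rcases hirr U' hU'inv with h | h
    · rw [h] at hxU'
      exact hx0 ((Submodule.mem_bot K).mp hxU')
    · have hall : ∀ y : W, y ∈ U' := fun y => by rw [h]; exact Submodule.mem_top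
      exact htriv (fun y => (hfix y (hall y)).1) (fun y => (hfix y (hall y)).2)
  · have hfr : Module.finrank K W ≤ 2 := by
      have h1 : Module.finrank K (⊤ : Submodule K W) = Module.finrank K W := finrank_top K W
      rw [← h1, ← htop, hUdef]
      exact (finrank_span_finset_le_card ({u₁, u₂} : Finset W)).trans Finset.card_le_two
    by_cases h2 : Module.finrank K W = 2
    · obtain ⟨bas⟩ : Nonempty (Module.Basis (Fin 2) K W) := ⟨Module.finBasisOfFinrankEq K W h2⟩
      have hdet : ∀ g : G, LinearMap.det (ρ g) = 1 := by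
        intro g
        have hg : g ∈ Subgroup.closure {a, b} := by rw [hgen]; exact Subgroup.mem_top g
        induction hg using Subgroup.closure_induction with
        | mem s hs =>
          rcases hs with rfl | hs
          · exact det_eq_one_of_quad (p := p) _ ha
          · rw [Set.mem_singleton_iff] at hs
            subst hs
            exact det_eq_one_of_quad (p := p) _ hb
        | one => rw [map_one, map_one]
        | mul y z _ _ hy hz => rw [map_mul, map_mul, hy, hz, one_mul]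
        | inv y _ hy =>
          have h3 : LinearMap.det (ρ y⁻¹) * LinearMap.det (ρ y) = 1 := by
            rw [← map_mul, ← map_mul, inv_mul_cancel, map_one, map_one]
          rw [hy, mul_one] at h3
          exact h3
      obtain ⟨φ, hφ⟩ : ∃ φ : G →* Matrix.SpecialLinearGroup (Fin 2) K,
          ∀ g : G, ((φ g : Matrix.SpecialLinearGroup (Fin 2) K) : Matrix (Fin 2) (Fin 2) K)
            = LinearMap.toMatrix bas bas (ρ g) := by
        refine ⟨{ toFun := fun g => ⟨LinearMap.toMatrix bas bas (ρ g), by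
                    rw [LinearMap.det_toMatrix]; exact hdet g⟩
                  map_one' := ?_
                  map_mul' := ?_ }, fun g => rfl⟩
        · apply Subtype.ext
          show LinearMap.toMatrix bas bas (ρ 1) = 1
          rw [map_one, LinearMap.toMatrix_one]
        · intro g h
          apply Subtype.ext
          show LinearMap.toMatrix bas bas (ρ (g * h))
            = LinearMap.toMatrix bas bas (ρ g) * LinearMap.toMatrix bas bas (ρ h)
          rw [map_mul, LinearMap.toMatrix_mul]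
      refine ⟨φ, ?_, ⟨g₀, ?_⟩, ?_⟩
      · intro g hg
        apply Subtype.ext
        rw [hφ, hg, LinearMap.toMatrix_one]
        rfl
      · intro j hj
        apply hg₀ j
        have h3 : LinearMap.toMatrix bas bas (ρ g₀ ^ (p ^ j)) = 1 := by
          rw [← map_pow ρ, ← hφ, map_pow, hj]
          rfl
        apply (LinearMap.toMatrix bas bas).injective
        rw [h3, LinearMap.toMatrix_one]
      · exact eig_irred ρ φ bas hφ
    · exfalso
      have h1 : Module.finrank K W ≤ 1 := by omega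
      obtain ⟨v₀, hv₀⟩ := finrank_le_one_iff.mp h1
      have hone : ∀ c : G, (∀ y : W, ρ c (ρ c y - y) = ρ c y - y) → ∀ y : W, ρ c y = y := by
        intro c hc
        obtain ⟨t, ht⟩ := hv₀ (ρ c v₀ - v₀)
        have h3 := hc v₀
        rw [← ht, map_smul] at h3
        have h4 : t • (ρ c v₀ - v₀) = 0 := by
          rw [smul_sub, h3, sub_self]
        rw [← ht, smul_smul] at h4
        have h5 : ρ c v₀ = v₀ := by
          rcases smul_eq_zero.mp h4 with h | h
          · have ht0 : t = 0 := mul_self_eq_zero.mp h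
            rw [ht0, zero_smul] at ht
            exact (sub_eq_zero.mp ht.symm)
          · rw [h, map_zero]
        intro y
        obtain ⟨s, rfl⟩ := hv₀ y
        rw [map_smul, h5]
      exact htriv (hone a ha) (hone b hb)

/-- Two quadratically acting generators of a group represented on a finite-dimensional space
over a finite field `K` of characteristic `p`, whose image is not a `p`-group and with the
`p'`-part of the order of the product dividing `|K| - 1`, give a homomorphism to `SL₂(K)`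
factoring through the representation with image not a `p`-group. -/
theorem quad_pair_sl2' {K : Type u} [Field K] [Fintype K] {p : ℕ} [Fact p.Prime] [CharP K p]
    {G : Type w} [Group G] (a b : G) (hgen : Subgroup.closure {a, b} = ⊤) :
    ∀ (n : ℕ) (W : Type v) [AddCommGroup W] [Module K W] [FiniteDimensional K W]
      (ρ : G →* Module.End K W), Module.finrank K W ≤ n →
      (∀ x : W, ρ a (ρ a x - x) = ρ a x - x) → (∀ x : W, ρ b (ρ b x - x) = ρ b x - x) →
      (∃ g : G, ∀ j : ℕ, ρ g ^ (p ^ j) ≠ 1) →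
      (∃ e k : ℕ, ρ (a * b) ^ (p ^ e * k) = 1 ∧ k ∣ Fintype.card K - 1) →
      ∃ φ : G →* Matrix.SpecialLinearGroup (Fin 2) K,
        (∀ g : G, ρ g = 1 → φ g = 1) ∧ (∃ g : G, ∀ j : ℕ, φ g ^ (p ^ j) ≠ 1) ∧ EigProp ρ φ := by
  intro n
  induction n with
  | zero =>
    intro W _ _ _ ρ hn ha hb hnp hord
    exfalso
    have hsub : Subsingleton W := Module.finrank_zero_iff.mp (Nat.le_zero.mp hn)
    obtain ⟨g₀, hg₀⟩ := hnp
    exact hg₀ 0 (LinearMap.ext fun x => Subsingleton.elim _ _)
  | succ n ih =>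
    intro W _ _ _ ρ hn ha hb hnp hord
    by_cases hred : ∃ U : Submodule K W, U ≠ ⊥ ∧ U ≠ ⊤ ∧ ∀ g : G, ∀ x ∈ U, ρ g x ∈ U
    · obtain ⟨U, hU0, hU1, hU⟩ := hred
      have hf1 : Module.finrank K U < Module.finrank K W := Submodule.finrank_lt hU1
      have hf2 : Module.finrank K (W ⧸ U) < Module.finrank K W := by
        have h1 := Submodule.finrank_quotient_add_finrank U
        have h2 : Module.finrank K U ≠ 0 := fun h => hU0 (Submodule.finrank_eq_zero.mp h)
        omega
      have hor : (∃ g : G, ∀ j : ℕ, repRestrict ρ U hU g ^ (p ^ j) ≠ 1) ∨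
          (∃ g : G, ∀ j : ℕ, repQuot ρ U hU g ^ (p ^ j) ≠ 1) := by
        by_contra hcon
        push Not at hcon
        obtain ⟨h1, h2⟩ := hcon
        obtain ⟨g₀, hg₀⟩ := hnp
        obtain ⟨j₁, hj₁⟩ := h1 g₀
        obtain ⟨j₂, hj₂⟩ := h2 g₀
        obtain ⟨h, hh⟩ : ∃ h : G, h = g₀ ^ (p ^ (j₁ + j₂)) := ⟨_, rfl⟩
        have e1 : repRestrict ρ U hU h = 1 := by
          rw [hh, map_pow, pow_add, pow_mul, hj₁, one_pow]
        have e2 : repQuot ρ U hU h = 1 := by
          rw [hh, map_pow, pow_add, mul_comm, pow_mul, hj₂, one_pow]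
        have hq : ∀ x : W, ρ h (ρ h x - x) = ρ h x - x := by
          intro x
          have hmem : ρ h x - x ∈ U := by
            have h3 : repQuot ρ U hU h (Submodule.Quotient.mk x) = Submodule.Quotient.mk x := by
              rw [e2]; rfl
            rw [repQuot_apply] at h3
            exact (Submodule.Quotient.eq U).mp h3
          have h4 : repRestrict ρ U hU h ⟨_, hmem⟩ = ⟨_, hmem⟩ := by rw [e1]; rfl
          have h5 := congrArg (fun y : U => (y : W)) h4
          exact h5
        have h3 := end_quad_pow_char (p := p) (ρ h) hq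
        apply hg₀ (j₁ + j₂ + 1)
        rw [pow_succ, pow_mul, ← map_pow ρ g₀, ← hh]
        exact h3
      obtain ⟨e, k, hT, hk⟩ := hord
      have hT' : ρ ((a * b) ^ (p ^ e * k)) = 1 := by rw [map_pow]; exact hT
      rcases hor with h | h
      · obtain ⟨φ, hφ1, hφ2, hφ3⟩ := ih U (repRestrict ρ U hU) (by omega)
          (fun x => Subtype.ext (ha x)) (fun x => Subtype.ext (hb x)) h
          ⟨e, k, by rw [← map_pow]; exact repRestrict_eq_one ρ U hU _ hT', hk⟩
        exact ⟨φ, fun g hg => hφ1 g (repRestrict_eq_one ρ U hU g hg), hφ2,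
          eig_of_restrict ρ U hU φ hφ3⟩
      · obtain ⟨φ, hφ1, hφ2, hφ3⟩ := ih (W ⧸ U) (repQuot ρ U hU) (by omega)
          (fun q => by
            induction q using Submodule.Quotient.induction_on with
            | _ z =>
              rw [repQuot_apply, ← Submodule.Quotient.mk_sub, repQuot_apply, ha])
          (fun q => by
            induction q using Submodule.Quotient.induction_on with
            | _ z =>
              rw [repQuot_apply, ← Submodule.Quotient.mk_sub, repQuot_apply, hb])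
          h ⟨e, k, by rw [← map_pow]; exact repQuot_eq_one ρ U hU _ hT', hk⟩
        exact ⟨φ, fun g hg => hφ1 g (repQuot_eq_one ρ U hU g hg), hφ2,
          eig_of_quot ρ U hU φ hφ3⟩
    · push Not at hred
      apply quad_pair_irred' a b hgen W ρ ha hb hnp hord
      intro U hU
      by_contra hcon
      push Not at hcon
      obtain ⟨g, x, hx, hgx⟩ := hred U hcon.1 hcon.2
      exact hgx (hU g x hx)


end Cfsg.Agent.Lib.helper15
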