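import Mathlib
import Cfsg.Agent.Lib.helper15.QdPair

set_option autoImplicit false
set_option linter.style.haveILetI false

namespace Cfsg.Agent.Lib.helper15

open Cfsg.Agent.Lib.helper3

universe u w

/-- Two quadratically acting generators of a finite group acting on an elementary abelian
`p`-group, not as a `p`-group, give a homomorphism to `SL₂` of a finite field of characteristic
`p` whose image is not a `p`-group and whose kernel contains the kernel of the action. -/
theorem quad_pair_abstract' {E : Type u} [CommGroup E] [Finite E] {p : ℕ} [Fact p.Prime]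
    (hexp : ∀ x : E, x ^ p = 1) {G : Type w} [Group G] [Finite G] (α : G →* MulAut E) (a b : G)
    (hgen : Subgroup.closure {a, b} = ⊤)
    (ha : ∀ x : E, α a (α a x / x) = α a x / x) (hb : ∀ x : E, α b (α b x / x) = α b x / x)
    (hnp : ∃ g : G, ∀ j : ℕ, α g ^ (p ^ j) ≠ 1) :
    ∃ (n : ℕ) (φ : G →* Matrix.SpecialLinearGroup (Fin 2) (GaloisField p n)),
      (∀ g : G, α g = 1 → φ g = 1) ∧ (∃ g : G, ∀ j : ℕ, φ g ^ (p ^ j) ≠ 1) ∧
      ∀ g h : G, (∀ x : E, α g (α g x / x) = α g x / x) → (∀ x : E, α h (α h x / x) = α h x / x) →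
        Dk.tr (φ g * φ h) = 3 →
        ∃ v : E, v ≠ 1 ∧ α h⁻¹ (α g⁻¹ v / v) / (α g⁻¹ v / v) = v := by
  classical
  have hp : p.Prime := Fact.out
  have hA : ∀ x : Additive E, p • x = 0 := fun x => congrArg Additive.ofMul (hexp x.toMul)
  haveI : Module (ZMod p) (Additive E) := AddCommGroup.zmodModule hA
  obtain ⟨L, hL⟩ : ∃ L : G →* Module.End (ZMod p) (Additive E),
      ∀ (g : G) (x : Additive E), L g x = Additive.ofMul (α g x.toMul) := by
    refine ⟨{ toFun := fun g => (MonoidHom.toAdditive (α g).toMonoidHom).toZModLinearMap p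
              map_one' := ?_
              map_mul' := ?_ }, fun g x => rfl⟩
    · apply LinearMap.ext
      intro x
      show Additive.ofMul (α 1 x.toMul) = x
      rw [map_one]
      rfl
    · intro g h
      apply LinearMap.ext
      intro x
      show Additive.ofMul (α (g * h) x.toMul) = Additive.ofMul (α g (α h x.toMul))
      rw [map_mul]
      rfl
  obtain ⟨e, k, hk, hek⟩ :=
    Nat.exists_eq_pow_mul_and_not_dvd (orderOf_pos (a * b)).ne' p hp.ne_one
  have hk0 : k ≠ 0 := by rintro rfl; exact hk (dvd_zero p)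
  obtain ⟨n, hn⟩ : ∃ n : ℕ, n = Nat.totient k := ⟨_, rfl⟩
  have hn0 : n ≠ 0 := by rw [hn]; exact (Nat.totient_pos.mpr (Nat.pos_of_ne_zero hk0)).ne'
  letI : Fintype (GaloisField p n) := Fintype.ofFinite _
  have hcard : Fintype.card (GaloisField p n) = p ^ n := by
    rw [← Nat.card_eq_fintype_card]; exact GaloisField.card p n hn0
  have hkdvd : k ∣ Fintype.card (GaloisField p n) - 1 := by
    rw [hcard]
    have hcop : p.Coprime k := (Nat.Prime.coprime_iff_not_dvd hp).mpr hk
    have h1 := Nat.ModEq.pow_totient hcop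
    rw [← hn] at h1
    exact (Nat.modEq_iff_dvd' (Nat.one_le_pow _ _ hp.pos)).mp h1.symm
  obtain ⟨ρ, hρapp⟩ : ∃ ρ : G →* Module.End (GaloisField p n)
      (Additive E →ₗ[ZMod p] GaloisField p n),
      ∀ (g : G) (f : Additive E →ₗ[ZMod p] GaloisField p n) (x : Additive E),
        ρ g f x = f (L g⁻¹ x) := ⟨dualRep (GaloisField p n) L, fun _ _ _ => rfl⟩
  haveI : Finite (Additive E) := inferInstanceAs (Finite E)
  haveI : Finite (Additive E →ₗ[ZMod p] GaloisField p n) :=
    Finite.of_injective (fun f => (f : Additive E → GaloisField p n)) DFunLike.coe_injective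
  haveI : FiniteDimensional (GaloisField p n) (Additive E →ₗ[ZMod p] GaloisField p n) :=
    Module.Finite.of_finite
  have hρ1 : ∀ g : G, α g = 1 → ρ g = 1 := by
    intro g hg
    apply LinearMap.ext
    intro f
    apply LinearMap.ext
    intro x
    rw [hρapp, hL, map_inv, hg, inv_one]
    rfl
  have hρinj : ∀ g : G, ρ g = 1 → α g = 1 := by
    intro g hg
    have h1 : ∀ x : Additive E, L g⁻¹ x = x := by
      intro x
      by_contra hne
      have hne' : L g⁻¹ x - x ≠ 0 := sub_ne_zero.mpr hne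
      obtain ⟨ψ, hψ⟩ : ∃ ψ : Module.Dual (ZMod p) (Additive E), ψ (L g⁻¹ x - x) ≠ 0 := by
        by_contra hcon
        push Not at hcon
        exact hne' ((Module.forall_dual_apply_eq_zero_iff (ZMod p) _).mp hcon)
      obtain ⟨f, hf⟩ : ∃ f : Additive E →ₗ[ZMod p] GaloisField p n,
          ∀ y, f y = algebraMap (ZMod p) (GaloisField p n) (ψ y) :=
        ⟨(Algebra.linearMap (ZMod p) (GaloisField p n)).comp ψ, fun y => rfl⟩
      have h2 : ρ g f x = f x := by rw [hg]; rfl
      rw [hρapp, hf, hf] at h2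
      have h3 : algebraMap (ZMod p) (GaloisField p n) (ψ (L g⁻¹ x - x)) = 0 := by
        rw [map_sub, map_sub]; exact sub_eq_zero.mpr h2
      exact hψ ((map_eq_zero _).mp h3)
    have h4 : α g⁻¹ = 1 := by
      apply MulEquiv.ext
      intro x
      have := h1 (Additive.ofMul x)
      rw [hL] at this
      exact congrArg Additive.toMul this
    rw [map_inv, inv_eq_one] at h4
    exact h4
  have hquad : ∀ c : G, (∀ x : E, α c (α c x / x) = α c x / x) →
      ∀ f : Additive E →ₗ[ZMod p] GaloisField p n, ρ c (ρ c f - f) = ρ c f - f := by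
    intro c hc f
    apply LinearMap.ext
    intro x
    have hc' := mulAut_quad_inv (α c) hc
    rw [hρapp, LinearMap.sub_apply, LinearMap.sub_apply, hρapp, hρapp]
    have h1 : L c⁻¹ (L c⁻¹ x) - L c⁻¹ x = L c⁻¹ x - x := by
      rw [← map_sub, hL, hL, map_inv]
      exact congrArg Additive.ofMul (hc' x.toMul)
    rw [← map_sub, h1, map_sub]
  have hnp' : ∃ g : G, ∀ j : ℕ, ρ g ^ (p ^ j) ≠ 1 := by
    obtain ⟨g, hg⟩ := hnp
    refine ⟨g, fun j hj => hg j ?_⟩
    rw [← map_pow] at hj ⊢
    exact hρinj _ hj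
  have hord : ∃ e k : ℕ, ρ (a * b) ^ (p ^ e * k) = 1 ∧
      k ∣ Fintype.card (GaloisField p n) - 1 := by
    refine ⟨e, k, ?_, hkdvd⟩
    rw [← map_pow, ← hek, pow_orderOf_eq_one, map_one]
  obtain ⟨φ, hφ1, hφ2, hφ3⟩ :=
    quad_pair_sl2' a b hgen _ _ ρ le_rfl (hquad a ha) (hquad b hb) hnp' hord
  refine ⟨n, φ, fun g hg => hφ1 g (hρ1 g hg), hφ2, ?_⟩
  intro g h hg hh htr
  obtain ⟨f, hf0, hf⟩ := hφ3 g h (hquad g hg) (hquad h hh)
  rw [htr] at hf
  have key : ∀ x : Additive E, f (L h⁻¹ (L g⁻¹ x - x) - (L g⁻¹ x - x)) = f x := by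
    intro x
    have h1 := LinearMap.congr_fun hf x
    simp only [LinearMap.sub_apply, hρapp, LinearMap.smul_apply, smul_eq_mul] at h1
    rw [map_sub, map_sub, map_sub, map_sub]
    linear_combination h1
  by_contra hno
  push Not at hno
  obtain ⟨Dm, hDm⟩ : ∃ Dm : Module.End (ZMod p) (Additive E),
      ∀ x, Dm x = L h⁻¹ (L g⁻¹ x - x) - (L g⁻¹ x - x) - x :=
    ⟨(L h⁻¹ - 1) * (L g⁻¹ - 1) - 1, fun x => rfl⟩
  have hinj : Function.Injective Dm := by
    rw [injective_iff_map_eq_zero]
    intro z hz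
    by_contra hz0
    rw [hDm] at hz
    have hz' : L h⁻¹ (L g⁻¹ z - z) - (L g⁻¹ z - z) = z := sub_eq_zero.mp hz
    rw [hL, hL] at hz'
    have hne : z.toMul ≠ 1 := fun h1 => hz0 (congrArg Additive.ofMul h1)
    exact hno z.toMul hne (congrArg Additive.toMul hz')
  have hsurj : Function.Surjective Dm := Finite.injective_iff_surjective.mp hinj
  apply hf0
  apply LinearMap.ext
  intro x
  obtain ⟨x', rfl⟩ := hsurj x
  rw [hDm, map_sub, key, sub_self]
  rfl


end Cfsg.Agent.Lib.helper15
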