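import Mathlib
import Cfsg.Agent.Lib.helper15.QdGroup
import Cfsg.Agent.S0199
import Cfsg.Agent.S0656

set_option autoImplicit false
set_option linter.style.haveILetI false

namespace Cfsg.Agent.Lib.helper15

open Cfsg.Agent.Lib.helper3

universe u w

theorem mulAut_quad_conj {E : Type u} [CommGroup E] (A B : MulAut E)
    (hA : ∀ x : E, A (A x / x) = A x / x) :
    ∀ x : E, (B * A * B⁻¹) ((B * A * B⁻¹) x / x) = (B * A * B⁻¹) x / x := by
  intro v
  obtain ⟨u, hu⟩ : ∃ u : E, u = B⁻¹ v := ⟨_, rfl⟩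
  have hv : v = B u := by rw [hu]; simp
  have e1 : (B * A * B⁻¹) v = B (A u) := by
    rw [hv]; simp
  have e2 : (B * A * B⁻¹) v / v = B (A u / u) := by
    rw [e1, map_div, ← hv]
  have e3 : (B * A * B⁻¹) (B (A u / u)) = B (A (A u / u)) := by simp
  rw [e2, e3, hA u]

/-- A quadratic element of a finite group acting on an elementary abelian `p`-group, lying in no
normal subgroup that acts as a `p`-group, produces a natural `SL₂(p)`-plane: two elements acting
on a pair `v`, `w` as the two elementary transvections. -/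
theorem quad_plane {H : Type w} [Group H] [Finite H] {E : Type u} [CommGroup E] [Finite E]
    {p : ℕ} [Fact p.Prime] (hp : p ≠ 2) (hexp : ∀ x : E, x ^ p = 1) (β : H →* MulAut E) (x : H)
    (hq : ∀ v : E, β x (β x v / v) = β x v / v)
    (hns : ∀ D : Subgroup H, D.Normal → (∀ d ∈ D, ∃ k : ℕ, β d ^ (p ^ k) = 1) → x ∉ D) :
    ∃ (a b : H) (v w : E), v ≠ 1 ∧ β a v = v * w ∧ β a w = w ∧ β b w = w * v ∧ β b v = v := by
  classical
  have hp' : p.Prime := Fact.out
  haveI : Finite (MulAut E) := Finite.of_injective (fun f : MulAut E => (f : E → E))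
    (fun f g h => MulEquiv.ext (congrFun h))
  obtain ⟨xR, hxR⟩ : ∃ xR : ↥β.range, xR = β.rangeRestrict x := ⟨_, rfl⟩
  have hxRp : xR ^ p = 1 := by
    apply Subtype.ext
    rw [hxR, Subgroup.coe_pow, Subgroup.coe_one]
    exact mulAut_quad_pow_prime hexp (β x) hq
  have hXp : IsPGroup p (Subgroup.zpowers xR) := by
    rintro ⟨g, hg⟩
    obtain ⟨m, rfl⟩ := Subgroup.mem_zpowers_iff.mp hg
    refine ⟨1, Subtype.ext ?_⟩
    rw [Subgroup.coe_pow, Subgroup.coe_one]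
    show (xR ^ m) ^ (p ^ 1) = 1
    rw [pow_one, ← zpow_natCast, ← zpow_mul, mul_comm, zpow_mul, zpow_natCast, hxRp, one_zpow]
  -- Baer–Suzuki
  have hBS : ∃ r : ↥β.range, ¬ IsPGroup p
      ↥(Subgroup.zpowers xR ⊔ (Subgroup.zpowers xR).map (MulAut.conj r).toMonoidHom) := by
    by_contra hno
    push Not at hno
    obtain ⟨N, hN, hNp, hXN⟩ := Cfsg.Agent.S0199.result (Subgroup.zpowers xR) hXp hno
    haveI := hN
    apply hns (N.comap β.rangeRestrict) inferInstance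
    · intro d hd
      obtain ⟨k, hk⟩ := hNp ⟨β.rangeRestrict d, hd⟩
      refine ⟨k, ?_⟩
      have h1 := congrArg Subtype.val hk
      rw [Subgroup.coe_pow, Subgroup.coe_one] at h1
      have h2 := congrArg Subtype.val h1
      rw [Subgroup.coe_pow, Subgroup.coe_one] at h2
      exact h2
    · rw [Subgroup.mem_comap, ← hxR]
      exact hXN (Subgroup.mem_zpowers xR)
  obtain ⟨r, hr⟩ := hBS
  obtain ⟨g, hg⟩ := β.rangeRestrict_surjective r
  obtain ⟨b, hb⟩ : ∃ b : H, b = g * x * g⁻¹ := ⟨_, rfl⟩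
  obtain ⟨T, hT⟩ : ∃ T : Subgroup H, T = Subgroup.closure {x, b} := ⟨_, rfl⟩
  have hTeq : Subgroup.zpowers xR ⊔ (Subgroup.zpowers xR).map (MulAut.conj r).toMonoidHom =
      T.map β.rangeRestrict := by
    rw [hT, MonoidHom.map_closure, MonoidHom.map_zpowers, Subgroup.zpowers_eq_closure,
      Subgroup.zpowers_eq_closure, ← Subgroup.closure_union, Set.image_pair]
    have hbe : (MulAut.conj r).toMonoidHom xR = β.rangeRestrict b := by
      rw [hb, map_mul, map_mul, map_inv, hg, hxR]; rfl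
    rw [hbe, Set.singleton_union, hxR]
  rw [hTeq] at hr
  have hnp : ∃ t ∈ T, ∀ j : ℕ, β t ^ (p ^ j) ≠ 1 := by
    by_contra hno
    push Not at hno
    apply hr
    rintro ⟨_, t, ht, rfl⟩
    obtain ⟨j, hj⟩ := hno t ht
    refine ⟨j, Subtype.ext (Subtype.ext ?_)⟩
    exact hj
  -- the action of T
  have hqb : ∀ v : E, β b (β b v / v) = β b v / v := by
    have hbβ : β b = β g * β x * (β g)⁻¹ := by rw [hb, map_mul, map_mul, map_inv]
    rw [hbβ]
    exact mulAut_quad_conj (β x) (β g) hq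
  obtain ⟨α, hα⟩ : ∃ α : ↥T →* MulAut E, α = β.comp T.subtype := ⟨_, rfl⟩
  have hαapp : ∀ t : ↥T, α t = β (t : H) := fun t => by rw [hα]; rfl
  obtain ⟨a', ha'⟩ : ∃ a' : ↥T, (a' : H) = x :=
    ⟨⟨x, by rw [hT]; exact Subgroup.subset_closure (by simp)⟩, rfl⟩
  obtain ⟨b', hb'⟩ : ∃ b' : ↥T, (b' : H) = b :=
    ⟨⟨b, by rw [hT]; exact Subgroup.subset_closure (by simp)⟩, rfl⟩
  have hgen : Subgroup.closure ({a', b'} : Set ↥T) = ⊤ := by
    subst hT
    have h1 := Subgroup.closure_closure_coe_preimage (k := ({x, b} : Set H))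
    have h2 : (Subtype.val ⁻¹' ({x, b} : Set H) :
        Set ↥(Subgroup.closure ({x, b} : Set H))) = {a', b'} := by
      ext t
      constructor
      · intro ht
        have ht' : (t : H) = x ∨ (t : H) = b := ht
        rcases ht' with h | h
        · left; exact Subtype.ext (by rw [ha']; exact h)
        · right; exact Subtype.ext (by rw [hb']; exact h)
      · intro ht
        have ht' : t = a' ∨ t = b' := ht
        show (t : H) = x ∨ (t : H) = b
        rcases ht' with h | h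
        · left; rw [h]; exact ha'
        · right; rw [h]; exact hb'
    rw [← h2]; exact h1
  have ha : ∀ v : E, α a' (α a' v / v) = α a' v / v := by
    intro v
    rw [hαapp, ha']
    exact hq v
  have hb2 : ∀ v : E, α b' (α b' v / v) = α b' v / v := by
    intro v
    rw [hαapp, hb']
    exact hqb v
  have hnp' : ∃ t : ↥T, ∀ j : ℕ, α t ^ (p ^ j) ≠ 1 := by
    obtain ⟨t, ht, htj⟩ := hnp
    exact ⟨⟨t, ht⟩, fun j => by rw [hαapp]; exact htj j⟩
  obtain ⟨n, φ, hφ1, ⟨t₀, ht₀⟩, hEig⟩ := quad_pair_abstract' hexp α a' b' hgen ha hb2 hnp'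
  -- unipotent images
  have hunip : ∀ c : ↥T, (∀ v : E, α c (α c v / v) = α c v / v) → Dk.tr (φ c) = 2 := by
    intro c hc
    apply Dk.tr_of_pow_char p _ 1
    rw [pow_one, ← map_pow]
    apply hφ1
    rw [map_pow]
    exact mulAut_quad_pow_prime hexp _ hc
  have hta := hunip a' ha
  have htb := hunip b' hb2
  have hnc : φ a' * φ b' ≠ φ b' * φ a' := by
    intro hc
    have h1 := Cfsg.Agent.S0656.pow_eq_one_of_gen φ a' b' hgen p
      (Dk.unip_pow_char p _ hta) (Dk.unip_pow_char p _ htb) hc t₀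
    exact ht₀ 1 (by rw [pow_one]; exact h1)
  obtain ⟨x₁, y₁, hcx, hcy, htr⟩ := Dk.W_pair p hp φ.range (φ a') (φ b')
    ⟨a', rfl⟩ ⟨b', rfl⟩ hta htb hnc
  have lift : ∀ z : Dk.SL2 (GaloisField p n), Dk.CJ φ.range (φ a') (φ b') z →
      ∃ c : ↥T, φ c = z ∧ ∀ v : E, α c (α c v / v) = α c v / v := by
    rintro z ⟨_, ⟨t, rfl⟩, hz⟩
    have hainv : ∀ v : E, α a'⁻¹ (α a'⁻¹ v / v) = α a'⁻¹ v / v := by
      rw [map_inv]; exact mulAut_quad_inv _ ha
    have hbinv : ∀ v : E, α b'⁻¹ (α b'⁻¹ v / v) = α b'⁻¹ v / v := by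
      rw [map_inv]; exact mulAut_quad_inv _ hb2
    have conj : ∀ c : ↥T, (∀ v : E, α c (α c v / v) = α c v / v) →
        ∀ v : E, α (t * c * t⁻¹) (α (t * c * t⁻¹) v / v) = α (t * c * t⁻¹) v / v := by
      intro c hc
      rw [map_mul, map_mul, map_inv]
      exact mulAut_quad_conj _ _ hc
    rcases hz with rfl | rfl | rfl | rfl
    · exact ⟨t * a' * t⁻¹, by rw [map_mul, map_mul, map_inv], conj _ ha⟩
    · exact ⟨t * a'⁻¹ * t⁻¹, by rw [map_mul, map_mul, map_inv, map_inv], conj _ hainv⟩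
    · exact ⟨t * b' * t⁻¹, by rw [map_mul, map_mul, map_inv], conj _ hb2⟩
    · exact ⟨t * b'⁻¹ * t⁻¹, by rw [map_mul, map_mul, map_inv, map_inv], conj _ hbinv⟩
  obtain ⟨a₁, rfl, ha₁⟩ := lift x₁ hcx
  obtain ⟨b₁, rfl, hb₁⟩ := lift y₁ hcy
  obtain ⟨v, hv1, hv⟩ := hEig a₁ b₁ ha₁ hb₁ htr
  have hA : ∀ u : E, α a₁⁻¹ (α a₁⁻¹ u / u) = α a₁⁻¹ u / u := by
    rw [map_inv]; exact mulAut_quad_inv _ ha₁
  have hB : ∀ u : E, α b₁⁻¹ (α b₁⁻¹ u / u) = α b₁⁻¹ u / u := by
    rw [map_inv]; exact mulAut_quad_inv _ hb₁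
  obtain ⟨w, hw⟩ : ∃ w : E, w = α a₁⁻¹ v / v := ⟨_, rfl⟩
  rw [← hw] at hv
  refine ⟨((a₁⁻¹ : ↥T) : H), ((b₁⁻¹ : ↥T) : H), v, w, hv1, ?_, ?_, ?_, ?_⟩
  · rw [← hαapp, hw, mul_div_cancel]
  · rw [← hαapp, hw]; exact hA v
  · rw [← hαapp]
    have h1 : α b₁⁻¹ w = α b₁⁻¹ w / w * w := by rw [div_mul_cancel]
    rw [h1, hv, mul_comm]
  · rw [← hαapp]
    have h1 := hB w
    rw [hv] at h1
    exact h1

end Cfsg.Agent.Lib.helper15
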