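import Mathlib
import Cfsg.Agent.Lib.helper15.QdConf
import Cfsg.Agent.Lib.helper15.QdPlane
import Cfsg.Agent.Lib.helper15.ZJ

set_option autoImplicit false
set_option linter.style.haveILetI false

namespace Cfsg.Agent.Lib.helper15.Qd

open Cfsg.Agent.Lib.helper15

universe u

/-- The elementary abelian case of the `Qd(p)` theorem. -/
theorem qd_base {X : Type u} [Group X] [Finite X] {p : ℕ} [Fact p.Prime] (hp : p ≠ 2)
    (P N : Subgroup X) (hPc : ∀ x ∈ P, ∀ y ∈ P, x * y = y * x) (hPe : ∀ x ∈ P, x ^ p = 1)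
    (hN : N ≤ Subgroup.normalizer (P : Set X)) (g : X) (hg : g ∈ N)
    (hq : ∀ u ∈ P, g * (g * u * g⁻¹ * u⁻¹) * g⁻¹ = g * u * g⁻¹ * u⁻¹)
    (hns : ∀ D : Subgroup X, D ≤ N → (∀ n ∈ N, ∀ d ∈ D, n * d * n⁻¹ ∈ D) →
      (∀ d ∈ D, ∃ k : ℕ, d ^ (p ^ k) ∈ Subgroup.centralizer (P : Set X)) → g ∉ D) :
    Cfsg.Involves ↥(Cfsg.qd p) X := by
  classical
  letI : CommGroup ↥P :=
    { (inferInstance : Group ↥P) with
      mul_comm := fun x y => Subtype.ext (hPc x x.2 y y.2) }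
  obtain ⟨β, hβ⟩ : ∃ β : ↥N →* MulAut ↥P,
      ∀ (n : ↥N) (x : ↥P), ((β n x : ↥P) : X) = (n : X) * x * (n : X)⁻¹ :=
    ⟨(Subgroup.normalizerMonoidHom P).comp (Subgroup.inclusion hN), fun n x => rfl⟩
  have hexp : ∀ x : ↥P, x ^ p = 1 := fun x => Subtype.ext (by
    rw [Subgroup.coe_pow, Subgroup.coe_one]; exact hPe x x.2)
  have hq' : ∀ v : ↥P, β ⟨g, hg⟩ (β ⟨g, hg⟩ v / v) = β ⟨g, hg⟩ v / v := by
    intro v
    apply Subtype.ext
    rw [hβ, Subgroup.coe_div, hβ, div_eq_mul_inv]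
    exact hq v v.2
  have hns' : ∀ D : Subgroup ↥N, D.Normal → (∀ d ∈ D, ∃ k : ℕ, β d ^ (p ^ k) = 1) →
      (⟨g, hg⟩ : ↥N) ∉ D := by
    intro D hDn hDp hgD
    apply hns (D.map N.subtype) (Subgroup.map_subtype_le D)
    · rintro n hn _ ⟨d, hd, rfl⟩
      exact ⟨⟨n, hn⟩ * d * ⟨n, hn⟩⁻¹, hDn.conj_mem d hd _, rfl⟩
    · rintro _ ⟨d, hd, rfl⟩
      obtain ⟨k, hk⟩ := hDp d hd
      refine ⟨k, ?_⟩
      rw [Subgroup.mem_centralizer_iff]
      intro u hu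
      have h1 : β (d ^ (p ^ k)) ⟨u, hu⟩ = ⟨u, hu⟩ := by rw [map_pow, hk]; rfl
      have h2 := congrArg Subtype.val h1
      rw [hβ, Subgroup.coe_pow] at h2
      show u * (d : X) ^ (p ^ k) = (d : X) ^ (p ^ k) * u
      calc u * (d : X) ^ (p ^ k)
          = ((d : X) ^ (p ^ k) * u * ((d : X) ^ (p ^ k))⁻¹) * (d : X) ^ (p ^ k) := by rw [h2]
        _ = (d : X) ^ (p ^ k) * u := by group
    · exact ⟨⟨g, hg⟩, hgD, rfl⟩
  obtain ⟨a, b, v, w, hv1, hav, haw, hbw, hbv⟩ := quad_plane hp hexp β ⟨g, hg⟩ hq' hns'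
  refine qd_of_conf hp (v : X) (w : X) (a : X) (b : X) (hPe v v.2) (hPe w w.2)
    (hPc v v.2 w w.2) (fun h => hv1 (Subtype.ext h)) ?_ ?_ ?_ ?_
  · have h1 := congrArg Subtype.val hav
    rw [hβ] at h1
    exact h1
  · have h1 := congrArg Subtype.val haw
    rw [hβ] at h1
    exact h1
  · have h1 := congrArg Subtype.val hbw
    rw [hβ] at h1
    exact h1
  · have h1 := congrArg Subtype.val hbv
    rw [hβ] at h1
    exact h1

/-- A `p`-group that is not elementary abelian has a proper nontrivial subgroup invariant under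
every subgroup normalizing it. -/
theorem exists_char_sub {X : Type u} [Group X] [Finite X] {p : ℕ} [Fact p.Prime]
    (P N : Subgroup X) (hP : IsPGroup p P) (hN : N ≤ Subgroup.normalizer (P : Set X))
    (hne : ¬ ((∀ x ∈ P, ∀ y ∈ P, x * y = y * x) ∧ ∀ x ∈ P, x ^ p = 1)) :
    ∃ P₀ : Subgroup X, P₀ ≤ P ∧ P₀ ≠ ⊥ ∧ P₀ ≠ P ∧ ∀ n ∈ N, ∀ z ∈ P₀, n * z * n⁻¹ ∈ P₀ := by
  classical
  have hp : p.Prime := Fact.out
  have hNP : ∀ n ∈ N, ∀ u ∈ P, n * u * n⁻¹ ∈ P := fun n hn u hu =>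
    (Subgroup.mem_normalizer_iff.mp (hN hn) u).mp hu
  have hNP' : ∀ n ∈ N, ∀ u ∈ P, n⁻¹ * u * n ∈ P := fun n hn u hu => by
    have h := hNP n⁻¹ (N.inv_mem hn) u hu
    rwa [inv_inv] at h
  by_cases hc : ∀ x ∈ P, ∀ y ∈ P, x * y = y * x
  · have hne' : ¬ ∀ x ∈ P, x ^ p = 1 := fun h => hne ⟨hc, h⟩
    push Not at hne'
    obtain ⟨x₀, hx₀P, hx₀⟩ := hne'
    obtain ⟨P₀, hP₀⟩ : ∃ P₀ : Subgroup X, ∀ u, u ∈ P₀ ↔ u ∈ P ∧ u ^ p = 1 := by
      refine ⟨{ carrier := {u | u ∈ P ∧ u ^ p = 1}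
                mul_mem' := ?_
                one_mem' := ⟨P.one_mem, one_pow p⟩
                inv_mem' := ?_ }, fun u => Iff.rfl⟩
      · rintro a b ⟨ha, ha'⟩ ⟨hb, hb'⟩
        exact ⟨P.mul_mem ha hb, by
          rw [(show Commute a b from hc a ha b hb).mul_pow, ha', hb', one_mul]⟩
      · rintro a ⟨ha, ha'⟩
        exact ⟨P.inv_mem ha, by rw [inv_pow, ha', inv_one]⟩
    refine ⟨P₀, fun u hu => ((hP₀ u).mp hu).1, ?_, ?_, ?_⟩
    · haveI : Nontrivial ↥P := ⟨⟨⟨x₀, hx₀P⟩, 1, fun h => hx₀ (by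
        have h1 : x₀ = 1 := congrArg Subtype.val h
        rw [h1, one_pow])⟩⟩
      obtain ⟨n, hn0, hn⟩ := hP.nontrivial_iff_card.mp inferInstance
      have hdvd : p ∣ Nat.card ↥P := by rw [hn]; exact dvd_pow_self p hn0.ne'
      obtain ⟨z, hz⟩ := exists_prime_orderOf_dvd_card' p hdvd
      intro hbot
      have hzmem : (z : X) ∈ P₀ := by
        rw [hP₀]
        refine ⟨z.2, ?_⟩
        rw [← Subgroup.coe_pow, ← hz, pow_orderOf_eq_one]
        rfl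
      rw [hbot, Subgroup.mem_bot] at hzmem
      have h1 : z = 1 := Subtype.ext hzmem
      rw [h1, orderOf_one] at hz
      exact hp.ne_one hz.symm
    · intro h
      apply hx₀
      have h1 : x₀ ∈ P₀ := by rw [h]; exact hx₀P
      exact ((hP₀ x₀).mp h1).2
    · intro n hn z hz
      rw [hP₀] at hz ⊢
      exact ⟨hNP n hn z hz.1, by rw [conj_pow, hz.2, mul_one, mul_inv_cancel]⟩
  · push Not at hc
    obtain ⟨x₀, hx₀, y₀, hy₀, hxy⟩ := hc
    refine ⟨P ⊓ Subgroup.centralizer (P : Set X), inf_le_left, ?_, ?_, ?_⟩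
    · haveI : Nontrivial ↥P := ⟨⟨⟨x₀, hx₀⟩, ⟨y₀, hy₀⟩, fun h => hxy (by
        have h1 : x₀ = y₀ := congrArg Subtype.val h
        rw [h1])⟩⟩
      haveI := hP.center_nontrivial
      obtain ⟨z, hz1⟩ := exists_ne (1 : Subgroup.center ↥P)
      intro hbot
      have hmem : ((z : ↥P) : X) ∈ P ⊓ Subgroup.centralizer (P : Set X) := by
        refine ⟨(z : ↥P).2, ?_⟩
        show ((z : ↥P) : X) ∈ Subgroup.centralizer (P : Set X)
        rw [Subgroup.mem_centralizer_iff]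
        intro u hu
        have h1 := Subgroup.mem_center_iff.mp z.2 ⟨u, hu⟩
        exact congrArg Subtype.val h1
      rw [hbot, Subgroup.mem_bot] at hmem
      exact hz1 (Subtype.ext (Subtype.ext hmem))
    · intro h
      have hPc : P ≤ Subgroup.centralizer (P : Set X) := by
        intro u hu
        have h1 : u ∈ P ⊓ Subgroup.centralizer (P : Set X) := by rw [h]; exact hu
        exact h1.2
      exact hxy (Subgroup.mem_centralizer_iff.mp (hPc hy₀) x₀ hx₀)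
    · rintro n hn z ⟨hz, hzc⟩
      refine ⟨hNP n hn z hz, ?_⟩
      have hzc' : z ∈ Subgroup.centralizer (P : Set X) := hzc
      rw [Subgroup.mem_centralizer_iff] at hzc'
      show n * z * n⁻¹ ∈ Subgroup.centralizer (P : Set X)
      rw [Subgroup.mem_centralizer_iff]
      intro u hu
      have h1 := hzc' (n⁻¹ * u * n) (hNP' n hn u hu)
      calc u * (n * z * n⁻¹) = n * ((n⁻¹ * u * n) * z) * n⁻¹ := by group
        _ = n * (z * (n⁻¹ * u * n)) * n⁻¹ := by rw [h1]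
        _ = n * z * n⁻¹ * u := by group

theorem card_map_lt {A B : Type*} [Group A] [Group B] (f : A →* B) (H : Subgroup A) [Finite H]
    (z : A) (hz : z ∈ H) (hz1 : z ≠ 1) (hfz : f z = 1) : Nat.card (H.map f) < Nat.card H := by
  have h1 : H.map f = (f.comp H.subtype).range := by
    rw [MonoidHom.range_comp, Subgroup.range_subtype]
  rw [h1, ← Subgroup.index_ker, ← Subgroup.card_mul_index (f.comp H.subtype).ker]
  have h2 : 1 < Nat.card (f.comp H.subtype).ker := by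
    rw [Subgroup.one_lt_card_iff_ne_bot]
    intro hb
    have h3 : (⟨z, hz⟩ : ↥H) ∈ (f.comp H.subtype).ker := hfz
    rw [hb, Subgroup.mem_bot] at h3
    exact hz1 (congrArg Subtype.val h3)
  have h3 : 0 < (f.comp H.subtype).ker.index := Nat.pos_of_ne_zero Subgroup.index_ne_zero_of_finite
  nlinarith

theorem pow_conj_comm {G : Type*} [Group G] (x b c : G) (hxb : x * b = c * b * x)
    (hxc : x * c = c * x) (j : ℕ) : x ^ j * b = c ^ j * b * x ^ j := by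
  induction j with
  | zero => simp
  | succ j ihj =>
    have hxcj : x * c ^ j = c ^ j * x := Commute.pow_right hxc j
    calc x ^ (j + 1) * b = x * (x ^ j * b) := by rw [pow_succ', mul_assoc]
      _ = x * (c ^ j * b * x ^ j) := by rw [ihj]
      _ = (x * c ^ j) * b * x ^ j := by simp only [mul_assoc]
      _ = c ^ j * (x * b) * x ^ j := by rw [hxcj]; simp only [mul_assoc]
      _ = c ^ j * (c * b * x) * x ^ j := by rw [hxb]
      _ = c ^ (j + 1) * b * x ^ (j + 1) := by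
        rw [pow_succ c j, pow_succ' x j]; simp only [mul_assoc]

/-- The `Qd(p)` theorem, by induction on the order of the `p`-subgroup. -/
theorem qd_of_quad_aux {p : ℕ} [Fact p.Prime] (hp : p ≠ 2) :
    ∀ (n : ℕ) (X : Type u) [Group X] [Finite X] (P N : Subgroup X), Nat.card P ≤ n →
      IsPGroup p P → N ≤ Subgroup.normalizer (P : Set X) → ∀ g ∈ N,
      (∀ u ∈ P, g * (g * u * g⁻¹ * u⁻¹) * g⁻¹ = g * u * g⁻¹ * u⁻¹) →
      (∀ D : Subgroup X, D ≤ N → (∀ c ∈ N, ∀ d ∈ D, c * d * c⁻¹ ∈ D) →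
        (∀ d ∈ D, ∃ k : ℕ, d ^ (p ^ k) ∈ Subgroup.centralizer (P : Set X)) → g ∉ D) →
      Cfsg.Involves ↥(Cfsg.qd p) X := by
  intro n
  induction n with
  | zero =>
    intro X _ _ P N hcard
    exfalso
    have h1 : 0 < Nat.card P := Nat.card_pos
    omega
  | succ n ih =>
    intro X _ _ P N hcard hP hN g hg hq hns
    classical
    by_cases hea : (∀ x ∈ P, ∀ y ∈ P, x * y = y * x) ∧ ∀ x ∈ P, x ^ p = 1
    · exact qd_base hp P N hea.1 hea.2 hN g hg hq hns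
    have hNP : N ⊔ P ≤ Subgroup.normalizer (P : Set X) := sup_le hN Subgroup.le_normalizer
    obtain ⟨P₀, hP₀P, hP₀bot, hP₀ne, hP₀inv⟩ := exists_char_sub P (N ⊔ P) hP hNP hea
    have hP₀lt : Nat.card P₀ < Nat.card P := lt_card_of_lt (lt_of_le_of_ne hP₀P hP₀ne)
    have hP₀p : IsPGroup p P₀ := hP.to_le hP₀P
    obtain ⟨M, hM⟩ : ∃ M : Subgroup X, M = Subgroup.normalizer (P₀ : Set X) := ⟨_, rfl⟩
    have hNPM : N ⊔ P ≤ M := by
      rw [hM]
      intro c hc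
      exact Cfsg.Agent.Lib.helper14.mem_normalizer_of_forall_conj_mem P₀ c (hP₀inv c hc)
    have hNM : N ≤ M := le_sup_left.trans hNPM
    have hPM : P ≤ M := le_sup_right.trans hNPM
    have hN₀ : N ≤ Subgroup.normalizer (P₀ : Set X) := by rw [← hM]; exact hNM
    by_cases h1 : ∀ D : Subgroup X, D ≤ N → (∀ c ∈ N, ∀ d ∈ D, c * d * c⁻¹ ∈ D) →
        (∀ d ∈ D, ∃ k : ℕ, d ^ (p ^ k) ∈ Subgroup.centralizer (P₀ : Set X)) → g ∉ D
    · exact ih X P₀ N (by omega) hP₀p hN₀ g hg (fun u hu => hq u (hP₀P hu)) h1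
    push Not at h1
    obtain ⟨D₀, hD₀N, hD₀inv, hD₀p, hgD₀⟩ := h1
    haveI hP₀n : (P₀.subgroupOf M).Normal := by rw [hM]; exact Subgroup.normal_in_normalizer
    obtain ⟨π, hπ⟩ : ∃ π : ↥M →* ↥M ⧸ P₀.subgroupOf M,
        π = QuotientGroup.mk' (P₀.subgroupOf M) := ⟨_, rfl⟩
    have hπker : ∀ x : ↥M, π x = 1 ↔ (x : X) ∈ P₀ := by
      intro x
      rw [hπ, QuotientGroup.mk'_apply, QuotientGroup.eq_one_iff, Subgroup.mem_subgroupOf]
    obtain ⟨P', hP'⟩ : ∃ P' : Subgroup (↥M ⧸ P₀.subgroupOf M), P' = (P.subgroupOf M).map π :=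
      ⟨_, rfl⟩
    obtain ⟨N', hN'⟩ : ∃ N' : Subgroup (↥M ⧸ P₀.subgroupOf M), N' = (N.subgroupOf M).map π :=
      ⟨_, rfl⟩
    have hmemP' : ∀ u (hu : u ∈ P), π ⟨u, hPM hu⟩ ∈ P' := fun u hu => by
      rw [hP']; exact ⟨⟨u, hPM hu⟩, Subgroup.mem_subgroupOf.mpr hu, rfl⟩
    have hmemN' : ∀ c (hc : c ∈ N), π ⟨c, hNM hc⟩ ∈ N' := fun c hc => by
      rw [hN']; exact ⟨⟨c, hNM hc⟩, Subgroup.mem_subgroupOf.mpr hc, rfl⟩
    have exP' : ∀ y ∈ P', ∃ u, ∃ hu : u ∈ P, y = π ⟨u, hPM hu⟩ := by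
      intro y hy
      rw [hP'] at hy
      obtain ⟨x, hx, rfl⟩ := hy
      exact ⟨(x : X), Subgroup.mem_subgroupOf.mp hx, rfl⟩
    have exN' : ∀ y ∈ N', ∃ c, ∃ hc : c ∈ N, y = π ⟨c, hNM hc⟩ := by
      intro y hy
      rw [hN'] at hy
      obtain ⟨x, hx, rfl⟩ := hy
      exact ⟨(x : X), Subgroup.mem_subgroupOf.mp hx, rfl⟩
    have hP'p : IsPGroup p P' := by
      rw [hP']; exact (hP.comap_subtype).map π
    have hP'card : Nat.card P' ≤ n := by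
      obtain ⟨z, hzP₀, hz1⟩ : ∃ z ∈ P₀, z ≠ 1 := by
        by_contra hcon
        push Not at hcon
        exact hP₀bot ((Subgroup.eq_bot_iff_forall _).mpr hcon)
      have h2 := card_map_lt π (P.subgroupOf M) ⟨z, hPM (hP₀P hzP₀)⟩
        (Subgroup.mem_subgroupOf.mpr (hP₀P hzP₀)) (fun h => hz1 (congrArg Subtype.val h))
        ((hπker _).mpr hzP₀)
      have h3 : Nat.card (P.subgroupOf M) = Nat.card P :=
        Nat.card_congr (Subgroup.subgroupOfEquivOfLe hPM).toEquiv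
      rw [hP']; omega
    have hN'P' : N' ≤ Subgroup.normalizer (P' : Set (↥M ⧸ P₀.subgroupOf M)) := by
      intro y hy
      obtain ⟨c, hc, rfl⟩ := exN' y hy
      apply Cfsg.Agent.Lib.helper14.mem_normalizer_of_forall_conj_mem
      intro x hx
      obtain ⟨u, hu, rfl⟩ := exP' x hx
      have hcu : c * u * c⁻¹ ∈ P := (Subgroup.mem_normalizer_iff.mp (hN hc) u).mp hu
      have e : π ⟨c, hNM hc⟩ * π ⟨u, hPM hu⟩ * (π ⟨c, hNM hc⟩)⁻¹ =
          π ⟨c * u * c⁻¹, hPM hcu⟩ := by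
        rw [← map_inv, ← map_mul, ← map_mul]; rfl
      rw [e]; exact hmemP' _ hcu
    have hq' : ∀ y ∈ P', π ⟨g, hNM hg⟩ * (π ⟨g, hNM hg⟩ * y * (π ⟨g, hNM hg⟩)⁻¹ * y⁻¹) *
        (π ⟨g, hNM hg⟩)⁻¹ = π ⟨g, hNM hg⟩ * y * (π ⟨g, hNM hg⟩)⁻¹ * y⁻¹ := by
      intro y hy
      obtain ⟨u, hu, rfl⟩ := exP' y hy
      have h3 : (⟨g, hNM hg⟩ : ↥M) * (⟨g, hNM hg⟩ * ⟨u, hPM hu⟩ * ⟨g, hNM hg⟩⁻¹ *
          ⟨u, hPM hu⟩⁻¹) * ⟨g, hNM hg⟩⁻¹ =
          ⟨g, hNM hg⟩ * ⟨u, hPM hu⟩ * ⟨g, hNM hg⟩⁻¹ * ⟨u, hPM hu⟩⁻¹ := Subtype.ext (hq u hu)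
      have h4 := congrArg π h3
      simp only [map_mul, map_inv] at h4
      exact h4
    by_cases h2 : ∀ D : Subgroup (↥M ⧸ P₀.subgroupOf M), D ≤ N' →
        (∀ c ∈ N', ∀ d ∈ D, c * d * c⁻¹ ∈ D) →
        (∀ d ∈ D, ∃ k : ℕ, d ^ (p ^ k) ∈
          Subgroup.centralizer (P' : Set (↥M ⧸ P₀.subgroupOf M))) → π ⟨g, hNM hg⟩ ∉ D
    · have h3 := ih (↥M ⧸ P₀.subgroupOf M) P' N' hP'card hP'p hN'P' (π ⟨g, hNM hg⟩)
        (hmemN' g hg) hq' h2
      have h4 : Cfsg.Involves ↥(Cfsg.qd p) ↥M :=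
        Cfsg.Agent.Lib.helper14.involves_of_surjective_hom π
          (by rw [hπ]; exact QuotientGroup.mk'_surjective _) h3
      exact Cfsg.Agent.Lib.helper14.involves_of_injective M.subtype M.subtype_injective h4
    push Not at h2
    obtain ⟨D₁, hD₁N, hD₁inv, hD₁p, hgD₁⟩ := h2
    exfalso
    obtain ⟨m, hm⟩ := IsPGroup.iff_card.mp hP₀p
    apply hns (D₀ ⊓ (D₁.comap π).map M.subtype) (inf_le_left.trans hD₀N)
    · intro c hc d hd
      refine ⟨hD₀inv c hc d hd.1, ?_⟩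
      obtain ⟨d', hd', rfl⟩ := hd.2
      refine ⟨⟨c, hNM hc⟩ * d' * ⟨c, hNM hc⟩⁻¹, ?_, rfl⟩
      rw [SetLike.mem_coe, Subgroup.mem_comap, map_mul, map_mul, map_inv]
      exact hD₁inv _ (hmemN' c hc) _ hd'
    · intro d hd
      obtain ⟨k₀, hk₀⟩ := hD₀p d hd.1
      obtain ⟨d', hd', rfl⟩ := hd.2
      obtain ⟨k₁, hk₁⟩ := hD₁p (π d') hd'
      refine ⟨k₀ + k₁ + m, ?_⟩
      obtain ⟨e, he⟩ : ∃ e : ↥M, e = d' ^ (p ^ (k₀ + k₁)) := ⟨_, rfl⟩
      have heC₀ : (e : X) ∈ Subgroup.centralizer (P₀ : Set X) := by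
        rw [he, Subgroup.coe_pow, pow_add, pow_mul]
        exact Subgroup.pow_mem _ hk₀ _
      have heC₁ : π e ∈ Subgroup.centralizer (P' : Set (↥M ⧸ P₀.subgroupOf M)) := by
        rw [he, map_pow, pow_add, mul_comm, pow_mul]
        exact Subgroup.pow_mem _ hk₁ _
      rw [Subgroup.mem_centralizer_iff]
      intro u hu
      have hc : (e : X) * u * (e : X)⁻¹ * u⁻¹ ∈ P₀ := by
        have h3 := Subgroup.mem_centralizer_iff.mp heC₁ (π ⟨u, hPM hu⟩) (hmemP' u hu)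
        have h4 : π (e * ⟨u, hPM hu⟩ * e⁻¹ * ⟨u, hPM hu⟩⁻¹) = 1 := by
          rw [map_mul, map_mul, map_mul, map_inv, map_inv, ← h3]; group
        exact (hπker _).mp h4
      have hec : (e : X) * ((e : X) * u * (e : X)⁻¹ * u⁻¹) =
          ((e : X) * u * (e : X)⁻¹ * u⁻¹) * (e : X) :=
        (Subgroup.mem_centralizer_iff.mp heC₀ _ hc).symm
      have h5 := pow_conj_comm (e : X) u ((e : X) * u * (e : X)⁻¹ * u⁻¹) (by group) hec (p ^ m)
      have hcp : ((e : X) * u * (e : X)⁻¹ * u⁻¹) ^ (p ^ m) = 1 := by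
        have h6 := pow_card_eq_one' (G := ↥P₀) (x := ⟨_, hc⟩)
        rw [hm] at h6
        have h7 := congrArg Subtype.val h6
        rw [Subgroup.coe_pow] at h7
        exact h7
      rw [hcp, one_mul] at h5
      have h6 : (M.subtype d') ^ (p ^ (k₀ + k₁ + m)) = (e : X) ^ (p ^ m) := by
        rw [he, Subgroup.coe_pow, ← pow_mul, ← pow_add]; rfl
      rw [h6]; exact h5.symm
    · exact ⟨hgD₀, ⟨g, hNM hg⟩, hgD₁, rfl⟩

/-- The `Qd(p)` theorem: a quadratically acting element that lies in no invariant subgroup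
acting as a `p`-group forces a section isomorphic to `Qd(p)`. -/
theorem qd_of_quad {X : Type u} [Group X] [Finite X] {p : ℕ} [Fact p.Prime] (hp : p ≠ 2)
    (P N : Subgroup X) (hP : IsPGroup p P) (hN : N ≤ Subgroup.normalizer (P : Set X)) (g : X)
    (hg : g ∈ N) (hq : ∀ u ∈ P, g * (g * u * g⁻¹ * u⁻¹) * g⁻¹ = g * u * g⁻¹ * u⁻¹)
    (hns : ∀ D : Subgroup X, D ≤ N → (∀ c ∈ N, ∀ d ∈ D, c * d * c⁻¹ ∈ D) →
      (∀ d ∈ D, ∃ k : ℕ, d ^ (p ^ k) ∈ Subgroup.centralizer (P : Set X)) → g ∉ D) :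
    Cfsg.Involves ↥(Cfsg.qd p) X :=
  qd_of_quad_aux hp (Nat.card P) X P N le_rfl hP hN g hg hq hns

end Cfsg.Agent.Lib.helper15.Qd
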