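import Mathlib
import Cfsg.Agent.Lib.helper15.QdMain
import Cfsg.Agent.Lib.helper15.PCore
import Cfsg.Prelude.Def_LocalEven

set_option autoImplicit false
set_option linter.style.haveILetI false

namespace Cfsg.Agent.Lib.helper15.Qd

open Cfsg.Agent.Lib.helper15

open scoped commutatorElement

universe u

theorem quad_of_comm {X : Type*} [Group X] (P : Subgroup X) (g : X)
    (hq : ⁅⁅P, Subgroup.zpowers g⁆, Subgroup.zpowers g⁆ = ⊥) :
    ∀ u ∈ P, g * (g * u * g⁻¹ * u⁻¹) * g⁻¹ = g * u * g⁻¹ * u⁻¹ := by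
  intro v hv
  have hc1 : g * v * g⁻¹ * v⁻¹ ∈ ⁅P, Subgroup.zpowers g⁆ := by
    have h5 := Subgroup.commutator_mem_commutator hv (Subgroup.mem_zpowers g)
    have h6 := Subgroup.inv_mem _ h5
    rw [commutatorElement_inv, commutatorElement_def] at h6
    exact h6
  have hc2 := Subgroup.commutator_mem_commutator hc1 (Subgroup.mem_zpowers g)
  rw [hq, Subgroup.mem_bot, commutatorElement_def] at hc2
  have hc3 : g * v * g⁻¹ * v⁻¹ * g = g * (g * v * g⁻¹ * v⁻¹) := by
    have h7 := congrArg (fun t => t * g * (g * v * g⁻¹ * v⁻¹)) hc2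
    simp only [one_mul] at h7
    rw [← h7]
    group
  rw [← hc3]
  group

/-- Glauberman: a finite group not involving `Qd(p)`, `p` odd, is `p`-stable in the normalizer
form. -/
theorem normalizerPStable_of_qd_free {X : Type u} [Group X] [Finite X] {p : ℕ} [Fact p.Prime]
    (hp : p ≠ 2) (h : ¬ Cfsg.Involves ↥(Cfsg.qd p) X) : Cfsg.IsNormalizerPStable p X := by
  intro P hP g hg hquad
  by_contra hnot
  apply h
  apply qd_of_quad hp P (Subgroup.normalizer (P : Set X)) hP le_rfl g hg (quad_of_comm P g hquad)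
  intro D hDN hDinv hDp hgD
  apply hnot
  have hDn : (D.subgroupOf (Subgroup.normalizer (P : Set X))).Normal := by
    refine ⟨fun n hn c => ?_⟩
    rw [Subgroup.mem_subgroupOf] at hn ⊢
    exact hDinv c c.2 n hn
  have hD'n : ((D.subgroupOf (Subgroup.normalizer (P : Set X))).map
      (QuotientGroup.mk' ((Subgroup.centralizer (P : Set X)).subgroupOf
        (Subgroup.normalizer (P : Set X))))).Normal :=
    hDn.map _ (QuotientGroup.mk'_surjective _)
  have hD'p : IsPGroup p ↥((D.subgroupOf (Subgroup.normalizer (P : Set X))).map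
      (QuotientGroup.mk' ((Subgroup.centralizer (P : Set X)).subgroupOf
        (Subgroup.normalizer (P : Set X))))) := by
    rintro ⟨_, d, hd, rfl⟩
    obtain ⟨k, hk⟩ := hDp (d : X) (Subgroup.mem_subgroupOf.mp hd)
    refine ⟨k, Subtype.ext ?_⟩
    rw [Subgroup.coe_pow, Subgroup.coe_one]
    show (QuotientGroup.mk' _ d) ^ (p ^ k) = 1
    rw [← map_pow, QuotientGroup.mk'_apply, QuotientGroup.eq_one_iff, Subgroup.mem_subgroupOf,
      Subgroup.coe_pow]
    exact hk
  exact (le_pCore hD'n hD'p) ⟨⟨g, hg⟩, Subgroup.mem_subgroupOf.mpr hgD, rfl⟩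

end Cfsg.Agent.Lib.helper15.Qd
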