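import Mathlib
import Cfsg.Agent.Lib.helper15.QdStable

set_option autoImplicit false
set_option linter.style.haveILetI false

namespace Cfsg.Agent.Lib.helper15.Qd

open Cfsg.Agent.Lib.helper15

open scoped commutatorElement

section affine

variable {F : Type*} [Field F]

theorem aff_one_mul (t s : Fin 2 → F) : aff (1 : Dk.SL2 F) t * aff 1 s = aff 1 (s + t) := by
  rw [aff_mul, mul_one, Matrix.SpecialLinearGroup.coe_one, Matrix.one_mulVec]

theorem aff_one_inv (t : Fin 2 → F) : (aff (1 : Dk.SL2 F) t)⁻¹ = aff 1 (-t) := by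
  rw [aff_inv, inv_one, Matrix.SpecialLinearGroup.coe_one, Matrix.one_mulVec]

theorem aff_conj (A : Dk.SL2 F) (s t : Fin 2 → F) :
    aff A s * aff 1 t * (aff A s)⁻¹ = aff 1 ((A : Matrix (Fin 2) (Fin 2) F).mulVec t) := by
  rw [mul_inv_eq_iff_eq_mul, aff_mul, aff_mul, mul_one, one_mul,
    Matrix.SpecialLinearGroup.coe_one, Matrix.one_mulVec, add_comm]

theorem aff_pow_one (t : Fin 2 → F) (n : ℕ) : (aff (1 : Dk.SL2 F) t) ^ n = aff 1 (n • t) := by
  induction n with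
  | zero => rw [pow_zero, zero_smul, aff_one]
  | succ n ih => rw [pow_succ, ih, aff_one_mul, succ_nsmul, add_comm]

theorem aff_pow_zero (A : Dk.SL2 F) (n : ℕ) : (aff A 0) ^ n = aff (A ^ n) 0 := by
  induction n with
  | zero => rw [pow_zero, pow_zero, aff_one]
  | succ n ih => rw [pow_succ, ih, aff_mul, pow_succ, Matrix.mulVec_zero, add_zero]

theorem aff_comm_one (A : Dk.SL2 F) (s : Fin 2 → F) :
    ⁅aff (1 : Dk.SL2 F) s, aff A 0⁆ =
      aff 1 (s - (A : Matrix (Fin 2) (Fin 2) F).mulVec s) := by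
  rw [commutatorElement_def]
  have e : aff 1 s * aff A 0 * (aff 1 s)⁻¹ * (aff A 0)⁻¹ =
      aff 1 s * (aff A 0 * (aff 1 s)⁻¹ * (aff A 0)⁻¹) := by group
  rw [e, aff_one_inv, aff_conj, aff_one_mul, Matrix.mulVec_neg, neg_add_eq_sub]

end affine

/-- A group carrying an injective homomorphism onto the affine group `Qd(p)` is not `p`-stable
in the normalizer form. -/
theorem not_stable_of_emb {p : ℕ} [Fact p.Prime] {Y : Type*} [Group Y] [Finite Y]
    (E : Y →* Matrix.SpecialLinearGroup (Fin 3) (ZMod p)) (hE : Function.Injective E)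
    (hsurj : ∀ (A : Dk.SL2 (ZMod p)) (t : Fin 2 → ZMod p), ∃ y, E y = aff A t) :
    ¬ Cfsg.IsNormalizerPStable p Y := by
  intro hst
  classical
  obtain ⟨P, hP⟩ : ∃ P : Subgroup Y, ∀ y, y ∈ P ↔ ∃ t, E y = aff 1 t := by
    refine ⟨{ carrier := {y | ∃ t, E y = aff 1 t}
              mul_mem' := ?_
              one_mem' := ⟨0, by rw [map_one, aff_one]⟩
              inv_mem' := ?_ }, fun y => Iff.rfl⟩
    · rintro a b ⟨t, ht⟩ ⟨s, hs⟩
      exact ⟨s + t, by rw [map_mul, ht, hs, aff_one_mul]⟩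
    · rintro a ⟨t, ht⟩
      exact ⟨-t, by rw [map_inv, ht, aff_one_inv]⟩
  have hPp : IsPGroup p P := by
    rintro ⟨y, hy⟩
    obtain ⟨t, ht⟩ := (hP y).mp hy
    refine ⟨1, Subtype.ext (hE ?_)⟩
    rw [Subgroup.coe_pow, Subgroup.coe_one, pow_one, map_pow, map_one, ht, aff_pow_one]
    have h0 : (p • t : Fin 2 → ZMod p) = 0 := by
      ext i; simp
    rw [h0, aff_one]
  have key : ∀ (A : Dk.SL2 (ZMod p)) (g : Y), E g = aff A 0 →
      ((A : Matrix (Fin 2) (Fin 2) (ZMod p)) - 1) * ((A : Matrix (Fin 2) (Fin 2) (ZMod p)) - 1) = 0 →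
      ∃ hg : g ∈ Subgroup.normalizer (P : Set Y),
        (QuotientGroup.mk (s := (Subgroup.centralizer (P : Set Y)).subgroupOf
          (Subgroup.normalizer (P : Set Y))) (⟨g, hg⟩ : ↥(Subgroup.normalizer (P : Set Y)))) ∈
        Cfsg.pCore p (↥(Subgroup.normalizer (P : Set Y)) ⧸
          (Subgroup.centralizer (P : Set Y)).subgroupOf (Subgroup.normalizer (P : Set Y))) := by
    intro A g hg hA
    have hgN : g ∈ Subgroup.normalizer (P : Set Y) := by
      apply Cfsg.Agent.Lib.helper14.mem_normalizer_of_forall_conj_mem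
      intro x hx
      obtain ⟨t, ht⟩ := (hP x).mp hx
      rw [hP]
      exact ⟨(A : Matrix (Fin 2) (Fin 2) (ZMod p)).mulVec t, by
        rw [map_mul, map_mul, map_inv, hg, ht, aff_conj]⟩
    refine ⟨hgN, hst P hPp g hgN ?_⟩
    apply quad_zpowers
    intro b hb
    obtain ⟨t, ht⟩ := (hP b).mp hb
    apply hE
    rw [map_one, map_commutatorElement, map_commutatorElement, hg, ht, aff_comm_one,
      aff_comm_one]
    have h1 : (t - (A : Matrix (Fin 2) (Fin 2) (ZMod p)).mulVec t) -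
        (A : Matrix (Fin 2) (Fin 2) (ZMod p)).mulVec
          (t - (A : Matrix (Fin 2) (Fin 2) (ZMod p)).mulVec t) =
        (((A : Matrix (Fin 2) (Fin 2) (ZMod p)) - 1) *
          ((A : Matrix (Fin 2) (Fin 2) (ZMod p)) - 1)).mulVec t := by
      simp only [← Matrix.mulVec_mulVec, Matrix.sub_mulVec, Matrix.one_mulVec,
        Matrix.mulVec_sub]
      abel
    rw [h1, hA, Matrix.zero_mulVec, aff_one]
  obtain ⟨gU, hgU⟩ := hsurj (Dk.uu 1) 0
  obtain ⟨gL, hgL⟩ := hsurj (Dk.ll 1) 0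
  have hAU : (((Dk.uu (1 : ZMod p) : Dk.SL2 (ZMod p)) : Matrix (Fin 2) (Fin 2) (ZMod p)) - 1) *
      (((Dk.uu (1 : ZMod p) : Dk.SL2 (ZMod p)) : Matrix (Fin 2) (Fin 2) (ZMod p)) - 1) = 0 := by
    ext i j
    fin_cases i <;> fin_cases j <;> simp [Dk.uu, Dk.mk4, Matrix.mul_apply, Fin.sum_univ_two]
  have hAL : (((Dk.ll (1 : ZMod p) : Dk.SL2 (ZMod p)) : Matrix (Fin 2) (Fin 2) (ZMod p)) - 1) *
      (((Dk.ll (1 : ZMod p) : Dk.SL2 (ZMod p)) : Matrix (Fin 2) (Fin 2) (ZMod p)) - 1) = 0 := by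
    ext i j
    fin_cases i <;> fin_cases j <;> simp [Dk.ll, Dk.mk4, Matrix.mul_apply, Fin.sum_univ_two]
  obtain ⟨hUN, hUc⟩ := key _ gU hgU hAU
  obtain ⟨hLN, hLc⟩ := key _ gL hgL hAL
  have hprod := Subgroup.mul_mem _ hUc hLc
  obtain ⟨k, hk⟩ := (pCore_isPGroup p _) ⟨_, hprod⟩
  have h1 := congrArg Subtype.val hk
  rw [Subgroup.coe_pow, Subgroup.coe_one] at h1
  have h1' : (QuotientGroup.mk (s := (Subgroup.centralizer (P : Set Y)).subgroupOf
      (Subgroup.normalizer (P : Set Y)))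
      (((⟨gU, hUN⟩ : ↥(Subgroup.normalizer (P : Set Y))) * ⟨gL, hLN⟩) ^ (p ^ k))) = 1 := h1
  rw [QuotientGroup.eq_one_iff, Subgroup.mem_subgroupOf] at h1'
  have h2 : (gU * gL) ^ (p ^ k) ∈ Subgroup.centralizer (P : Set Y) := h1'
  obtain ⟨B, hB⟩ : ∃ B : Dk.SL2 (ZMod p), B = (Dk.uu 1 * Dk.ll 1) ^ (p ^ k) := ⟨_, rfl⟩
  have hEB : E ((gU * gL) ^ (p ^ k)) = aff B 0 := by
    rw [map_pow, map_mul, hgU, hgL, aff_mul, Matrix.mulVec_zero, add_zero, aff_pow_zero, hB]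
  have hBt : ∀ t : Fin 2 → ZMod p, (B : Matrix (Fin 2) (Fin 2) (ZMod p)).mulVec t = t := by
    intro t
    obtain ⟨y, hy⟩ := hsurj 1 t
    have hyP : y ∈ P := (hP y).mpr ⟨t, hy⟩
    have h3 := Subgroup.mem_centralizer_iff.mp h2 y hyP
    have h4 := congrArg E h3
    rw [map_mul, map_mul, hEB, hy, aff_mul, aff_mul] at h4
    have h5 := (aff_inj h4).2
    rw [Matrix.SpecialLinearGroup.coe_one, Matrix.one_mulVec, zero_add, add_zero] at h5
    exact h5.symm
  have hB1 : B = 1 := by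
    apply Dk.ext4
    · have h := congrFun (hBt ![1, 0]) 0
      simpa [Matrix.mulVec, dotProduct, Fin.sum_univ_two, Dk.ea] using h
    · have h := congrFun (hBt ![0, 1]) 0
      simpa [Matrix.mulVec, dotProduct, Fin.sum_univ_two, Dk.eb] using h
    · have h := congrFun (hBt ![1, 0]) 1
      simpa [Matrix.mulVec, dotProduct, Fin.sum_univ_two, Dk.ec] using h
    · have h := congrFun (hBt ![0, 1]) 1
      simpa [Matrix.mulVec, dotProduct, Fin.sum_univ_two, Dk.ed] using h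
  rw [hB] at hB1
  have h6 := Dk.tr_of_pow_char p (Dk.uu (1 : ZMod p) * Dk.ll 1) k hB1
  unfold Dk.tr at h6
  simp only [Dk.ea_mul, Dk.ed_mul, Dk.ea_uu, Dk.eb_uu, Dk.ec_uu, Dk.ed_uu, Dk.ea_ll, Dk.eb_ll,
    Dk.ec_ll, Dk.ed_ll] at h6
  exact one_ne_zero (α := ZMod p) (by linear_combination h6)

/-- A group isomorphic to `Qd(p)` is not `p`-stable in the normalizer form. -/
theorem not_stable_of_iso_qd {p : ℕ} [Fact p.Prime] {Y : Type*} [Group Y] [Finite Y]
    (e : Y ≃* ↥(Cfsg.qd p)) : ¬ Cfsg.IsNormalizerPStable p Y := by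
  apply not_stable_of_emb ((Cfsg.qd p).subtype.comp e.toMonoidHom)
  · exact (Cfsg.qd p).subtype_injective.comp e.injective
  · intro A t
    refine ⟨e.symm ⟨aff A t, aff_mem_qd p A t⟩, ?_⟩
    show ((e (e.symm ⟨aff A t, aff_mem_qd p A t⟩) : ↥(Cfsg.qd p)) :
      Matrix.SpecialLinearGroup (Fin 3) (ZMod p)) = aff A t
    rw [e.apply_symm_apply]

end Cfsg.Agent.Lib.helper15.Qd
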