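import Mathlib
import Cfsg.Agent.Lib.helper15.QdNS
import Cfsg.Agent.Lib.helper15.ZJT
import Cfsg.Agent.Lib.helper15.ZJ2
import Cfsg.Agent.Lib.helper15.QdStable
import Cfsg.Agent.Lib.helper15.ZJL
import Cfsg.Agent.Lib.helper15.ZJFun
import Cfsg.Agent.Lib.helper10.SFCore
import Cfsg.Agent.S1969

set_option autoImplicit false
set_option linter.style.haveILetI false

namespace Cfsg.Agent.Lib.helper15.Qd

open Cfsg Cfsg.Agent.Lib.helper10 Cfsg.Agent.Lib.helper14 Cfsg.Agent.Lib.helper15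

open scoped commutatorElement

universe u

section sl2

variable {F : Type*} [Field F]

theorem exists_sl2_col (t : Fin 2 → F) (ht : t ≠ 0) :
    ∃ A : Dk.SL2 F, (A : Matrix (Fin 2) (Fin 2) F).mulVec ![1, 0] = t := by
  by_cases h0 : t 0 = 0
  · have h1 : t 1 ≠ 0 := by
      intro h1
      apply ht
      funext i
      fin_cases i
      · exact h0
      · exact h1
    refine ⟨Dk.mk4 0 (-1 / t 1) (t 1) 0 (by field_simp; ring), ?_⟩
    funext i
    fin_cases i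
    · simp [Dk.mk4, Matrix.mulVec, dotProduct, Fin.sum_univ_two, h0]
    · simp [Dk.mk4, Matrix.mulVec, dotProduct, Fin.sum_univ_two]
  · refine ⟨Dk.mk4 (t 0) 0 (t 1) (1 / t 0) (by field_simp; ring), ?_⟩
    funext i
    fin_cases i
    · simp [Dk.mk4, Matrix.mulVec, dotProduct, Fin.sum_univ_two]
    · simp [Dk.mk4, Matrix.mulVec, dotProduct, Fin.sum_univ_two]

theorem exists_sl2_mulVec (t₀ t : Fin 2 → F) (h₀ : t₀ ≠ 0) (h : t ≠ 0) :
    ∃ A : Dk.SL2 F, (A : Matrix (Fin 2) (Fin 2) F).mulVec t₀ = t := by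
  obtain ⟨A₀, hA₀⟩ := exists_sl2_col t₀ h₀
  obtain ⟨A₁, hA₁⟩ := exists_sl2_col t h
  refine ⟨A₁ * A₀⁻¹, ?_⟩
  rw [Matrix.SpecialLinearGroup.coe_mul, ← Matrix.mulVec_mulVec]
  have h1 : ((A₀⁻¹ : Dk.SL2 F) : Matrix (Fin 2) (Fin 2) F).mulVec t₀ = ![1, 0] := by
    rw [← hA₀, Matrix.mulVec_mulVec, ← Matrix.SpecialLinearGroup.coe_mul, inv_mul_cancel,
      Matrix.SpecialLinearGroup.coe_one, Matrix.one_mulVec]
  rw [h1, hA₁]

theorem sl2_eq_one_of_mulVec (B : Dk.SL2 F)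
    (hBt : ∀ t : Fin 2 → F, (B : Matrix (Fin 2) (Fin 2) F).mulVec t = t) : B = 1 := by
  apply Dk.ext4
  · have h := congrFun (hBt ![1, 0]) 0
    simpa [Matrix.mulVec, dotProduct, Fin.sum_univ_two, Dk.ea] using h
  · have h := congrFun (hBt ![0, 1]) 0
    simpa [Matrix.mulVec, dotProduct, Fin.sum_univ_two, Dk.eb] using h
  · have h := congrFun (hBt ![1, 0]) 1
    simpa [Matrix.mulVec, dotProduct, Fin.sum_univ_two, Dk.ec] using h
  · have h := congrFun (hBt ![0, 1]) 1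
    simpa [Matrix.mulVec, dotProduct, Fin.sum_univ_two, Dk.ed] using h

end sl2

section emb

variable {p : ℕ} [Fact p.Prime] {Y : Type*} [Group Y]

/-- The translation subgroup of a group mapped to the affine group. -/
def transl (E : Y →* Matrix.SpecialLinearGroup (Fin 3) (ZMod p)) : Subgroup Y where
  carrier := {y | ∃ t, E y = aff 1 t}
  mul_mem' := by
    rintro a b ⟨t, ht⟩ ⟨s, hs⟩
    exact ⟨s + t, by rw [map_mul, ht, hs, aff_one_mul]⟩
  one_mem' := ⟨0, by rw [map_one, aff_one]⟩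
  inv_mem' := by
    rintro a ⟨t, ht⟩
    exact ⟨-t, by rw [map_inv, ht, aff_one_inv]⟩

theorem mem_transl {E : Y →* Matrix.SpecialLinearGroup (Fin 3) (ZMod p)} {y : Y} :
    y ∈ transl E ↔ ∃ t, E y = aff 1 t := Iff.rfl

variable (E : Y →* Matrix.SpecialLinearGroup (Fin 3) (ZMod p))

theorem transl_conj (hrange : ∀ y, ∃ (A : Dk.SL2 (ZMod p)) (t : Fin 2 → ZMod p), E y = aff A t)
    (g y : Y) (hy : y ∈ transl E) : g * y * g⁻¹ ∈ transl E := by
  obtain ⟨t, ht⟩ := hy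
  obtain ⟨A, s, hg⟩ := hrange g
  exact ⟨(A : Matrix (Fin 2) (Fin 2) (ZMod p)).mulVec t, by
    rw [map_mul, map_mul, map_inv, hg, ht, aff_conj]⟩

theorem transl_pgroup (hE : Function.Injective E) : IsPGroup p (transl E) := by
  rintro ⟨y, hy⟩
  obtain ⟨t, ht⟩ := hy
  refine ⟨1, Subtype.ext (hE ?_)⟩
  rw [Subgroup.coe_pow, Subgroup.coe_one, pow_one, map_pow, map_one, ht, aff_pow_one]
  have h0 : (p • t : Fin 2 → ZMod p) = 0 := by
    ext i; simp
  rw [h0, aff_one]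

theorem centralizer_transl_le (hE : Function.Injective E)
    (hsurj : ∀ (A : Dk.SL2 (ZMod p)) (t : Fin 2 → ZMod p), ∃ y, E y = aff A t)
    (hrange : ∀ y, ∃ (A : Dk.SL2 (ZMod p)) (t : Fin 2 → ZMod p), E y = aff A t) :
    Subgroup.centralizer (transl E : Set Y) ≤ transl E := by
  intro g hg
  obtain ⟨A, s, hgA⟩ := hrange g
  have hBt : ∀ t : Fin 2 → ZMod p, (A : Matrix (Fin 2) (Fin 2) (ZMod p)).mulVec t = t := by
    intro t
    obtain ⟨y, hy⟩ := hsurj 1 t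
    have h3 := Subgroup.mem_centralizer_iff.mp hg y ⟨t, hy⟩
    have h4 := congrArg E h3
    rw [map_mul, map_mul, hgA, hy, aff_mul, aff_mul] at h4
    have h5 := (aff_inj h4).2
    rw [Matrix.SpecialLinearGroup.coe_one, Matrix.one_mulVec, add_comm s t] at h5
    exact (add_right_cancel h5).symm
  have hA1 := sl2_eq_one_of_mulVec A hBt
  exact ⟨s, by rw [hgA, hA1]⟩

theorem transl_irred (hE : Function.Injective E)
    (hsurj : ∀ (A : Dk.SL2 (ZMod p)) (t : Fin 2 → ZMod p), ∃ y, E y = aff A t)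
    (U : Subgroup Y) (hU : U ≤ transl E) (hUn : ∀ g : Y, ∀ y ∈ U, g * y * g⁻¹ ∈ U)
    (hU1 : U ≠ ⊥) : transl E ≤ U := by
  obtain ⟨y₀, hy₀U, hy₀1⟩ : ∃ y ∈ U, y ≠ 1 := by
    by_contra hcon
    push Not at hcon
    exact hU1 ((Subgroup.eq_bot_iff_forall _).mpr hcon)
  obtain ⟨t₀, ht₀⟩ := hU hy₀U
  have ht₀0 : t₀ ≠ 0 := by
    intro h
    apply hy₀1
    apply hE
    rw [ht₀, h, aff_one, map_one]
  rintro y ⟨t, ht⟩
  by_cases h0 : t = 0
  · have : y = 1 := by
      apply hE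
      rw [ht, h0, aff_one, map_one]
    rw [this]; exact U.one_mem
  · obtain ⟨A, hA⟩ := exists_sl2_mulVec t₀ t ht₀0 h0
    obtain ⟨g, hg⟩ := hsurj A 0
    have h1 : y = g * y₀ * g⁻¹ := by
      apply hE
      rw [map_mul, map_mul, map_inv, hg, ht₀, aff_conj, hA, ht]
    rw [h1]
    exact hUn g y₀ hy₀U

theorem card_transl_le [Finite Y] (hE : Function.Injective E) : Nat.card (transl E) ≤ p ^ 2 := by
  classical
  obtain ⟨f, hf⟩ : ∃ f : ↥(transl E) → (Fin 2 → ZMod p),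
      ∀ y : ↥(transl E), E (y : Y) = aff 1 (f y) :=
    ⟨fun y => y.2.choose, fun y => y.2.choose_spec⟩
  have hinj : Function.Injective f := by
    intro a b hab
    apply Subtype.ext
    apply hE
    rw [hf a, hf b, hab]
  have h1 := Nat.card_le_card_of_injective f hinj
  rw [Nat.card_fun, Nat.card_zmod, Nat.card_fin] at h1
  exact h1

end emb

/-- In a group isomorphic to `Qd(p)`, the centre of the Thompson subgroup of a Sylow
`p`-subgroup does not control strong fusion. -/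
theorem not_control_of_emb {p : ℕ} [Fact p.Prime] {Y : Type u} [Group Y] [Finite Y]
    (E : Y →* Matrix.SpecialLinearGroup (Fin 3) (ZMod p)) (hE : Function.Injective E)
    (hsurj : ∀ (A : Dk.SL2 (ZMod p)) (t : Fin 2 → ZMod p), ∃ y, E y = aff A t)
    (hrange : ∀ y, ∃ (A : Dk.SL2 (ZMod p)) (t : Fin 2 → ZMod p), E y = aff A t)
    (T : Sylow p Y) :
    ¬ Cfsg.ControlsStrongFusion p (Cfsg.centerThompsonAOf (T : Subgroup Y)) := by
  classical
  have hp : p.Prime := Fact.out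
  rintro ⟨T', hWT', hctl⟩
  obtain ⟨V, hV⟩ : ∃ V : Subgroup Y, V = transl E := ⟨_, rfl⟩
  have hVn : V.Normal := by
    rw [hV]; exact ⟨fun y hy g => transl_conj E hrange g y hy⟩
  have hVp : IsPGroup p V := by rw [hV]; exact transl_pgroup E hE
  have hCV : Subgroup.centralizer (V : Set Y) ≤ V := by
    rw [hV]; exact centralizer_transl_le E hE hsurj hrange
  have hVT : V ≤ T := normal_pgroup_le_sylow V hVn hVp T
  have hVT' : V ≤ T' := normal_pgroup_le_sylow V hVn hVp T'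
  obtain ⟨W, hW⟩ : ∃ W : Subgroup Y, W = Cfsg.centerThompsonAOf (T : Subgroup Y) := ⟨_, rfl⟩
  rw [← hW] at hWT' hctl
  have hTW : (T : Subgroup Y) ≤ Subgroup.normalizer (W : Set Y) := by
    rw [hW]; exact Subgroup.le_normalizer.trans (normalizer_le_normalizer_centerThompsonAOf _)
  have hWall : ∀ g : Y, g ∈ Subgroup.normalizer (W : Set Y) := by
    intro g
    obtain ⟨-, h2⟩ := hctl (V : Set Y) (fun x hx => hVT' hx)
    obtain ⟨x, hx, hxa⟩ := h2 g (by
      rintro _ ⟨a, ha, rfl⟩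
      exact hVT' (hVn.conj_mem a ha g))
    have hc : x⁻¹ * g ∈ Subgroup.centralizer (V : Set Y) := by
      rw [Subgroup.mem_centralizer_iff]
      intro a ha
      have h3 := hxa a ha
      calc a * (x⁻¹ * g) = x⁻¹ * (x * a * x⁻¹) * g := by group
        _ = x⁻¹ * (g * a * g⁻¹) * g := by rw [h3]
        _ = x⁻¹ * g * a := by group
    have h4 : x⁻¹ * g ∈ Subgroup.normalizer (W : Set Y) := hTW (hVT (hCV hc))
    have h5 : g = x * (x⁻¹ * g) := by group
    rw [h5]; exact Subgroup.mul_mem _ hx h4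
  have hWn : ∀ g : Y, ∀ w ∈ W, g * w * g⁻¹ ∈ W := fun g w hw =>
    (Subgroup.mem_normalizer_iff.mp (hWall g) w).mp hw
  obtain ⟨z₀, hz₀⟩ := hsurj 1 ![1, 0]
  have hz₀V : z₀ ∈ V := by rw [hV]; exact ⟨_, hz₀⟩
  have hz₀1 : z₀ ≠ 1 := by
    intro h
    rw [h, map_one, ← aff_one] at hz₀
    have h1 := congrFun (aff_inj hz₀).2 0
    simp at h1
  have hVne : V ≠ ⊥ := by
    intro hbot
    rw [hbot, Subgroup.mem_bot] at hz₀V
    exact hz₀1 hz₀V
  have hTne : (T : Subgroup Y) ≠ ⊥ := by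
    intro h
    apply hVne
    rw [eq_bot_iff, ← h]
    exact hVT
  have hWne : W ≠ ⊥ := by
    rw [hW]; exact centerThompsonAOf_ne_bot _ T.isPGroup' hTne
  have hUne : W ⊓ V ≠ ⊥ := by
    intro hbot
    apply hWne
    rw [eq_bot_iff]
    intro w hw
    have hwc : w ∈ Subgroup.centralizer (V : Set Y) := by
      rw [Subgroup.mem_centralizer_iff]
      intro v hv
      have h1 : w * v * w⁻¹ * v⁻¹ ∈ W ⊓ V := by
        refine ⟨?_, ?_⟩
        · have e : w * v * w⁻¹ * v⁻¹ = w * (v * w⁻¹ * v⁻¹) := by group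
          rw [e]; exact W.mul_mem hw (hWn v _ (W.inv_mem hw))
        · exact V.mul_mem (hVn.conj_mem v hv w) (V.inv_mem hv)
      rw [hbot, Subgroup.mem_bot] at h1
      calc v * w = (w * v * w⁻¹ * v⁻¹)⁻¹ * (w * v) := by group
        _ = w * v := by rw [h1, inv_one, one_mul]
    have h2 : w ∈ W ⊓ V := ⟨hw, hCV hwc⟩
    rw [hbot] at h2; exact h2
  have hVW : V ≤ W := by
    have h1 : transl E ≤ W ⊓ V := transl_irred E hE hsurj (W ⊓ V)
      (by rw [hV]; exact inf_le_right)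
      (fun g y hy => ⟨hWn g y hy.1, hVn.conj_mem y hy.2 g⟩) hUne
    rw [hV]; exact h1.trans inf_le_left
  have hWeq : W = sInf (zjFam (fun A : Subgroup Y => IsMulCommutative ↥A) (T : Subgroup Y)) := by
    rw [hW]; exact centerThompsonAOf_eq _
  obtain ⟨A₀, hA₀⟩ := zjFam_nonempty (zjgood_ab (G := Y)) (T : Subgroup Y)
  have hVA₀ : V ≤ A₀ := hVW.trans (by rw [hWeq]; exact sInf_le hA₀)
  have hA₀V : A₀ ≤ V := by
    intro a ha
    apply hCV
    rw [Subgroup.mem_centralizer_iff]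
    intro v hv
    exact zjgood_ab.comm A₀ hA₀.2.1 v (hVA₀ hv) a ha
  have hA₀eq : A₀ = V := le_antisymm hA₀V hVA₀
  have hmax : ∀ A' : Subgroup Y, A' ≤ T → IsMulCommutative ↥A' → Nat.card A' ≤ Nat.card V := by
    intro A' h1 h2
    rw [← hA₀eq]; exact hA₀.2.2 A' h1 h2
  obtain ⟨gU, hgU⟩ := hsurj (Dk.uu 1) 0
  have hgUp : gU ^ p = 1 := by
    apply hE
    rw [map_pow, hgU, aff_pow_zero, Dk.unip_pow_char p _ (Dk.tr_uu 1), aff_one, map_one]
  have hgUV : ∀ c : Y, c * gU * c⁻¹ ∉ V := by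
    intro c hc
    have h1 : gU ∈ V := by
      have h2 := hVn.conj_mem _ hc c⁻¹
      have e : c⁻¹ * (c * gU * c⁻¹) * c⁻¹⁻¹ = gU := by group
      rwa [e] at h2
    rw [hV] at h1
    obtain ⟨t, ht⟩ := h1
    rw [hgU] at ht
    have h2 := congrArg Dk.eb (aff_inj ht).1
    simp at h2
  obtain ⟨c, hc⟩ : ∃ c : Y, c * gU * c⁻¹ ∈ (T : Subgroup Y) := by
    have hP : IsPGroup p (Subgroup.zpowers gU) := by
      rintro ⟨g, hg⟩
      obtain ⟨i, rfl⟩ := Subgroup.mem_zpowers_iff.mp hg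
      refine ⟨1, Subtype.ext ?_⟩
      rw [Subgroup.coe_pow, Subgroup.coe_one]
      show (gU ^ i) ^ (p ^ 1) = 1
      rw [pow_one, ← zpow_natCast, ← zpow_mul, mul_comm, zpow_mul, zpow_natCast, hgUp, one_zpow]
    obtain ⟨Q, hQ⟩ := hP.exists_le_sylow
    obtain ⟨c, hc⟩ := MulAction.exists_smul_eq Y Q T
    refine ⟨c, ?_⟩
    have h1 : gU ∈ (Q : Subgroup Y) := hQ (Subgroup.mem_zpowers gU)
    have h2 : c * gU * c⁻¹ ∈ ((c • Q : Sylow p Y) : Subgroup Y) := by
      rw [Sylow.coe_subgroup_smul]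
      exact Subgroup.smul_mem_pointwise_smul _ (MulAut.conj c) _ h1
    rw [hc] at h2
    exact h2
  have hz₀c : z₀ * gU = gU * z₀ := by
    apply hE
    rw [map_mul, map_mul, hz₀, hgU, aff_mul, aff_mul]
    congr 1
    · rw [one_mul, mul_one]
    · funext i
      fin_cases i <;> simp [Dk.uu, Dk.mk4, Matrix.mulVec, dotProduct, Fin.sum_univ_two]
  have hz₀p : z₀ ^ p = 1 := by
    apply hE
    rw [map_pow, hz₀, aff_pow_one, map_one]
    have h0 : (p • ![1, 0] : Fin 2 → ZMod p) = 0 := by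
      ext i; simp
    rw [h0, aff_one]
  obtain ⟨z, hz⟩ : ∃ z : Y, z = c * z₀ * c⁻¹ := ⟨_, rfl⟩
  obtain ⟨u', hu'⟩ : ∃ u' : Y, u' = c * gU * c⁻¹ := ⟨_, rfl⟩
  have hzV : z ∈ V := by rw [hz]; exact hVn.conj_mem z₀ hz₀V c
  have hz1 : z ≠ 1 := by
    rw [hz]
    intro h
    exact hz₀1 (conj_eq_one_iff.mp h)
  have hzu : z * u' = u' * z := by
    rw [hz, hu']
    calc c * z₀ * c⁻¹ * (c * gU * c⁻¹) = c * (z₀ * gU) * c⁻¹ := by group
      _ = c * (gU * z₀) * c⁻¹ := by rw [hz₀c]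
      _ = c * gU * c⁻¹ * (c * z₀ * c⁻¹) := by group
  have hzp : z ^ p = 1 := by
    rw [hz, conj_pow, hz₀p, mul_one, mul_inv_cancel]
  obtain ⟨A₂, hA₂⟩ : ∃ A₂ : Subgroup Y, A₂ = Subgroup.closure {z, u'} := ⟨_, rfl⟩
  have hzA₂ : z ∈ A₂ := by rw [hA₂]; exact Subgroup.subset_closure (by simp)
  have hu'A₂ : u' ∈ A₂ := by rw [hA₂]; exact Subgroup.subset_closure (by simp)
  have hu'T : u' ∈ (T : Subgroup Y) := by rw [hu']; exact hc
  have hA₂T : A₂ ≤ T := by
    rw [hA₂, Subgroup.closure_le]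
    intro x hx
    rcases hx with rfl | hx
    · exact hVT hzV
    · rw [Set.mem_singleton_iff] at hx
      rw [hx]; exact hu'T
  have hA₂c : IsMulCommutative ↥A₂ := by
    rw [hA₂]
    apply Subgroup.isMulCommutative_closure
    intro x hx y hy
    rcases hx with rfl | hx <;> rcases hy with rfl | hy
    · rfl
    · rw [Set.mem_singleton_iff] at hy; rw [hy]; exact hzu
    · rw [Set.mem_singleton_iff] at hx; rw [hx]; exact hzu.symm
    · rw [Set.mem_singleton_iff] at hx hy; rw [hx, hy]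
  have hu'V : u' ∉ V := by rw [hu']; exact hgUV c
  have hcard2 : p ^ 2 ≤ Nat.card A₂ := by
    obtain ⟨k, hk⟩ := IsPGroup.iff_card.mp (T.isPGroup'.to_le hA₂T)
    rw [hk]
    apply Nat.pow_le_pow_right hp.pos
    by_contra hk2
    push Not at hk2
    have hoz : orderOf z = p := orderOf_eq_prime hzp hz1
    have hZle : Subgroup.zpowers z ≤ A₂ := Subgroup.zpowers_le.mpr hzA₂
    have hcz : Nat.card (Subgroup.zpowers z) = p := by rw [Nat.card_zpowers, hoz]
    have h1 : Nat.card A₂ ≤ Nat.card (Subgroup.zpowers z) := by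
      rw [hk, hcz]
      calc p ^ k ≤ p ^ 1 := Nat.pow_le_pow_right hp.pos (by omega)
        _ = p := pow_one p
    have heq := Subgroup.eq_of_le_of_card_ge hZle h1
    apply hu'V
    have h2 : u' ∈ Subgroup.zpowers z := by rw [heq]; exact hu'A₂
    exact (Subgroup.zpowers_le.mpr hzV) h2
  have hcardV : Nat.card V ≤ p ^ 2 := by rw [hV]; exact card_transl_le E hE
  have hcardA₂ : Nat.card A₂ ≤ Nat.card V := hmax A₂ hA₂T hA₂c
  have hA₂fam : A₂ ∈ zjFam (fun A : Subgroup Y => IsMulCommutative ↥A) (T : Subgroup Y) :=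
    ⟨hA₂T, hA₂c, fun A' h1 h2 => (hmax A' h1 h2).trans (by omega)⟩
  have hVA₂ : V ≤ A₂ := hVW.trans (by rw [hWeq]; exact sInf_le hA₂fam)
  have heq := Subgroup.eq_of_le_of_card_ge hVA₂ hcardA₂
  exact hu'V (by rw [heq]; exact hu'A₂)

/-- The functor `Z(J(·))` (abelian version) on groups. -/
noncomputable def zjW : ∀ (Q : Type u) [Group Q], Subgroup Q :=
  fun Q _ => Cfsg.centerThompsonAOf (⊤ : Subgroup Q)

theorem induced_zjW {Y : Type u} [Group Y] [Finite Y] (T : Subgroup Y) :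
    Cfsg.inducedFunctor zjW T = Cfsg.centerThompsonAOf T := by
  unfold Cfsg.inducedFunctor zjW
  rw [← centerThompsonAOf_map T.subtype T.subtype_injective (⊤ : Subgroup ↥T), top_map_subtype]

theorem zjW_char (p : ℕ) [Fact p.Prime] : Cfsg.IsCharPFunctor.{u} p zjW := by
  refine ⟨?_, ?_⟩
  · intro Q _ _ hQ hnt
    apply centerThompsonAOf_ne_bot (⊤ : Subgroup Q) (hQ.to_subgroup ⊤)
    intro h
    obtain ⟨x, hx⟩ := exists_ne (1 : Q)
    have h1 : x ∈ (⊤ : Subgroup Q) := Subgroup.mem_top x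
    rw [h, Subgroup.mem_bot] at h1
    exact hx h1
  · intro Q R _ _ _ hQ φ
    haveI : Finite R := Finite.of_equiv Q φ.toEquiv
    show (Cfsg.centerThompsonAOf (⊤ : Subgroup Q)).map φ.toMonoidHom =
      Cfsg.centerThompsonAOf (⊤ : Subgroup R)
    rw [← centerThompsonAOf_map φ.toMonoidHom φ.injective ⊤,
      Subgroup.map_top_of_surjective _ φ.surjective]

/-- In a `Qd(p)`-free group (`p` odd), `N(Z(J(S)))` controls strong fusion in the Sylow
`p`-subgroup `S`. -/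
theorem zj_strong_fusion_of_qd_free {p : ℕ} [Fact p.Prime] (hp : p ≠ 2) {X : Type u} [Group X]
    [Finite X] (hfree : ¬ Cfsg.Involves ↥(Cfsg.qd p) X)
    (S₁ : Sylow p X) (A : Set X) (g : X) (hA : A ⊆ (S₁ : Subgroup X))
    (hgA : ∀ a ∈ A, g * a * g⁻¹ ∈ (S₁ : Subgroup X)) :
    ∃ c ∈ Subgroup.normalizer ((Cfsg.centerThompsonAOf (S₁ : Subgroup X) : Subgroup X) : Set X),
      ∀ a ∈ A, c * a * c⁻¹ = g * a * g⁻¹ := by
  have h𝓦 : ∀ W' ∈ ({zjW} : Set (∀ (Q : Type u) [Group Q], Subgroup Q)),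
      Cfsg.IsCharPFunctor.{u} p W' := by
    intro W' hW'
    rw [Set.mem_singleton_iff] at hW'
    rw [hW']; exact zjW_char p
  have hloc : ∀ (K R : Subgroup X) [hR : (R.subgroupOf K).Normal],
      Subgroup.centralizer ((pCore p (↥K ⧸ R.subgroupOf K) : Subgroup (↥K ⧸ R.subgroupOf K)) :
        Set (↥K ⧸ R.subgroupOf K)) ≤ pCore p (↥K ⧸ R.subgroupOf K) →
      ∀ T : Sylow p (↥K ⧸ R.subgroupOf K),
        (Cfsg.inducedFunctor (G := (↥K ⧸ R.subgroupOf K)) zjW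
          ((T : Subgroup (↥K ⧸ R.subgroupOf K)))).Normal := by
    intro K R hR hC T
    rw [induced_zjW]
    have hst : Cfsg.IsNormalizerPStable p (↥K ⧸ R.subgroupOf K) := by
      apply normalizerPStable_of_qd_free hp
      intro hinv
      exact hfree (inv_trans hinv ⟨K, R, hR, ⟨MulEquiv.refl _⟩⟩)
    exact zj_normal_ab hp T (T : Subgroup (↥K ⧸ R.subgroupOf K)) ⟨le_rfl, fun x hx g hg => hg⟩
      (zstab_of_normalizerPStable hst) hC
  have hcon : ∀ (K R : Subgroup X) [hR : (R.subgroupOf K).Normal],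
      Subgroup.centralizer ((pCore p (↥K ⧸ R.subgroupOf K) : Subgroup (↥K ⧸ R.subgroupOf K)) :
        Set (↥K ⧸ R.subgroupOf K)) ≤ pCore p (↥K ⧸ R.subgroupOf K) →
      FamilyControlsStrongFusionIn p
        ((fun W => inducedFunctor (G := ↥K ⧸ R.subgroupOf K) W) ''
          ({zjW} : Set (∀ (Q : Type u) [Group Q], Subgroup Q))) ⊤ := by
    intro K₁ R₁ hR₁ hC
    obtain ⟨S⟩ : Nonempty (Sylow p (↥K₁ ⧸ R₁.subgroupOf K₁)) := inferInstance
    apply control_of_chainGood _ S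
    intro A g hA hgA
    refine ChainGood.single ⟨zjW, rfl, ?_⟩ hA hgA
    have hn := hloc K₁ R₁ hC S
    rw [Subgroup.normalizer_eq_top_iff.mpr hn]
    exact Subgroup.mem_top _
  have hc := strong_fusion_sections ({zjW} : Set (∀ (Q : Type u) [Group Q], Subgroup Q)) h𝓦 hcon
  have hX := sf_control_of_top_bot ({zjW} : Set (∀ (Q : Type u) [Group Q], Subgroup Q)) h𝓦
    (fun K R hR => hc _ K R rfl)
  obtain ⟨c, hch, hca⟩ := chainGood_of_control _ h𝓦 S₁ ⊤ le_top hX A g (Subgroup.mem_top _) hA hgA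
  refine ⟨c, Cfsg.Agent.S1969.fchain_mem_subgroup _ ?_ hch, hca⟩
  rintro z ⟨W', hW', hz⟩
  rw [Set.mem_singleton_iff] at hW'
  rw [hW', induced_zjW] at hz
  exact hz

end Cfsg.Agent.Lib.helper15.Qd
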