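import Mathlib
import Cfsg.Agent.Lib.helper15.QdZJ

/-!
# Strong fusion and strongly closed subgroups (seat helper15)

For a functor `W` which is normal in `p`-stable `p`-constrained groups when applied to a
strongly closed subgroup `D` of a Sylow `p`-subgroup, the normalizer of `W(D)` controls strong
fusion in every `Qd(p)`-free group.
-/

set_option autoImplicit false
set_option linter.style.haveILetI false
set_option linter.unusedVariables false

namespace Cfsg.Agent.Lib.helper15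

open Subgroup Cfsg.Agent.Lib.helper10

universe u

/-- The statement: the normalizer of `W(D)` controls strong fusion, `D` strongly closed. -/
def SCStmt (p : ℕ) (W : helper1.PFun.{u} p) (G : Type u) [Group G] : Prop :=
  ∀ (P : Sylow p G) (D : Subgroup G), Cfsg.IsStronglyClosed D (P : Subgroup G) →
    ∀ (A : Set G) (g : G), A ⊆ ((P : Subgroup G) : Set G) →
      (∀ a ∈ A, g * a * g⁻¹ ∈ (P : Subgroup G)) →
      ∃ n ∈ normalizer ((W.W G D : Subgroup G) : Set G), ∀ a ∈ A, n * a * n⁻¹ = g * a * g⁻¹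

theorem ctl_sub {G : Type u} [Group G] [Finite G] {p : ℕ} [Fact p.Prime]
    (W : helper1.PFun.{u} p)
    (P : Sylow p G) (D : Subgroup G) (hD : Cfsg.IsStronglyClosed D (P : Subgroup G))
    (M : Subgroup G) (hPM : (P : Subgroup G) ≤ M) (hM : SCStmt p W ↥M)
    (A : Set G) (g : G) (hg : g ∈ M) (hA : A ⊆ ((P : Subgroup G) : Set G))
    (hgA : ∀ a ∈ A, g * a * g⁻¹ ∈ (P : Subgroup G)) :
    ∃ n ∈ normalizer ((W.W G D : Subgroup G) : Set G), ∀ a ∈ A, n * a * n⁻¹ = g * a * g⁻¹ := by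
  have hsc : Cfsg.IsStronglyClosed (D.subgroupOf M) ((P.subtype hPM : Sylow p M) : Subgroup M) :=
    sc_restrict P hD M (P.subtype hPM) (by
      rw [Sylow.coe_subtype, Subgroup.map_subgroupOf_eq_of_le hPM])
  obtain ⟨n', hn', hna⟩ := hM (P.subtype hPM) (D.subgroupOf M) hsc (Subtype.val ⁻¹' A) ⟨g, hg⟩
    (fun a ha => by
      rw [SetLike.mem_coe, Sylow.coe_subtype, Subgroup.mem_subgroupOf]
      exact hA ha)
    (fun a ha => by
      rw [Sylow.coe_subtype, Subgroup.mem_subgroupOf]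
      exact hgA (a : G) ha)
  have hmap : W.W G D = (W.W ↥M (D.subgroupOf M)).map M.subtype := by
    have h1 := W.map ↥M G M.subtype (D.subgroupOf M)
      (helper1.inf_ker_eq_bot_of_injective _ M.subtype_injective _)
    rw [Subgroup.map_subgroupOf_eq_of_le (hD.1.trans hPM)] at h1
    exact h1
  refine ⟨(n' : G), ?_, ?_⟩
  · rw [hmap]
    exact Subgroup.le_normalizer_map M.subtype ⟨n', hn', rfl⟩
  · intro a ha
    have haM : a ∈ M := hPM (hA ha)
    have h1 := hna ⟨a, haM⟩ ha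
    exact congrArg Subtype.val h1

theorem ctl_quot {G : Type u} [Group G] [Finite G] {p : ℕ} [Fact p.Prime]
    (W : helper1.PFun.{u} p)
    (P : Sylow p G) (D : Subgroup G) (hD : Cfsg.IsStronglyClosed D (P : Subgroup G))
    (N : Subgroup G) [N.Normal] (hQ : SCStmt p W (G ⧸ N))
    (A : Set G) (g : G) (hA : A ⊆ ((P : Subgroup G) : Set G))
    (hgA : ∀ a ∈ A, g * a * g⁻¹ ∈ (P : Subgroup G)) :
    ∃ n : G, QuotientGroup.mk' N n ∈ normalizer
        ((W.W (G ⧸ N) (D.map (QuotientGroup.mk' N)) : Subgroup (G ⧸ N)) : Set (G ⧸ N)) ∧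
      ∀ a ∈ A, QuotientGroup.mk' N (n * a * n⁻¹) = QuotientGroup.mk' N (g * a * g⁻¹) := by
  obtain ⟨Sb, hSb⟩ := exists_sylow_map P N
  have hsc : Cfsg.IsStronglyClosed (D.map (QuotientGroup.mk' N)) (Sb : Subgroup (G ⧸ N)) := by
    rw [hSb]; exact sc_quot_coprime P hD N
  obtain ⟨nb, hnb, hnba⟩ := hQ Sb (D.map (QuotientGroup.mk' N)) hsc
    ((QuotientGroup.mk' N) '' A) (QuotientGroup.mk' N g)
    (by
      rintro _ ⟨a, ha, rfl⟩
      rw [SetLike.mem_coe, hSb]
      exact Subgroup.mem_map_of_mem _ (hA ha))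
    (by
      rintro _ ⟨a, ha, rfl⟩
      rw [hSb, ← map_inv, ← map_mul, ← map_mul]
      exact Subgroup.mem_map_of_mem _ (hgA a ha))
  obtain ⟨n, rfl⟩ := QuotientGroup.mk'_surjective N nb
  refine ⟨n, hnb, fun a ha => ?_⟩
  have h1 := hnba _ ⟨a, ha, rfl⟩
  rw [map_mul, map_mul, map_inv, h1, map_mul, map_mul, map_inv]

theorem ctl_pprime {G : Type u} [Group G] [Finite G] {p : ℕ} [Fact p.Prime]
    (P : Sylow p G) (N : Subgroup G) [N.Normal] (hN : (Nat.card N).Coprime p)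
    (W₀ : Subgroup G) (hW₀ : IsPGroup p W₀)
    (hPW : (P : Subgroup G) ≤ normalizer (W₀ : Set G))
    (A : Set G) (g : G) (hA : A ⊆ ((P : Subgroup G) : Set G))
    (hgA : ∀ a ∈ A, g * a * g⁻¹ ∈ (P : Subgroup G))
    (n₀ : G) (hn₀ : QuotientGroup.mk' N n₀ ∈ normalizer
        ((W₀.map (QuotientGroup.mk' N) : Subgroup (G ⧸ N)) : Set (G ⧸ N)))
    (hn₀a : ∀ a ∈ A, QuotientGroup.mk' N (n₀ * a * n₀⁻¹) = QuotientGroup.mk' N (g * a * g⁻¹)) :
    ∃ n ∈ normalizer (W₀ : Set G), ∀ a ∈ A, n * a * n⁻¹ = g * a * g⁻¹ := by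
  classical
  have hp : p.Prime := Fact.out
  have hPN : (P : Subgroup G) ⊓ N = ⊥ := by
    apply Subgroup.inf_eq_bot_of_coprime
    obtain ⟨k, hk⟩ := IsPGroup.iff_card.mp P.2
    rw [hk]
    exact Nat.Coprime.pow_left k hN.symm
  obtain ⟨n₁, hn₁, hn₁e⟩ := normalizer_map_le_of_coprime N hN W₀ hW₀ hn₀
  have h4 : ∀ a ∈ A, QuotientGroup.mk' N (n₁ * a * n₁⁻¹) = QuotientGroup.mk' N (g * a * g⁻¹) := by
    intro a ha
    rw [← hn₀a a ha, map_mul, map_mul, map_inv, hn₁e, map_mul, map_mul, map_inv]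
  obtain ⟨B, hBdef⟩ : ∃ B : Subgroup G, B = Subgroup.closure A := ⟨_, rfl⟩
  have hBP : B ≤ (P : Subgroup G) := by rw [hBdef]; exact (Subgroup.closure_le _).2 hA
  have hAB : A ⊆ (B : Set G) := by rw [hBdef]; exact Subgroup.subset_closure
  have hgB : ∀ b ∈ B, g * b * g⁻¹ ∈ (P : Subgroup G) := by
    rw [← map_conj_le_iff, hBdef, MonoidHom.map_closure, Subgroup.closure_le]
    rintro _ ⟨a, ha, rfl⟩; exact hgA a ha
  have h4B : ∀ b ∈ B,
      QuotientGroup.mk' N (n₁ * b * n₁⁻¹) = QuotientGroup.mk' N (g * b * g⁻¹) := by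
    have hle : B ≤ MonoidHom.eqLocus ((QuotientGroup.mk' N).comp (MulAut.conj n₁).toMonoidHom)
        ((QuotientGroup.mk' N).comp (MulAut.conj g).toMonoidHom) := by
      rw [hBdef, Subgroup.closure_le]
      intro a ha
      exact h4 a ha
    intro b hb
    exact hle hb
  obtain ⟨X₀, hX₀⟩ : ∃ X₀ : Subgroup G,
      X₀ = normalizer (W₀ : Set G) ⊓ ((P : Subgroup G) ⊔ N) := ⟨_, rfl⟩
  obtain ⟨B', hB'def⟩ : ∃ B' : Subgroup G, B' = B.map (MulAut.conj n₁).toMonoidHom := ⟨_, rfl⟩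
  have hB'X : B' ≤ X₀ := by
    rw [hB'def, map_conj_le_iff, hX₀]
    intro b hb
    refine ⟨Subgroup.mul_mem _ (Subgroup.mul_mem _ hn₁ (hPW (hBP hb)))
      (Subgroup.inv_mem _ hn₁), ?_⟩
    have h5 : QuotientGroup.mk' N (n₁ * b * n₁⁻¹) ∈
        (P : Subgroup G).map (QuotientGroup.mk' N) := by
      rw [h4B b hb]; exact Subgroup.mem_map_of_mem _ (hgB b hb)
    have h6 : n₁ * b * n₁⁻¹ ∈
        ((P : Subgroup G).map (QuotientGroup.mk' N)).comap (QuotientGroup.mk' N) := h5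
    rwa [Subgroup.comap_map_eq, QuotientGroup.ker_mk'] at h6
  have hB'p : IsPGroup p B' := by rw [hB'def]; exact (P.2.to_le hBP).map _
  obtain ⟨x, hxX, hx⟩ := Cfsg.Agent.Lib.helper16.exists_conj_mem_sylow X₀ P
    (by rw [hX₀]; exact le_inf hPW le_sup_left) B' hB'X hB'p
  rw [hX₀] at hxX
  obtain ⟨s, hs, m, hm, hsm⟩ := Subgroup.mem_sup_of_normal_right.1 hxX.2
  refine ⟨s⁻¹ * x * n₁, ?_, ?_⟩
  · exact Subgroup.mul_mem _ (Subgroup.mul_mem _ (Subgroup.inv_mem _ (hPW hs)) hxX.1) hn₁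
  · intro a ha
    have haB := hAB ha
    have h7 : x * (n₁ * a * n₁⁻¹) * x⁻¹ ∈ (P : Subgroup G) :=
      hx _ (by rw [hB'def]; exact conj_mem_map_conj B n₁ a haB)
    have h8 : s⁻¹ * x * n₁ * a * (s⁻¹ * x * n₁)⁻¹ ∈ (P : Subgroup G) := by
      have e : s⁻¹ * x * n₁ * a * (s⁻¹ * x * n₁)⁻¹ =
          s⁻¹ * (x * (n₁ * a * n₁⁻¹) * x⁻¹) * s := by group
      rw [e]
      exact Subgroup.mul_mem _ (Subgroup.mul_mem _ (Subgroup.inv_mem _ hs) h7) hs
    have hxs : QuotientGroup.mk' N (s⁻¹ * x) = 1 := by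
      rw [← hsm]
      have e : s⁻¹ * (s * m) = m := by group
      rw [e]; exact (QuotientGroup.eq_one_iff m).2 hm
    have h9 : QuotientGroup.mk' N (s⁻¹ * x * n₁ * a * (s⁻¹ * x * n₁)⁻¹) =
        QuotientGroup.mk' N (g * a * g⁻¹) := by
      rw [← h4 a ha]
      have e : s⁻¹ * x * n₁ * a * (s⁻¹ * x * n₁)⁻¹ =
          (s⁻¹ * x) * (n₁ * a * n₁⁻¹) * (s⁻¹ * x)⁻¹ := by group
      rw [e, map_mul, map_mul, map_inv, hxs]; simp
    have h10 : (s⁻¹ * x * n₁ * a * (s⁻¹ * x * n₁)⁻¹)⁻¹ * (g * a * g⁻¹) ∈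
        (P : Subgroup G) ⊓ N :=
      ⟨Subgroup.mul_mem _ (Subgroup.inv_mem _ h8) (hgA a ha), QuotientGroup.eq.1 h9⟩
    rw [hPN, Subgroup.mem_bot] at h10
    exact inv_mul_eq_one.1 h10

theorem ctl_frattini {G : Type u} [Group G] [Finite G] {p : ℕ} [Fact p.Prime]
    (S : Sylow p G) (NW : Subgroup G) (Q : Subgroup G) [Q.Normal] (hQS : Q ≤ (S : Subgroup G))
    (hH : ∀ (A : Set G) (g : G), g ∈ (S : Subgroup G) ⊔ centralizer (Q : Set G) →
      A ⊆ ((S : Subgroup G) : Set G) → (∀ a ∈ A, g * a * g⁻¹ ∈ (S : Subgroup G)) →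
      ∃ m ∈ NW, ∀ a ∈ A, m * a * m⁻¹ = g * a * g⁻¹)
    (hN : ∀ (A : Set G) (g : G),
      g ∈ normalizer ((((S : Subgroup G) ⊓ (Q ⊔ centralizer (Q : Set G)) : Subgroup G)) : Set G) →
      A ⊆ ((S : Subgroup G) : Set G) → (∀ a ∈ A, g * a * g⁻¹ ∈ (S : Subgroup G)) →
      ∃ m ∈ NW, ∀ a ∈ A, m * a * m⁻¹ = g * a * g⁻¹)
    (A : Set G) (g : G) (hA : A ⊆ ((S : Subgroup G) : Set G))
    (hgA : ∀ a ∈ A, g * a * g⁻¹ ∈ (S : Subgroup G)) :
    ∃ m ∈ NW, ∀ a ∈ A, m * a * m⁻¹ = g * a * g⁻¹ := by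
  classical
  obtain ⟨C, hCdef⟩ : ∃ C : Subgroup G, C = centralizer (Q : Set G) := ⟨_, rfl⟩
  rw [← hCdef] at hH hN
  have hCn : C.Normal := by rw [hCdef]; infer_instance
  obtain ⟨L, hLdef⟩ : ∃ L : Subgroup G, L = Q ⊔ C := ⟨_, rfl⟩
  rw [← hLdef] at hN
  have hLn : L.Normal := by rw [hLdef]; infer_instance
  obtain ⟨R₀, hR₀def⟩ : ∃ R₀ : Subgroup G, R₀ = (S : Subgroup G) ⊓ L := ⟨_, rfl⟩
  rw [← hR₀def] at hN
  have hQR : Q ≤ R₀ := by rw [hR₀def, hLdef]; exact le_inf hQS le_sup_left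
  obtain ⟨n, -, l, hl, hgnl, hnN⟩ := Cfsg.Agent.Lib.helper10.frattini_inf (N := ⊤) (C := L) (Q := (S : Subgroup G)) le_top
    (fun n _ c hc => hLn.conj_mem c hc n) S.2
    (by rw [Subgroup.relIndex_top_right]; exact S.not_dvd_index) g (Subgroup.mem_top g)
  rw [← hR₀def] at hnN
  rw [hLdef] at hl
  obtain ⟨q, hq, c', hc', hqc⟩ := Subgroup.mem_sup_of_normal_right.1 hl
  obtain ⟨n', hn'def⟩ : ∃ n' : G, n' = n * q := ⟨_, rfl⟩
  have hn'N : n' ∈ normalizer (R₀ : Set G) := by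
    rw [hn'def]; exact Subgroup.mul_mem _ hnN (Subgroup.le_normalizer (hQR hq))
  have hg : g = n' * c' := by rw [hgnl, hn'def, ← hqc]; group
  obtain ⟨B, hBdef⟩ : ∃ B : Subgroup G, B = Subgroup.closure A := ⟨_, rfl⟩
  have hBS : B ≤ (S : Subgroup G) := by rw [hBdef]; exact (Subgroup.closure_le _).2 hA
  have hAB : A ⊆ (B : Set G) := by rw [hBdef]; exact Subgroup.subset_closure
  have hgB : ∀ b ∈ B, g * b * g⁻¹ ∈ (S : Subgroup G) := by
    rw [← map_conj_le_iff, hBdef, MonoidHom.map_closure, Subgroup.closure_le]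
    rintro _ ⟨a, ha, rfl⟩; exact hgA a ha
  obtain ⟨S', hS'def⟩ : ∃ S' : Subgroup G,
      S' = (S : Subgroup G).map (MulAut.conj n'⁻¹).toMonoidHom := ⟨_, rfl⟩
  have hS'p : IsPGroup p S' := by rw [hS'def]; exact S.2.map _
  obtain ⟨B₂, hB₂def⟩ : ∃ B₂ : Subgroup G, B₂ = B.map (MulAut.conj c').toMonoidHom := ⟨_, rfl⟩
  have hB₂S' : B₂ ≤ S' := by
    rw [hB₂def, map_conj_le_iff]
    intro b hb
    rw [hS'def, mem_map_conj]
    have e : n'⁻¹⁻¹ * (c' * b * c'⁻¹) * n'⁻¹ = g * b * g⁻¹ := by rw [hg]; group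
    rw [e]; exact hgB b hb
  have hR₀S' : R₀ ≤ S' := by
    intro r hr
    rw [hS'def, mem_map_conj]
    have h1 : n' * r * n'⁻¹ ∈ R₀ := (Subgroup.mem_normalizer_iff.1 hn'N r).1 hr
    have e : n'⁻¹⁻¹ * r * n'⁻¹ = n' * r * n'⁻¹ := by group
    rw [e]
    rw [hR₀def] at h1
    exact h1.1
  obtain ⟨H, hHdef⟩ : ∃ H : Subgroup G, H = (S : Subgroup G) ⊔ C := ⟨_, rfl⟩
  rw [← hHdef] at hH
  obtain ⟨P₂, hP₂def⟩ : ∃ P₂ : Subgroup G, P₂ = B₂ ⊔ R₀ := ⟨_, rfl⟩
  have hP₂p : IsPGroup p P₂ := hS'p.to_le (by rw [hP₂def]; exact sup_le hB₂S' hR₀S')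
  have hc'H : c' ∈ H := by rw [hHdef]; exact Subgroup.mem_sup_right hc'
  have hP₂H : P₂ ≤ H := by
    rw [hP₂def]
    apply sup_le
    · rw [hB₂def, map_conj_le_iff]
      intro b hb
      have hbH : b ∈ H := by rw [hHdef]; exact Subgroup.mem_sup_left (hBS hb)
      exact Subgroup.mul_mem _ (Subgroup.mul_mem _ hc'H hbH) (Subgroup.inv_mem _ hc'H)
    · rw [hR₀def, hHdef]; exact inf_le_left.trans le_sup_left
  obtain ⟨h, hhH, hh⟩ := Cfsg.Agent.Lib.helper16.exists_conj_mem_sylow H S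
    (by rw [hHdef]; exact le_sup_left) P₂ hP₂H hP₂p
  have hhN : h ∈ normalizer (R₀ : Set G) := by
    apply mem_normalizer_of_conj_mem
    intro r hr
    have hrL : r ∈ L := by rw [hR₀def] at hr; exact hr.2
    rw [hR₀def]
    refine ⟨hh r (by rw [hP₂def]; exact Subgroup.mem_sup_right hr), ?_⟩
    exact hLn.conj_mem r hrL h
  have hg₁A : ∀ a ∈ A, (h * c') * a * (h * c')⁻¹ ∈ (S : Subgroup G) := by
    intro a ha
    have e : (h * c') * a * (h * c')⁻¹ = h * (c' * a * c'⁻¹) * h⁻¹ := by group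
    rw [e]
    apply hh
    rw [hP₂def]; apply Subgroup.mem_sup_left
    rw [hB₂def]; exact conj_mem_map_conj B c' a (hAB ha)
  obtain ⟨m₁, hm₁, hm₁a⟩ := hH A (h * c') (Subgroup.mul_mem _ hhH hc'H) hA hg₁A
  obtain ⟨m₂, hm₂, hm₂a⟩ := hN ((fun a => (h * c') * a * (h * c')⁻¹) '' A) (n' * h⁻¹)
    (Subgroup.mul_mem _ hn'N (Subgroup.inv_mem _ hhN))
    (by rintro _ ⟨a, ha, rfl⟩; exact hg₁A a ha)
    (by
      rintro _ ⟨a, ha, rfl⟩
      have e : n' * h⁻¹ * ((h * c') * a * (h * c')⁻¹) * (n' * h⁻¹)⁻¹ = g * a * g⁻¹ := by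
        rw [hg]; group
      rw [e]; exact hgA a ha)
  refine ⟨m₂ * m₁, Subgroup.mul_mem _ hm₂ hm₁, fun a ha => ?_⟩
  have h1 := hm₁a a ha
  have h2 := hm₂a _ ⟨a, ha, rfl⟩
  calc m₂ * m₁ * a * (m₂ * m₁)⁻¹ = m₂ * (m₁ * a * m₁⁻¹) * m₂⁻¹ := by group
    _ = m₂ * ((h * c') * a * (h * c')⁻¹) * m₂⁻¹ := by rw [h1]
    _ = n' * h⁻¹ * ((h * c') * a * (h * c')⁻¹) * (n' * h⁻¹)⁻¹ := h2
    _ = g * a * g⁻¹ := by rw [hg]; group

theorem ctl_central {G : Type u} [Group G] [Finite G] {p : ℕ} [Fact p.Prime]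
    (S : Sylow p G) (NW : Subgroup G) (hSW : (S : Subgroup G) ≤ NW)
    (hNS : normalizer (((S : Subgroup G)) : Set G) ≤ NW)
    (Q : Subgroup G) [hQn : Q.Normal] (hQp : IsPGroup p Q)
    (hcent : ∀ d : G, (orderOf d).Coprime p → d ∈ centralizer (Q : Set G))
    (Nq : Subgroup G)
    (hquot : ∀ (A : Set G) (g : G), A ⊆ ((S : Subgroup G) : Set G) →
      (∀ a ∈ A, g * a * g⁻¹ ∈ (S : Subgroup G)) →
      ∃ n ∈ Nq, ∀ a ∈ A, QuotientGroup.mk' Q (n * a * n⁻¹) = QuotientGroup.mk' Q (g * a * g⁻¹))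
    (hV : ∀ (A : Set G) (g : G), g ∈ Nq → A ⊆ ((S : Subgroup G) : Set G) →
      (∀ a ∈ A, g * a * g⁻¹ ∈ (S : Subgroup G)) →
      ∃ m ∈ NW, ∀ a ∈ A, m * a * m⁻¹ = g * a * g⁻¹)
    (A : Set G) (g : G) (hA : A ⊆ ((S : Subgroup G) : Set G))
    (hgA : ∀ a ∈ A, g * a * g⁻¹ ∈ (S : Subgroup G)) :
    ∃ m ∈ NW, ∀ a ∈ A, m * a * m⁻¹ = g * a * g⁻¹ := by
  classical
  have hSp : IsPGroup p (S : Subgroup G) := S.2
  have hQS : Q ≤ (S : Subgroup G) := hQp.le_sylow_of_normal S
  -- the normalizer step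
  have hstepN : ∀ (U : Subgroup G), Q ≤ U → U ≤ (S : Subgroup G) →
      ¬ p ∣ (nS (S : Subgroup G) U).relIndex (normalizer (U : Set G)) →
      ∀ n ∈ normalizer (U : Set G), ∃ m ∈ NW, ∀ a ∈ U, m * a * m⁻¹ = n * a * n⁻¹ := by
    intro U hQU hUS hidx n hn
    have hnU : ∀ a ∈ U, n * a * n⁻¹ ∈ U := fun a ha => (Subgroup.mem_normalizer_iff.1 hn a).1 ha
    obtain ⟨g', hg'q, hg'a⟩ := hquot (U : Set G) n hUS (fun a ha => hUS (hnU a ha))
    have hg'U : ∀ a ∈ U, g' * a * g'⁻¹ ∈ U := by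
      intro a ha
      have h1 := hg'a a ha
      have h2 : (n * a * n⁻¹)⁻¹ * (g' * a * g'⁻¹) ∈ Q := QuotientGroup.eq.1 h1.symm
      have e : g' * a * g'⁻¹ = (n * a * n⁻¹) * ((n * a * n⁻¹)⁻¹ * (g' * a * g'⁻¹)) := by group
      rw [e]; exact U.mul_mem (hnU a ha) (hQU h2)
    have hg'N : g' ∈ normalizer (U : Set G) := mem_normalizer_of_conj_mem U g' hg'U
    have hz : n * g'⁻¹ ∈ stabMod U Q := by
      rw [mem_stabMod]
      refine ⟨Subgroup.mul_mem _ hn (Subgroup.inv_mem _ hg'N), ?_⟩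
      intro b hb
      have hb' : g'⁻¹ * b * g' ∈ U := by
        have := (Subgroup.mem_normalizer_iff.1 (Subgroup.inv_mem _ hg'N) b).1 hb
        simpa using this
      have h1 := hg'a _ hb'
      have h2 : (g' * (g'⁻¹ * b * g') * g'⁻¹)⁻¹ * (n * (g'⁻¹ * b * g') * n⁻¹) ∈ Q :=
        QuotientGroup.eq.1 h1
      have e : n * g'⁻¹ * b * (n * g'⁻¹)⁻¹ * b⁻¹ =
          b * ((g' * (g'⁻¹ * b * g') * g'⁻¹)⁻¹ * (n * (g'⁻¹ * b * g') * n⁻¹)) * b⁻¹ := by group
      rw [e]; exact hQn.conj_mem _ h2 b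
    obtain ⟨s, hs, hsz⟩ := stab_sylow S Q hQp hcent U hidx _ hz
    obtain ⟨m₁, hm₁, hm₁a⟩ := hV (U : Set G) g' hg'q hUS (fun a ha => hUS (hg'U a ha))
    refine ⟨s * m₁, Subgroup.mul_mem _ (hSW hs) hm₁, fun a ha => ?_⟩
    have h1 := hsz _ (hg'U a ha)
    calc s * m₁ * a * (s * m₁)⁻¹ = s * (m₁ * a * m₁⁻¹) * s⁻¹ := by group
      _ = s * (g' * a * g'⁻¹) * s⁻¹ := by rw [hm₁a a ha]
      _ = n * g'⁻¹ * (g' * a * g'⁻¹) * (n * g'⁻¹)⁻¹ := h1
      _ = n * a * n⁻¹ := by group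
  -- the top case
  have hQS' : ∀ u : G, (∀ a ∈ (S : Subgroup G), u * a * u⁻¹ ∈ (S : Subgroup G)) →
      ∃ m ∈ NW, ∀ a ∈ (S : Subgroup G), m * a * m⁻¹ = u * a * u⁻¹ := by
    intro u hu
    exact ⟨u, hNS (mem_normalizer_of_conj_mem _ u hu), fun a _ => rfl⟩
  -- the main step
  have step : ∀ (B : Subgroup G), Q ≤ B → B ≤ (S : Subgroup G) →
      (∀ B₁ : Subgroup G, Q ≤ B₁ → B₁ ≤ (S : Subgroup G) → Nat.card B₁ = Nat.card B →
        ∀ u : G, (∀ a ∈ nS (S : Subgroup G) B₁, u * a * u⁻¹ ∈ (S : Subgroup G)) →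
          ∃ m ∈ NW, ∀ a ∈ B₁, m * a * m⁻¹ = u * a * u⁻¹) →
      ∀ g : G, (∀ a ∈ B, g * a * g⁻¹ ∈ (S : Subgroup G)) →
        ∃ m ∈ NW, ∀ a ∈ B, m * a * m⁻¹ = g * a * g⁻¹ := by
    intro B hQB hBS hIH g hg
    obtain ⟨U, u, hU, hUS, hidx, hu⟩ := exists_extremal_conj' S B hBS
    obtain ⟨B', hB'def⟩ : ∃ B' : Subgroup G, B' = B.map (MulAut.conj g).toMonoidHom := ⟨_, rfl⟩
    have hB'S : B' ≤ (S : Subgroup G) := by
      rw [hB'def, map_conj_le_iff]; exact hg
    have hQB' : Q ≤ B' := by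
      intro x hx
      rw [hB'def, mem_map_conj]
      apply hQB
      have := hQn.conj_mem x hx g⁻¹
      simpa using this
    have hcard' : Nat.card B' = Nat.card B := by
      rw [hB'def]; exact Subgroup.card_map_of_injective (conj_injective g)
    have hv0 : B'.map (MulAut.conj (u * g⁻¹)).toMonoidHom = U := by
      rw [hB'def, map_conj_mul]
      have e : u * g⁻¹ * g = u := by group
      rw [e]; exact hU
    obtain ⟨v, hvU, hvN, hv⟩ := exists_conj_normalizer_le S (A := B') (U := U) (u * g⁻¹) hv0 hidx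
    have hQU : Q ≤ U := by
      intro x hx
      rw [← hU, mem_map_conj]
      apply hQB
      have := hQn.conj_mem x hx u⁻¹
      simpa using this
    obtain ⟨mu, hmu, hmua⟩ := hIH B hQB hBS rfl u (fun a ha => (hu a ha).1)
    obtain ⟨mv, hmv, hmva⟩ := hIH B' hQB' hB'S hcard' v (fun a ha => (hv a ha).1)
    obtain ⟨mn, hmn, hmna⟩ := hstepN U hQU hUS hidx _ hvN
    refine ⟨mv⁻¹ * mn * mu,
      Subgroup.mul_mem _ (Subgroup.mul_mem _ (Subgroup.inv_mem _ hmv) hmn) hmu, fun a ha => ?_⟩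
    have h1 := hmua a ha
    have huaU : u * a * u⁻¹ ∈ U := by rw [← hU]; exact conj_mem_map_conj B u a ha
    have h2 := hmna _ huaU
    have hgaB' : g * a * g⁻¹ ∈ B' := by rw [hB'def]; exact conj_mem_map_conj B g a ha
    have h3 := hmva _ hgaB'
    calc mv⁻¹ * mn * mu * a * (mv⁻¹ * mn * mu)⁻¹
        = mv⁻¹ * (mn * (mu * a * mu⁻¹) * mn⁻¹) * mv := by group
      _ = mv⁻¹ * (mn * (u * a * u⁻¹) * mn⁻¹) * mv := by rw [h1]
      _ = mv⁻¹ * (v * (u * g⁻¹)⁻¹ * (u * a * u⁻¹) * (v * (u * g⁻¹)⁻¹)⁻¹) * mv := by rw [h2]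
      _ = mv⁻¹ * (v * (g * a * g⁻¹) * v⁻¹) * mv := by group
      _ = mv⁻¹ * (mv * (g * a * g⁻¹) * mv⁻¹) * mv := by rw [h3]
      _ = g * a * g⁻¹ := by group
  -- the induction
  have main : ∀ (k : ℕ) (B : Subgroup G), Q ≤ B → B ≤ (S : Subgroup G) →
      Nat.card (S : Subgroup G) ≤ Nat.card B + k →
      ∀ g : G, (∀ a ∈ B, g * a * g⁻¹ ∈ (S : Subgroup G)) →
        ∃ m ∈ NW, ∀ a ∈ B, m * a * m⁻¹ = g * a * g⁻¹ := by
    intro k
    induction k with
    | zero =>
      intro B hQB hBS hcard g hg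
      have hBeq : B = (S : Subgroup G) := Subgroup.eq_of_le_of_card_ge hBS (by simpa using hcard)
      rw [hBeq] at hg ⊢
      exact hQS' g hg
    | succ k ih =>
      intro B hQB hBS hcard g hg
      by_cases hBeq : B = (S : Subgroup G)
      · rw [hBeq] at hg ⊢
        exact hQS' g hg
      · apply step B hQB hBS ?_ g hg
        intro B₁ hQB₁ hB₁S hc u hu
        have hne : B₁ ≠ (S : Subgroup G) := by
          intro h
          apply hBeq
          apply Subgroup.eq_of_le_of_card_ge hBS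
          rw [← hc, h]
        obtain ⟨x, hxS, hxN, hxB⟩ := exists_mem_normalizer_not_mem hSp hB₁S hne
        have hle : B₁ ≤ nS (S : Subgroup G) B₁ := le_inf hB₁S Subgroup.le_normalizer
        have hlt : Nat.card B₁ < Nat.card ↥(nS (S : Subgroup G) B₁) := by
          by_contra hcon
          have := Subgroup.eq_of_le_of_card_ge hle (not_lt.1 hcon)
          apply hxB
          rw [this]; exact ⟨hxS, hxN⟩
        obtain ⟨m, hm, hma⟩ := ih (nS (S : Subgroup G) B₁) (hQB₁.trans hle) inf_le_left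
          (by omega) u hu
        exact ⟨m, hm, fun a ha => hma a (hle ha)⟩
  obtain ⟨B, hBdef⟩ : ∃ B : Subgroup G, B = Subgroup.closure A ⊔ Q := ⟨_, rfl⟩
  have hBS : B ≤ (S : Subgroup G) := by
    rw [hBdef]; exact sup_le ((Subgroup.closure_le _).2 hA) hQS
  have hgB : ∀ a ∈ B, g * a * g⁻¹ ∈ (S : Subgroup G) := by
    rw [← map_conj_le_iff, hBdef, Subgroup.map_sup, MonoidHom.map_closure]
    apply sup_le
    · rw [Subgroup.closure_le]; rintro _ ⟨a, ha, rfl⟩; exact hgA a ha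
    · rw [map_conj_le_iff]; intro x hx; exact hQS (hQn.conj_mem x hx g)
  obtain ⟨m, hm, hma⟩ := main (Nat.card (S : Subgroup G)) B
    (by rw [hBdef]; exact le_sup_right) hBS (by omega) g hgB
  exact ⟨m, hm, fun a ha => hma a (by
    rw [hBdef]; exact Subgroup.mem_sup_left (Subgroup.subset_closure ha))⟩

theorem sc_ctl_aux {p : ℕ} [Fact p.Prime] (hp : p ≠ 2) (W : helper1.PFun.{u} p)
    (hW : ∀ (G : Type u) [Group G] [Finite G] (P : Sylow p G) (D : Subgroup G),
      Cfsg.IsStronglyClosed D (P : Subgroup G) → ZStab p G →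
      centralizer (Cfsg.pCore p G : Set G) ≤ Cfsg.pCore p G → (W.W G D).Normal) :
    ∀ (n : ℕ) (G : Type u) [Group G] [Finite G], Nat.card G ≤ n →
      ¬ Cfsg.Involves ↥(Cfsg.qd p) G → SCStmt p W G := by
  intro n
  induction n with
  | zero =>
    intro G _ _ hcard
    have := Nat.card_pos (α := G)
    omega
  | succ n ih =>
    intro G _ _ hcard hfree P D hD A g hA hgA
    have ihsub : ∀ M : Subgroup G, M ≠ ⊤ → (P : Subgroup G) ≤ M → ∀ (A : Set G) (g : G),
        g ∈ M → A ⊆ ((P : Subgroup G) : Set G) → (∀ a ∈ A, g * a * g⁻¹ ∈ (P : Subgroup G)) →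
        ∃ m ∈ normalizer ((W.W G D : Subgroup G) : Set G),
          ∀ a ∈ A, m * a * m⁻¹ = g * a * g⁻¹ := by
      intro M hM hPM A g hg hA hgA
      refine ctl_sub W P D hD M hPM (ih ↥M ?_ ?_) A g hg hA hgA
      · have h1 := lt_card_of_lt (lt_top_iff_ne_top.mpr hM)
        rw [Subgroup.card_top] at h1
        omega
      · exact fun h => hfree (Cfsg.Agent.Lib.helper14.involves_of_injective M.subtype
          M.subtype_injective h)
    have ihquot : ∀ (N : Subgroup G) [N.Normal], N ≠ ⊥ → SCStmt p W (G ⧸ N) := by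
      intro N _ hN
      refine ih (G ⧸ N) ?_ ?_
      · have := card_quotient_lt N hN
        omega
      · exact fun h => hfree (Cfsg.Agent.Lib.helper14.involves_of_surjective_hom
          (QuotientGroup.mk' N) (QuotientGroup.mk'_surjective N) h)
    have hQn : (Cfsg.pCore p G).Normal := pCore_normal p G
    have hQp : IsPGroup p (Cfsg.pCore p G) := pCore_isPGroup p G
    have hQP : Cfsg.pCore p G ≤ (P : Subgroup G) := pCore_le_sylow P
    have hPD : (P : Subgroup G) ≤ normalizer (D : Set G) := sc_normalizer hD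
    have hDW : normalizer (D : Set G) ≤ normalizer ((W.W G D : Subgroup G) : Set G) :=
      W.normalizer_le G D
    have hPW : (P : Subgroup G) ≤ normalizer ((W.W G D : Subgroup G) : Set G) := hPD.trans hDW
    have hNP : normalizer ((P : Subgroup G) : Set G) ≤
        normalizer ((W.W G D : Subgroup G) : Set G) := by
      refine le_trans ?_ hDW
      apply Cfsg.Agent.Lib.helper8.le_normalizer_of_conj_mem
      intro x hx d hd
      exact hD.2 d hd x ((Subgroup.mem_normalizer_iff.1 hx d).1 (hD.1 hd))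
    have hnormal_case : (W.W G D).Normal →
        ∃ m ∈ normalizer ((W.W G D : Subgroup G) : Set G),
          ∀ a ∈ A, m * a * m⁻¹ = g * a * g⁻¹ := by
      intro h
      exact ⟨g, by rw [Subgroup.normalizer_eq_top_iff.mpr h]; exact Subgroup.mem_top g,
        fun a _ => rfl⟩
    by_cases hQ : Cfsg.pCore p G = ⊥
    · by_cases hP1 : (P : Subgroup G) = ⊥
      · refine ⟨1, Subgroup.one_mem _, fun a ha => ?_⟩
        have h1 : a = 1 := by
          have := hA ha
          rw [SetLike.mem_coe, hP1, Subgroup.mem_bot] at this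
          exact this
        rw [h1]; group
      · have hZne : Cfsg.centerThompsonAOf (P : Subgroup G) ≠ ⊥ :=
          centerThompsonAOf_ne_bot _ P.2 hP1
        obtain ⟨c, hc, hca⟩ := Qd.zj_strong_fusion_of_qd_free hp hfree P A g hA hgA
        obtain ⟨m, hm, hma⟩ := ihsub
          (normalizer (Cfsg.centerThompsonAOf (P : Subgroup G) : Set G)) (by
            intro htop
            apply hZne
            have hZn : (Cfsg.centerThompsonAOf (P : Subgroup G)).Normal :=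
              Subgroup.normalizer_eq_top_iff.mp htop
            have := le_pCore hZn (P.2.to_le (centerThompsonAOf_le _))
            rw [hQ] at this
            exact le_bot_iff.1 this)
          (Subgroup.le_normalizer.trans (normalizer_le_normalizer_centerThompsonAOf _))
          A c hc hA (fun a ha => by rw [hca a ha]; exact hgA a ha)
        exact ⟨m, hm, fun a ha => (hma a ha).trans (hca a ha)⟩
    · by_cases hDQ : D ≤ Cfsg.pCore p G
      · apply hnormal_case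
        have hDn : D.Normal :=
          ⟨fun d hd x => hD.2 d hd x (hQP (hQn.conj_mem d (hDQ hd) x))⟩
        rw [← Subgroup.normalizer_eq_top_iff]
        exact top_le_iff.1 ((Subgroup.normalizer_eq_top_iff.mpr hDn).ge.trans hDW)
      by_cases hpp : ∃ N : Subgroup G, N.Normal ∧ N ≠ ⊥ ∧ (Nat.card N).Coprime p
      · obtain ⟨N, hNn, hNne, hNc⟩ := hpp
        haveI := hNn
        obtain ⟨n₀, hn₀, hn₀a⟩ := ctl_quot W P D hD N (ihquot N hNne) A g hA hgA
        have hmap : W.W (G ⧸ N) (D.map (QuotientGroup.mk' N)) =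
            (W.W G D).map (QuotientGroup.mk' N) := by
          apply W.map
          rw [QuotientGroup.ker_mk']
          apply Subgroup.inf_eq_bot_of_coprime
          obtain ⟨k, hk⟩ := IsPGroup.iff_card.mp (P.2.to_le hD.1)
          rw [hk]
          exact Nat.Coprime.pow_left k hNc.symm
        rw [hmap] at hn₀
        exact ctl_pprime P N hNc (W.W G D) (P.2.to_le ((W.le G D).trans hD.1)) hPW A g hA hgA
          n₀ hn₀ hn₀a
      have hno : ∀ N : Subgroup G, N.Normal → (Nat.card N).Coprime p → N = ⊥ := by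
        intro N hNn hNc
        by_contra hne
        exact hpp ⟨N, hNn, hne, hNc⟩
      by_cases hc : centralizer (Cfsg.pCore p G : Set G) ≤ Cfsg.pCore p G
      · apply hnormal_case
        exact hW G P D hD
          (zstab_of_normalizerPStable (Qd.normalizerPStable_of_qd_free hp hfree)) hc
      have hRP : ¬ ((P : Subgroup G) ⊓
          (Cfsg.pCore p G ⊔ centralizer (Cfsg.pCore p G : Set G)) ≤ Cfsg.pCore p G) :=
        fun h => hc (centralizer_le_of_no_pprime P (Cfsg.pCore p G) hQp hno h)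
      by_cases hH : (P : Subgroup G) ⊔ centralizer (Cfsg.pCore p G : Set G) = ⊤
      · -- the central case
        have hcent : ∀ d : G, (orderOf d).Coprime p →
            d ∈ centralizer (Cfsg.pCore p G : Set G) := by
          intro d hd
          have hmem : d ∈ (P : Subgroup G) ⊔ centralizer (Cfsg.pCore p G : Set G) := by
            rw [hH]; exact Subgroup.mem_top _
          obtain ⟨s, hs, c, hc, hsc⟩ := Subgroup.mem_sup_of_normal_right.1 hmem
          obtain ⟨j, hj⟩ := P.2 ⟨s, hs⟩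
          have hj' : s ^ p ^ j = 1 := by
            have := congrArg Subtype.val hj
            simpa using this
          have h1 : orderOf (QuotientGroup.mk' (centralizer (Cfsg.pCore p G : Set G)) d) ∣
              orderOf d := orderOf_map_dvd _ d
          have h2 : orderOf (QuotientGroup.mk' (centralizer (Cfsg.pCore p G : Set G)) d) ∣
              p ^ j := by
            have e : QuotientGroup.mk' (centralizer (Cfsg.pCore p G : Set G)) d =
                QuotientGroup.mk' (centralizer (Cfsg.pCore p G : Set G)) s := by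
              have hc1 : QuotientGroup.mk' (centralizer (Cfsg.pCore p G : Set G)) c = 1 :=
                (QuotientGroup.eq_one_iff c).2 hc
              rw [← hsc, map_mul, hc1, mul_one]
            rw [e]
            apply orderOf_dvd_of_pow_eq_one
            rw [← map_pow, hj', map_one]
          have h3 : orderOf (QuotientGroup.mk' (centralizer (Cfsg.pCore p G : Set G)) d) = 1 :=
            Nat.eq_one_of_dvd_coprimes (Nat.Coprime.pow_right j hd) h1 h2
          exact (QuotientGroup.eq_one_iff d).1 (orderOf_eq_one_iff.1 h3)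
        obtain ⟨Wb, hWbdef⟩ : ∃ Wb : Subgroup (G ⧸ Cfsg.pCore p G),
            Wb = W.W (G ⧸ Cfsg.pCore p G) (D.map (QuotientGroup.mk' (Cfsg.pCore p G))) :=
          ⟨_, rfl⟩
        obtain ⟨Nq, hNqdef⟩ : ∃ Nq : Subgroup G,
            Nq = (normalizer (Wb : Set (G ⧸ Cfsg.pCore p G))).comap
              (QuotientGroup.mk' (Cfsg.pCore p G)) := ⟨_, rfl⟩
        have hquot : ∀ (A : Set G) (g : G), A ⊆ ((P : Subgroup G) : Set G) →
            (∀ a ∈ A, g * a * g⁻¹ ∈ (P : Subgroup G)) →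
            ∃ n ∈ Nq, ∀ a ∈ A, QuotientGroup.mk' (Cfsg.pCore p G) (n * a * n⁻¹) =
              QuotientGroup.mk' (Cfsg.pCore p G) (g * a * g⁻¹) := by
          intro A g hA hgA
          obtain ⟨n, hn, hna⟩ := ctl_quot W P D hD (Cfsg.pCore p G) (ihquot _ hQ) A g hA hgA
          exact ⟨n, by rw [hNqdef, Subgroup.mem_comap, hWbdef]; exact hn, hna⟩
        have hNqne : Nq ≠ ⊤ := by
          intro htop
          have hWbn : Wb.Normal := by
            rw [← Subgroup.normalizer_eq_top_iff, eq_top_iff]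
            intro y _
            obtain ⟨x, rfl⟩ := QuotientGroup.mk'_surjective _ y
            have hx : x ∈ Nq := by rw [htop]; exact Subgroup.mem_top x
            rw [hNqdef] at hx
            exact hx
          have hWble : Wb ≤ (P : Subgroup G).map (QuotientGroup.mk' (Cfsg.pCore p G)) := by
            rw [hWbdef]; exact (W.le _ _).trans (Subgroup.map_mono hD.1)
          have hVp : IsPGroup p (Wb.comap (QuotientGroup.mk' (Cfsg.pCore p G))) := by
            apply P.2.to_le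
            intro x hx
            have h1 := hWble hx
            have h2 : x ∈ ((P : Subgroup G).map (QuotientGroup.mk' (Cfsg.pCore p G))).comap
                (QuotientGroup.mk' (Cfsg.pCore p G)) := h1
            rw [Subgroup.comap_map_eq, QuotientGroup.ker_mk', sup_eq_left.mpr hQP] at h2
            exact h2
          have hVn : (Wb.comap (QuotientGroup.mk' (Cfsg.pCore p G))).Normal := hWbn.comap _
          have hVQ := le_pCore hVn hVp
          have hWb_bot : Wb = ⊥ := by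
            rw [eq_bot_iff]
            intro y hy
            obtain ⟨x, rfl⟩ := QuotientGroup.mk'_surjective _ y
            have hx : x ∈ Cfsg.pCore p G := hVQ hy
            rw [Subgroup.mem_bot]
            exact (QuotientGroup.eq_one_iff x).2 hx
          have hDb_ne : D.map (QuotientGroup.mk' (Cfsg.pCore p G)) ≠ ⊥ := by
            intro h
            apply hDQ
            have h1 := (Subgroup.map_eq_bot_iff _).1 h
            rwa [QuotientGroup.ker_mk'] at h1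
          exact W.ne_bot _ _ ((P.2.to_le hD.1).map _) hDb_ne (hWbdef ▸ hWb_bot)
        have hPNq : (P : Subgroup G) ≤ Nq := by
          intro x hx
          rw [hNqdef, Subgroup.mem_comap, hWbdef]
          apply W.normalizer_le
          exact Subgroup.le_normalizer_map _ ⟨x, hPD hx, rfl⟩
        refine ctl_central P (normalizer ((W.W G D : Subgroup G) : Set G)) hPW hNP
          (Cfsg.pCore p G) hQp hcent Nq hquot ?_ A g hA hgA
        intro A g hg hA hgA
        exact ihsub Nq hNqne hPNq A g hg hA hgA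
      · -- the Frattini case
        refine ctl_frattini P (normalizer ((W.W G D : Subgroup G) : Set G)) (Cfsg.pCore p G)
          hQP ?_ ?_ A g hA hgA
        · intro A g hg hA hgA
          exact ihsub _ hH le_sup_left A g hg hA hgA
        · intro A g hg hA hgA
          refine ihsub _ ?_ ?_ A g hg hA hgA
          · intro hN
            apply hRP
            apply le_pCore _ (P.2.to_le inf_le_left)
            rw [← Subgroup.normalizer_eq_top_iff]; exact hN
          · apply Cfsg.Agent.Lib.helper8.le_normalizer_of_conj_mem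
            intro x hx r hr
            have hLn : (Cfsg.pCore p G ⊔ centralizer (Cfsg.pCore p G : Set G)).Normal :=
              inferInstance
            exact ⟨Subgroup.mul_mem _ (Subgroup.mul_mem _ hx hr.1) (Subgroup.inv_mem _ hx),
              hLn.conj_mem r hr.2 x⟩

/-- **Control of strong fusion by a strongly closed subgroup** in `Qd(p)`-free groups. -/
theorem sc_ctl {p : ℕ} [Fact p.Prime] (hp : p ≠ 2) (W : helper1.PFun.{u} p)
    (hW : ∀ (G : Type u) [Group G] [Finite G] (P : Sylow p G) (D : Subgroup G),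
      Cfsg.IsStronglyClosed D (P : Subgroup G) → ZStab p G →
      centralizer (Cfsg.pCore p G : Set G) ≤ Cfsg.pCore p G → (W.W G D).Normal)
    {G : Type u} [Group G] [Finite G] (hfree : ¬ Cfsg.Involves ↥(Cfsg.qd p) G) :
    SCStmt p W G :=
  sc_ctl_aux hp W hW (Nat.card G) G le_rfl hfree

/-- `N(Z(J(D)))` controls strong fusion, `D` strongly closed, `G` `Qd(p)`-free. -/
theorem sc_ctl_zjA {p : ℕ} [Fact p.Prime] (hp : p ≠ 2) {G : Type u} [Group G] [Finite G]
    (hfree : ¬ Cfsg.Involves ↥(Cfsg.qd p) G) (P : Sylow p G) (D : Subgroup G)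
    (hD : Cfsg.IsStronglyClosed D (P : Subgroup G)) (A : Set G) (g : G)
    (hA : A ⊆ ((P : Subgroup G) : Set G)) (hgA : ∀ a ∈ A, g * a * g⁻¹ ∈ (P : Subgroup G)) :
    ∃ n ∈ normalizer ((Cfsg.centerThompsonAOf D : Subgroup G) : Set G),
      ∀ a ∈ A, n * a * n⁻¹ = g * a * g⁻¹ :=
  sc_ctl hp (zjA p) (fun G _ _ P D hD hst hc => zj_normal_ab hp P D hD hst hc) hfree P D hD A g
    hA hgA

/-- `N(Ω₁(Z(J_e(D))))` controls strong fusion, `D` strongly closed, `G` `Qd(p)`-free. -/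
theorem sc_ctl_zjE {p : ℕ} [Fact p.Prime] (hp : p ≠ 2) {G : Type u} [Group G] [Finite G]
    (hfree : ¬ Cfsg.Involves ↥(Cfsg.qd p) G) (P : Sylow p G) (D : Subgroup G)
    (hD : Cfsg.IsStronglyClosed D (P : Subgroup G)) (A : Set G) (g : G)
    (hA : A ⊆ ((P : Subgroup G) : Set G)) (hgA : ∀ a ∈ A, g * a * g⁻¹ ∈ (P : Subgroup G)) :
    ∃ n ∈ normalizer ((Cfsg.omegaOne p (Cfsg.centerThompsonOf p D) : Subgroup G) : Set G),
      ∀ a ∈ A, n * a * n⁻¹ = g * a * g⁻¹ :=
  sc_ctl hp (zjE p) (fun G _ _ P D hD hst hc => zj_normal_ea hp P D hD hst hc) hfree P D hD A g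
    hA hgA

end Cfsg.Agent.Lib.helper15
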