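import Mathlib
import Cfsg.Prelude.Def_FusionSystem
import Cfsg.Agent.Lib.helper25.GroupFusion
import Cfsg.Agent.Lib.helper25.SylowAux
import Cfsg.Agent.Lib.helper16.Syl
import Cfsg.Agent.Lib.helper14.S4Inv
import Cfsg.Agent.Lib.helper15.PCore

set_option autoImplicit false
set_option linter.style.haveILetI false

namespace Cfsg.Agent.Lib.helper15.QdS

open Cfsg Cfsg.Agent.Lib.helper25

universe u

/-- Lifting a conjugation modulo a normal `p'`-subgroup into a Sylow `p`-subgroup. -/
theorem lift_conj_pprime {X : Type*} [Group X] [Finite X] {p : ℕ} [Fact p.Prime]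
    (T : Sylow p X) (O : Subgroup X) [O.Normal] (B : Subgroup X) (hB : IsPGroup p B) (g : X)
    (hg : ∀ a ∈ B, ∃ t ∈ (T : Subgroup X),
      QuotientGroup.mk' O t = QuotientGroup.mk' O (g * a * g⁻¹)) :
    ∃ n : X, QuotientGroup.mk' O n = QuotientGroup.mk' O g ∧
      ∀ a ∈ B, n * a * n⁻¹ ∈ (T : Subgroup X) := by
  have hB' : IsPGroup p (B.map (MulAut.conj g).toMonoidHom) := hB.map _
  have hle : B.map (MulAut.conj g).toMonoidHom ≤ (T : Subgroup X) ⊔ O := by
    rintro _ ⟨a, ha, rfl⟩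
    obtain ⟨t, ht, hte⟩ := hg a ha
    have h1 : t⁻¹ * (g * a * g⁻¹) ∈ O := QuotientGroup.eq.1 hte
    have e : (MulAut.conj g).toMonoidHom a = t * (t⁻¹ * (g * a * g⁻¹)) := by
      simp [MulAut.conj_apply]
    rw [e]
    exact Subgroup.mul_mem_sup ht h1
  obtain ⟨x, hx, hxB⟩ := Cfsg.Agent.Lib.helper16.exists_conj_mem_sylow ((T : Subgroup X) ⊔ O) T
    le_sup_left _ hle hB'
  obtain ⟨s, hs, m, hm, hsm⟩ := Subgroup.mem_sup_of_normal_right.1 hx
  refine ⟨s⁻¹ * x * g, ?_, ?_⟩
  · rw [← hsm]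
    have e : s⁻¹ * (s * m) * g = m * g := by group
    have hm1 : QuotientGroup.mk' O m = 1 := (QuotientGroup.eq_one_iff m).2 hm
    rw [e, map_mul, hm1, one_mul]
  · intro a ha
    have h1 : x * (g * a * g⁻¹) * x⁻¹ ∈ (T : Subgroup X) := hxB _ ⟨a, ha, rfl⟩
    have e : s⁻¹ * x * g * a * (s⁻¹ * x * g)⁻¹ = s⁻¹ * (x * (g * a * g⁻¹) * x⁻¹) * s := by group
    rw [e]
    exact Subgroup.mul_mem _ (Subgroup.mul_mem _ (Subgroup.inv_mem _ hs) h1) hs

/-- For `E ≤ P` with `N_P(E)` a Sylow subgroup of `N_G(E)` and `C_P(E) ≤ E`, the centralizer of `E`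
is `Z(E)` times a normal `p'`-subgroup of `N_G(E)`. -/
theorem exists_pprime_compl {G : Type u} [Group G] [Finite G] {p : ℕ} [Fact p.Prime]
    (P : Sylow p G) (E : Subgroup G)
    (hcard : Nat.card ↥((P : Subgroup G) ⊓ Subgroup.normalizer (E : Set G)) =
      p ^ (Nat.card ↥(Subgroup.normalizer (E : Set G))).factorization p)
    (hcen : (P : Subgroup G) ⊓ Subgroup.centralizer (E : Set G) ≤ E) :
    ∃ O : Subgroup ↥(Subgroup.normalizer (E : Set G)), O.Normal ∧ (Nat.card O).Coprime p ∧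
      ∀ x : ↥(Subgroup.normalizer (E : Set G)), (x : G) ∈ Subgroup.centralizer (E : Set G) →
        ∃ z : ↥(Subgroup.normalizer (E : Set G)), (z : G) ∈ E ∧ z⁻¹ * x ∈ O := by
  classical
  have hpp : p.Prime := Fact.out
  have hcardC := sylCard_centralizer_of_normalizer (P : Subgroup G) E hcard
  obtain ⟨Rz, hRz⟩ := (exists_sylow_subgroupOf_iff
    (inf_le_right : (P : Subgroup G) ⊓ Subgroup.centralizer (E : Set G) ≤
      Subgroup.centralizer (E : Set G))).mpr hcardC
  have hcentral : ∀ c : ↥(Subgroup.centralizer (E : Set G)),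
      c ∈ Subgroup.centralizer ((Rz : Subgroup ↥(Subgroup.centralizer (E : Set G))) :
        Set ↥(Subgroup.centralizer (E : Set G))) := by
    intro c
    rw [Subgroup.mem_centralizer_iff]
    intro z hz
    rw [SetLike.mem_coe, hRz, Subgroup.mem_subgroupOf] at hz
    have hzE : (z : G) ∈ E := hcen hz
    apply Subtype.ext
    show (z : G) * c = c * z
    exact (Subgroup.mem_centralizer_iff.1 c.2 _ hzE)
  have hP : Subgroup.normalizer ((Rz : Subgroup ↥(Subgroup.centralizer (E : Set G))) :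
      Set ↥(Subgroup.centralizer (E : Set G))) ≤
      Subgroup.centralizer ((Rz : Subgroup ↥(Subgroup.centralizer (E : Set G))) :
        Set ↥(Subgroup.centralizer (E : Set G))) := fun c _ => hcentral c
  have hMcompl := MonoidHom.ker_transferSylow_isComplement' Rz hP
  have hMcard : ¬ p ∣ Nat.card (MonoidHom.transferSylow Rz hP).ker :=
    MonoidHom.not_dvd_card_ker_transferSylow Rz hP
  have hMmem : ∀ c : ↥(Subgroup.centralizer (E : Set G)),
      (orderOf c).Coprime p → c ∈ (MonoidHom.transferSylow Rz hP).ker := by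
    intro c hc
    rw [MonoidHom.mem_ker]
    have h1 : orderOf (MonoidHom.transferSylow Rz hP c) ∣ orderOf c := orderOf_map_dvd _ c
    obtain ⟨k, hk⟩ := (IsPGroup.iff_orderOf.1 Rz.isPGroup') (MonoidHom.transferSylow Rz hP c)
    rw [hk] at h1
    have h2 : (p ^ k).Coprime p := Nat.Coprime.coprime_dvd_left h1 hc
    have hk0 : k = 0 := by
      by_contra hk0
      have : p ∣ p ^ k := dvd_pow_self p hk0
      have h3 := Nat.Coprime.coprime_dvd_left this h2
      rw [Nat.coprime_self] at h3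
      exact hpp.ne_one h3
    rw [hk0, pow_zero] at hk
    exact orderOf_eq_one_iff.1 hk
  have hMord : ∀ c ∈ (MonoidHom.transferSylow Rz hP).ker, (orderOf c).Coprime p := by
    intro c hc
    have h1 : orderOf (⟨c, hc⟩ : (MonoidHom.transferSylow Rz hP).ker) ∣
        Nat.card (MonoidHom.transferSylow Rz hP).ker := orderOf_dvd_natCard _
    have h2 : orderOf (⟨c, hc⟩ : (MonoidHom.transferSylow Rz hP).ker) = orderOf c :=
      Subgroup.orderOf_mk c hc
    rw [h2] at h1
    exact Nat.Coprime.coprime_dvd_left h1 (Nat.Coprime.symm ((Nat.Prime.coprime_iff_not_dvd hpp).2 hMcard))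
  have hCN : Subgroup.centralizer (E : Set G) ≤ Subgroup.normalizer (E : Set G) :=
    Subgroup.centralizer_le_normalizer _
  refine ⟨(MonoidHom.transferSylow Rz hP).ker.map (Subgroup.inclusion hCN), ?_, ?_, ?_⟩
  · constructor
    rintro _ ⟨c, hc, rfl⟩ x
    have hxc : (x : G) * (c : G) * (x : G)⁻¹ ∈ Subgroup.centralizer (E : Set G) := by
      have := normalizer_le_normalizer_centralizer E x.2
      exact (Subgroup.mem_normalizer_iff.1 this _).1 c.2
    refine ⟨⟨_, hxc⟩, hMmem _ ?_, Subtype.ext rfl⟩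
    have h1 : orderOf (⟨(x : G) * (c : G) * (x : G)⁻¹, hxc⟩ :
        ↥(Subgroup.centralizer (E : Set G))) = orderOf ((x : G) * (c : G) * (x : G)⁻¹) :=
      Subgroup.orderOf_mk _ hxc
    have h2 : orderOf ((x : G) * (c : G) * (x : G)⁻¹) = orderOf (c : G) :=
      (MulAut.conj (x : G)).orderOf_eq (c : G)
    have h3 : orderOf (c : G) = orderOf c := Subgroup.orderOf_coe c
    rw [h1, h2, h3]
    exact hMord c hc
  · rw [Subgroup.card_map_of_injective (Subgroup.inclusion_injective hCN)]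
    exact Nat.Coprime.symm ((Nat.Prime.coprime_iff_not_dvd hpp).2 hMcard)
  · intro x hx
    obtain ⟨⟨m, r⟩, hmr, -⟩ := hMcompl.existsUnique (⟨(x : G), hx⟩ : ↥(Subgroup.centralizer (E : Set G)))
    have hmr' : (m : ↥(Subgroup.centralizer (E : Set G))) * (r : ↥(Subgroup.centralizer (E : Set G))) =
        ⟨(x : G), hx⟩ := hmr
    have hr : ((r : ↥(Subgroup.centralizer (E : Set G))) : G) ∈ E := by
      have h1 : (r : ↥(Subgroup.centralizer (E : Set G))) ∈
          (Rz : Subgroup ↥(Subgroup.centralizer (E : Set G))) := r.2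
      have h1' : (r : ↥(Subgroup.centralizer (E : Set G))) ∈
          ((P : Subgroup G) ⊓ Subgroup.centralizer (E : Set G)).subgroupOf
            (Subgroup.centralizer (E : Set G)) := by
        rw [← hRz]; exact h1
      exact hcen (Subgroup.mem_subgroupOf.1 h1')
    refine ⟨Subgroup.inclusion hCN (r : ↥(Subgroup.centralizer (E : Set G))), hr, ?_⟩
    have hcomm : (r : ↥(Subgroup.centralizer (E : Set G))) * (m : ↥(Subgroup.centralizer (E : Set G))) =
        (m : ↥(Subgroup.centralizer (E : Set G))) * (r : ↥(Subgroup.centralizer (E : Set G))) := by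
      have := Subgroup.mem_centralizer_iff.1 (hcentral (m : ↥(Subgroup.centralizer (E : Set G))))
        (r : ↥(Subgroup.centralizer (E : Set G))) r.2
      exact this
    refine ⟨(m : ↥(Subgroup.centralizer (E : Set G))), m.2, ?_⟩
    apply Subtype.ext
    have h2 : ((m : ↥(Subgroup.centralizer (E : Set G))) : G) *
        ((r : ↥(Subgroup.centralizer (E : Set G))) : G) = (x : G) := congrArg Subtype.val hmr'
    have h3 : ((r : ↥(Subgroup.centralizer (E : Set G))) : G) *
        ((m : ↥(Subgroup.centralizer (E : Set G))) : G) =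
        ((m : ↥(Subgroup.centralizer (E : Set G))) : G) *
        ((r : ↥(Subgroup.centralizer (E : Set G))) : G) := congrArg Subtype.val hcomm
    show ((m : ↥(Subgroup.centralizer (E : Set G))) : G) =
      ((r : ↥(Subgroup.centralizer (E : Set G))) : G)⁻¹ * (x : G)
    rw [← h2, ← h3]
    group

/-- `N_G(E)/O` is a model of the normalizer system of `E`, for `E ≤ P` with `N_P(E)` Sylow in
`N_G(E)` and `C_G(E) ≤ Z(E) O`, `O` a normal `p'`-subgroup of `N_G(E)`. -/
theorem isModel_of_compl {G : Type u} [Group G] [Finite G] {p : ℕ} [Fact p.Prime]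
    (P : Sylow p G) (E : Subgroup G) (hEP : E ≤ (P : Subgroup G))
    (hcard : Nat.card ↥((P : Subgroup G) ⊓ Subgroup.normalizer (E : Set G)) =
      p ^ (Nat.card ↥(Subgroup.normalizer (E : Set G))).factorization p)
    (N : Cfsg.FusionSystem (Cfsg.FusionSystem.normalizerIn (P : Subgroup G) E))
    (hN : (Cfsg.groupFusionSystem (P : Subgroup G)).IsNormalizerSystem E N)
    (O : Subgroup ↥(Subgroup.normalizer (E : Set G))) [O.Normal] (hOc : (Nat.card O).Coprime p)
    (hOd : ∀ x : ↥(Subgroup.normalizer (E : Set G)), (x : G) ∈ Subgroup.centralizer (E : Set G) →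
      ∃ z : ↥(Subgroup.normalizer (E : Set G)), (z : G) ∈ E ∧ z⁻¹ * x ∈ O) :
    N.IsModel p (↥(Subgroup.normalizer (E : Set G)) ⧸ O)
      ((QuotientGroup.mk' O).comp (Subgroup.inclusion
        (show Cfsg.FusionSystem.normalizerIn (P : Subgroup G) E ≤
          Subgroup.normalizer (E : Set G) from inf_le_right))) := by
  classical
  have hpp : p.Prime := Fact.out
  have hNle : Cfsg.FusionSystem.normalizerIn (P : Subgroup G) E ≤
      Subgroup.normalizer (E : Set G) := inf_le_right
  obtain ⟨T, hT⟩ := (exists_sylow_subgroupOf_iff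
    (inf_le_right : (P : Subgroup G) ⊓ Subgroup.normalizer (E : Set G) ≤
      Subgroup.normalizer (E : Set G))).mpr hcard
  have hTmem : ∀ x : ↥(Subgroup.normalizer (E : Set G)),
      x ∈ (T : Subgroup ↥(Subgroup.normalizer (E : Set G))) ↔ (x : G) ∈ (P : Subgroup G) := by
    intro x
    rw [hT, Subgroup.mem_subgroupOf]
    exact ⟨fun h => h.1, fun h => ⟨h, x.2⟩⟩
  have hTO : (T : Subgroup ↥(Subgroup.normalizer (E : Set G))) ⊓ O = ⊥ := by
    apply Subgroup.inf_eq_bot_of_coprime
    obtain ⟨k, hk⟩ := IsPGroup.iff_card.mp T.2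
    rw [hk]
    exact Nat.Coprime.pow_left k hOc.symm
  have hEpg : IsPGroup p ↥(E.subgroupOf (Subgroup.normalizer (E : Set G))) :=
    (P.isPGroup'.to_le hEP).comap_subtype
  have hEO : E.subgroupOf (Subgroup.normalizer (E : Set G)) ⊓ O = ⊥ := by
    apply Subgroup.inf_eq_bot_of_coprime
    obtain ⟨k, hk⟩ := IsPGroup.iff_card.mp hEpg
    rw [hk]
    exact Nat.Coprime.pow_left k hOc.symm
  refine ⟨inferInstance, ⟨?_, ?_⟩, ⟨T.mapSurjective (QuotientGroup.mk'_surjective O), ?_⟩, ?_⟩
  · -- injectivity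
    rw [injective_iff_map_eq_one]
    intro s hs
    have h1 : Subgroup.inclusion hNle s ∈ O := (QuotientGroup.eq_one_iff _).1 hs
    have h2 : Subgroup.inclusion hNle s ∈ (T : Subgroup ↥(Subgroup.normalizer (E : Set G))) :=
      (hTmem _).2 s.2.1
    have h3 : Subgroup.inclusion hNle s ∈
        (T : Subgroup ↥(Subgroup.normalizer (E : Set G))) ⊓ O := ⟨h2, h1⟩
    rw [hTO, Subgroup.mem_bot] at h3
    apply Subtype.ext
    have h4 : ((Subgroup.inclusion hNle s : ↥(Subgroup.normalizer (E : Set G))) : G) =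
        ((1 : ↥(Subgroup.normalizer (E : Set G))) : G) := by rw [h3]
    exact h4
  · -- realization
    intro P₁ hP₁ φ hφ
    constructor
    · intro hmem
      rw [hN P₁] at hmem
      obtain ⟨hφF, hP₁N, hφN, ψ, hψ, agree, hmap⟩ := hmem
      obtain ⟨hle, hval, g, hg⟩ := hψ
      have hgN : g ∈ Subgroup.normalizer (E : Set G) := by
        apply Cfsg.Agent.Lib.helper14.mem_normalizer_of_forall_conj_mem E g
        intro e he
        have h1 : ψ ⟨e, (le_sup_right : E ≤ P₁ ⊔ E) he⟩ ∈ (E.subgroupOf (P₁ ⊔ E)).map ψ :=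
          ⟨⟨e, _⟩, Subgroup.mem_subgroupOf.2 he, rfl⟩
        rw [hmap, hg] at h1
        exact h1
      refine ⟨QuotientGroup.mk' O ⟨g, hgN⟩, fun x => ?_⟩
      simp only [MonoidHom.comp_apply]
      rw [← map_inv, ← map_mul, ← map_mul]
      congr 1
      apply Subtype.ext
      show φ x = g * (x : G) * g⁻¹
      rw [← agree x, hg]
      rfl
    · rintro ⟨l, hl⟩
      obtain ⟨⟨g, hgN⟩, rfl⟩ := QuotientGroup.mk'_surjective O l
      have hBp : IsPGroup p ↥(P₁.subgroupOf (Subgroup.normalizer (E : Set G))) :=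
        (P.isPGroup'.to_le (hP₁.trans inf_le_left)).comap_subtype
      obtain ⟨n, hn, hnB⟩ := lift_conj_pprime T O (P₁.subgroupOf (Subgroup.normalizer (E : Set G)))
        hBp ⟨g, hgN⟩ (fun a ha => by
          have haP₁ : (a : G) ∈ P₁ := Subgroup.mem_subgroupOf.1 ha
          refine ⟨Subgroup.inclusion hNle ⟨φ ⟨a, haP₁⟩, hφ _⟩, (hTmem _).2 (hφ _).1, ?_⟩
          have h1 := hl ⟨a, haP₁⟩
          simp only [MonoidHom.comp_apply] at h1
          rw [h1, ← map_inv, ← map_mul, ← map_mul]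
          rfl)
      have key : ∀ x : P₁, φ x = (n : G) * (x : G) * (n : G)⁻¹ := by
        intro x
        have hxN : (x : G) ∈ Subgroup.normalizer (E : Set G) := hNle (hP₁ x.2)
        have h1 := hnB ⟨(x : G), hxN⟩ (Subgroup.mem_subgroupOf.2 x.2)
        have h2 : (⟨φ x, hNle (hφ x)⟩ : ↥(Subgroup.normalizer (E : Set G))) ∈
            (T : Subgroup ↥(Subgroup.normalizer (E : Set G))) := (hTmem _).2 (hφ x).1
        have h3 : QuotientGroup.mk' O (n * ⟨(x : G), hxN⟩ * n⁻¹) =
            QuotientGroup.mk' O ⟨φ x, hNle (hφ x)⟩ := by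
          have h4 := hl x
          simp only [MonoidHom.comp_apply] at h4
          rw [map_mul, map_mul, map_inv, hn]
          exact h4.symm
        have h5 : (n * ⟨(x : G), hxN⟩ * n⁻¹)⁻¹ * ⟨φ x, hNle (hφ x)⟩ ∈
            (T : Subgroup ↥(Subgroup.normalizer (E : Set G))) ⊓ O :=
          ⟨Subgroup.mul_mem _ (Subgroup.inv_mem _ h1) h2, QuotientGroup.eq.1 h3⟩
        rw [hTO, Subgroup.mem_bot] at h5
        have h6 := inv_mul_eq_one.1 h5
        exact (congrArg Subtype.val h6).symm
      have hnE : ∀ e ∈ E, (n : G) * e * (n : G)⁻¹ ∈ E := fun e he =>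
        (Subgroup.mem_normalizer_iff.1 n.2 e).1 he
      have hnE' : ∀ e ∈ E, (n : G)⁻¹ * e * (n : G) ∈ E := fun e he => by
        have := (Subgroup.mem_normalizer_iff.1 (Subgroup.inv_mem _ n.2) e).1 he
        simpa using this
      have hvals : P₁ ⊔ E ≤ (P : Subgroup G).comap (MulAut.conj (n : G)).toMonoidHom := by
        apply sup_le
        · intro x hx
          show (n : G) * x * (n : G)⁻¹ ∈ (P : Subgroup G)
          rw [← key ⟨x, hx⟩]
          exact (hφ _).1
        · intro e he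
          exact hEP (hnE e he)
      rw [hN P₁]
      refine ⟨⟨hP₁.trans inf_le_left, fun x => (hφ x).1, (n : G), key⟩, hP₁, hφ,
        Cfsg.conjHom (P₁ ⊔ E) (n : G),
        ⟨sup_le (hP₁.trans inf_le_left) hEP, fun x => hvals x.2, (n : G), fun x => rfl⟩,
        fun x => (key x).symm, ?_⟩
      ext y
      constructor
      · rintro ⟨x, hx, rfl⟩
        exact hnE _ (Subgroup.mem_subgroupOf.1 hx)
      · intro hy
        refine ⟨⟨(n : G)⁻¹ * y * (n : G), (le_sup_right : E ≤ P₁ ⊔ E) (hnE' y hy)⟩,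
          Subgroup.mem_subgroupOf.2 (hnE' y hy), ?_⟩
        show (n : G) * ((n : G)⁻¹ * y * (n : G)) * (n : G)⁻¹ = y
        group
  · -- the Sylow subgroup
    rw [Sylow.coe_mapSurjective, hT, MonoidHom.range_comp, Subgroup.inclusion_range]
    rfl
  · -- the centralizer of the core
    intro l hl
    obtain ⟨x, rfl⟩ := QuotientGroup.mk'_surjective O l
    have hEn : ((E.subgroupOf (Subgroup.normalizer (E : Set G))).map (QuotientGroup.mk' O)).Normal :=
      Subgroup.Normal.map Subgroup.normal_in_normalizer _ (QuotientGroup.mk'_surjective O)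
    have hEle := le_pCore hEn (hEpg.map (QuotientGroup.mk' O))
    have hxC : (x : G) ∈ Subgroup.centralizer (E : Set G) := by
      rw [Subgroup.mem_centralizer_iff]
      intro e he
      have heN : e ∈ Subgroup.normalizer (E : Set G) := Subgroup.le_normalizer he
      have he' : (⟨e, heN⟩ : ↥(Subgroup.normalizer (E : Set G))) ∈
          E.subgroupOf (Subgroup.normalizer (E : Set G)) := Subgroup.mem_subgroupOf.2 he
      have h1 := (Subgroup.mem_centralizer_iff.1 hl) (QuotientGroup.mk' O ⟨e, heN⟩)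
        (hEle ⟨_, he', rfl⟩)
      rw [← map_mul, ← map_mul] at h1
      have h2 : (⟨e, heN⟩ * x)⁻¹ * (x * ⟨e, heN⟩) ∈ O := QuotientGroup.eq.1 h1
      have h3 : (⟨e, heN⟩ * x)⁻¹ * (x * ⟨e, heN⟩) ∈
          E.subgroupOf (Subgroup.normalizer (E : Set G)) := by
        rw [Subgroup.mem_subgroupOf]
        show (e * (x : G))⁻¹ * ((x : G) * e) ∈ E
        have e1 : (e * (x : G))⁻¹ * ((x : G) * e) = ((x : G)⁻¹ * e⁻¹ * (x : G)⁻¹⁻¹) * e := by group
        rw [e1]
        exact E.mul_mem ((Subgroup.mem_normalizer_iff.1 (Subgroup.inv_mem _ x.2) e⁻¹).1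
          (E.inv_mem he)) he
      have h4 : (⟨e, heN⟩ * x)⁻¹ * (x * ⟨e, heN⟩) ∈
          E.subgroupOf (Subgroup.normalizer (E : Set G)) ⊓ O := ⟨h3, h2⟩
      rw [hEO, Subgroup.mem_bot] at h4
      have h5 := inv_mul_eq_one.1 h4
      exact congrArg Subtype.val h5
    obtain ⟨z, hzE, hzO⟩ := hOd x hxC
    have h6 : QuotientGroup.mk' O x = QuotientGroup.mk' O z := (QuotientGroup.eq.2 hzO).symm
    rw [h6]
    exact hEle ⟨z, Subgroup.mem_subgroupOf.2 hzE, rfl⟩

end Cfsg.Agent.Lib.helper15.QdS
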