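import Mathlib
import Cfsg.Agent.Lib.helper15.QdZJ
import Cfsg.Agent.Lib.helper15.QdConf
import Cfsg.Agent.Lib.helper15.Inv

set_option autoImplicit false
set_option linter.style.haveILetI false

namespace Cfsg.Agent.Lib.helper15.QdS

open Cfsg Cfsg.Agent.Lib.helper15 Cfsg.Agent.Lib.helper15.Qd

/-- A surjection `f` from `Γ` onto `H` whose kernel contains the kernel of `π : Γ → G'` shows that
`H` is involved in `G'`. -/
theorem involves_of_ker_le {Γ : Type*} {H : Type*} {G' : Type*} [Group Γ] [Group H] [Group G']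
    (f : Γ →* H) (hf : Function.Surjective f) (π : Γ →* G') (hker : π.ker ≤ f.ker) :
    Cfsg.Involves H G' := by
  have hs : Function.Surjective π.rangeRestrict := π.rangeRestrict_surjective
  have hk : π.rangeRestrict.ker ≤ f.ker := by rw [MonoidHom.ker_rangeRestrict]; exact hker
  refine Cfsg.Agent.Lib.helper14.involves_of_surjective π.range
    (π.rangeRestrict.liftOfSurjective hs ⟨f, hk⟩) ?_
  intro h
  obtain ⟨γ, rfl⟩ := hf h
  exact ⟨π.rangeRestrict γ, MonoidHom.liftOfRightInverse_comp_apply _ _ _ ⟨f, hk⟩ γ⟩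

section qd

variable (p : ℕ) [Fact p.Prime]

/-- The translation subgroup of `Qd(p)`. -/
def Tr : Subgroup ↥(Cfsg.qd p) := transl (Cfsg.qd p).subtype

theorem qd_hsurj : ∀ (A : Dk.SL2 (ZMod p)) (t : Fin 2 → ZMod p),
    ∃ y : ↥(Cfsg.qd p), (Cfsg.qd p).subtype y = aff A t :=
  fun A t => ⟨⟨aff A t, aff_mem_qd p A t⟩, rfl⟩

theorem qd_hrange : ∀ y : ↥(Cfsg.qd p), ∃ (A : Dk.SL2 (ZMod p)) (t : Fin 2 → ZMod p),
    (Cfsg.qd p).subtype y = aff A t :=
  fun y => exists_aff_of_mem_qd p y.1 y.2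

theorem tr_pgroup : IsPGroup p ↥(Tr p) :=
  transl_pgroup (Cfsg.qd p).subtype (Cfsg.qd p).subtype_injective

theorem tr_comm : ∀ x ∈ Tr p, ∀ y ∈ Tr p, x * y = y * x := by
  rintro x ⟨t, ht⟩ y ⟨s, hs⟩
  apply Subtype.ext
  have hx : (x : Matrix.SpecialLinearGroup (Fin 3) (ZMod p)) = aff 1 t := ht
  have hy : (y : Matrix.SpecialLinearGroup (Fin 3) (ZMod p)) = aff 1 s := hs
  rw [Subgroup.coe_mul, Subgroup.coe_mul, hx, hy, aff_one_mul, aff_one_mul, add_comm]

theorem tr_conj (g y : ↥(Cfsg.qd p)) (hy : y ∈ Tr p) : g * y * g⁻¹ ∈ Tr p :=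
  transl_conj (Cfsg.qd p).subtype (qd_hrange p) g y hy

/-- Every nontrivial normal subgroup of `Qd(p)` contains the translation subgroup. -/
theorem tr_le_of_normal (N : Subgroup ↥(Cfsg.qd p)) (hN : N.Normal) (hne : N ≠ ⊥) :
    Tr p ≤ N := by
  by_cases hU : N ⊓ Tr p = ⊥
  · exfalso
    apply hne
    have hcen : N ≤ Subgroup.centralizer (Tr p : Set ↥(Cfsg.qd p)) := by
      intro n hn
      rw [Subgroup.mem_centralizer_iff]
      intro y hy
      have h1 : n * y * n⁻¹ * y⁻¹ ∈ N ⊓ Tr p := by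
        refine ⟨?_, ?_⟩
        · have e : n * y * n⁻¹ * y⁻¹ = n * (y * n⁻¹ * y⁻¹) := by group
          rw [e]
          exact N.mul_mem hn (hN.conj_mem _ (N.inv_mem hn) y)
        · exact (Tr p).mul_mem (tr_conj p n y hy) ((Tr p).inv_mem hy)
      rw [hU, Subgroup.mem_bot] at h1
      have e : y * n = (n * y * n⁻¹ * y⁻¹)⁻¹ * (n * y) := by group
      rw [e, h1, inv_one, one_mul]
    have hle : N ≤ Tr p := hcen.trans
      (centralizer_transl_le (Cfsg.qd p).subtype (Cfsg.qd p).subtype_injective (qd_hsurj p)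
        (qd_hrange p))
    rw [← hU]
    exact (inf_eq_left.2 hle).symm
  · have h := transl_irred (Cfsg.qd p).subtype (Cfsg.qd p).subtype_injective (qd_hsurj p)
      (N ⊓ Tr p) inf_le_right (fun g y hy => ⟨hN.conj_mem y hy.1 g, tr_conj p g y hy.2⟩) hU
    exact h.trans inf_le_left

/-- Translation element. -/
def qt (t : Fin 2 → ZMod p) : ↥(Cfsg.qd p) := ⟨aff 1 t, aff_mem_qd p 1 t⟩

/-- Linear element. -/
def qs (A : Dk.SL2 (ZMod p)) : ↥(Cfsg.qd p) := ⟨aff A 0, aff_mem_qd p A 0⟩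

theorem qt_mem (t : Fin 2 → ZMod p) : qt p t ∈ Tr p := ⟨t, rfl⟩

theorem qt_mul (t s : Fin 2 → ZMod p) : qt p t * qt p s = qt p (s + t) := by
  apply Subtype.ext
  show aff 1 t * aff 1 s = aff 1 (s + t)
  rw [aff_one_mul]

theorem qt_pow (t : Fin 2 → ZMod p) (n : ℕ) : qt p t ^ n = qt p (n • t) := by
  apply Subtype.ext
  show ((qt p t ^ n : ↥(Cfsg.qd p)) : Matrix.SpecialLinearGroup (Fin 3) (ZMod p)) = aff 1 (n • t)
  rw [Subgroup.coe_pow]
  show aff 1 t ^ n = aff 1 (n • t)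
  rw [aff_pow_one]

theorem qt_zero : qt p 0 = 1 := by
  apply Subtype.ext
  show aff 1 0 = 1
  rw [aff_one]

theorem qt_pow_p (t : Fin 2 → ZMod p) : qt p t ^ p = 1 := by
  rw [qt_pow]
  have h0 : (p • t : Fin 2 → ZMod p) = 0 := by
    ext i; simp
  rw [h0, qt_zero]

theorem qs_conj (A : Dk.SL2 (ZMod p)) (t : Fin 2 → ZMod p) :
    qs p A * qt p t * (qs p A)⁻¹ = qt p ((A : Matrix (Fin 2) (Fin 2) (ZMod p)).mulVec t) := by
  apply Subtype.ext
  show aff A 0 * aff 1 t * (aff A 0)⁻¹ = aff 1 _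
  rw [aff_conj]

theorem qt_ne_one (t : Fin 2 → ZMod p) (ht : t ≠ 0) : qt p t ≠ 1 := by
  intro h
  apply ht
  have h1 : aff (1 : Dk.SL2 (ZMod p)) t = aff 1 0 := by
    rw [aff_one]
    exact congrArg Subtype.val h
  exact (aff_inj h1).2

/-- The standard configuration inside `Qd(p)`. -/
theorem qd_std : ∃ v w a b : ↥(Cfsg.qd p), v ∈ Tr p ∧ w ∈ Tr p ∧ v ≠ 1 ∧ v ^ p = 1 ∧ w ^ p = 1 ∧
    a * v * a⁻¹ = v * w ∧ a * w * a⁻¹ = w ∧ b * w * b⁻¹ = w * v ∧ b * v * b⁻¹ = v := by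
  refine ⟨qt p ![1, 0], qt p ![0, 1], qs p (Dk.ll 1), qs p (Dk.uu 1), qt_mem p _, qt_mem p _,
    ?_, qt_pow_p p _, qt_pow_p p _, ?_, ?_, ?_, ?_⟩
  · apply qt_ne_one
    intro h
    have := congrFun h 0
    simp at this
  · rw [qs_conj, qt_mul]
    congr 1
    funext i
    fin_cases i <;> simp [Dk.ll, Dk.mk4, Matrix.mulVec, dotProduct, Fin.sum_univ_two]
  · rw [qs_conj]
    congr 1
    funext i
    fin_cases i <;> simp [Dk.ll, Dk.mk4, Matrix.mulVec, dotProduct, Fin.sum_univ_two]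
  · rw [qs_conj, qt_mul]
    congr 1
    funext i
    fin_cases i <;> simp [Dk.uu, Dk.mk4, Matrix.mulVec, dotProduct, Fin.sum_univ_two]
  · rw [qs_conj]
    congr 1
    funext i
    fin_cases i <;> simp [Dk.uu, Dk.mk4, Matrix.mulVec, dotProduct, Fin.sum_univ_two]

end qd

/-- The `Qd(p)` configuration modulo a subgroup `U` normalized by all four elements. -/
theorem qd_of_conf_mod {X : Type*} [Group X] [Finite X] {p : ℕ} [Fact p.Prime] (hp : p ≠ 2)
    (U : Subgroup X) (v w a b : X)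
    (hvN : v ∈ Subgroup.normalizer (U : Set X)) (hwN : w ∈ Subgroup.normalizer (U : Set X))
    (haN : a ∈ Subgroup.normalizer (U : Set X)) (hbN : b ∈ Subgroup.normalizer (U : Set X))
    (hvp : v ^ p ∈ U) (hwp : w ^ p ∈ U) (hvw : (w * v)⁻¹ * (v * w) ∈ U) (hv1 : v ∉ U)
    (hav : (v * w)⁻¹ * (a * v * a⁻¹) ∈ U) (haw : w⁻¹ * (a * w * a⁻¹) ∈ U)
    (hbw : (w * v)⁻¹ * (b * w * b⁻¹) ∈ U) (hbv : v⁻¹ * (b * v * b⁻¹) ∈ U) :
    Cfsg.Involves ↥(Cfsg.qd p) X := by
  haveI hn : (U.subgroupOf (Subgroup.normalizer (U : Set X))).Normal :=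
    Subgroup.normal_in_normalizer
  have key : ∀ (x y : ↥(Subgroup.normalizer (U : Set X))), (x : X)⁻¹ * (y : X) ∈ U →
      QuotientGroup.mk' (U.subgroupOf (Subgroup.normalizer (U : Set X))) x =
        QuotientGroup.mk' (U.subgroupOf (Subgroup.normalizer (U : Set X))) y := by
    intro x y h
    exact QuotientGroup.eq.2 (Subgroup.mem_subgroupOf.2 h)
  have h1 : Cfsg.Involves ↥(Cfsg.qd p)
      (↥(Subgroup.normalizer (U : Set X)) ⧸ U.subgroupOf (Subgroup.normalizer (U : Set X))) := by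
    refine qd_of_conf hp
      (QuotientGroup.mk' (U.subgroupOf (Subgroup.normalizer (U : Set X))) ⟨v, hvN⟩)
      (QuotientGroup.mk' (U.subgroupOf (Subgroup.normalizer (U : Set X))) ⟨w, hwN⟩)
      (QuotientGroup.mk' (U.subgroupOf (Subgroup.normalizer (U : Set X))) ⟨a, haN⟩)
      (QuotientGroup.mk' (U.subgroupOf (Subgroup.normalizer (U : Set X))) ⟨b, hbN⟩)
      ?_ ?_ ?_ ?_ ?_ ?_ ?_ ?_
    · rw [← map_pow, ← map_one (QuotientGroup.mk' (U.subgroupOf (Subgroup.normalizer (U : Set X))))]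
      apply (key _ _ _).symm
      simpa using hvp
    · rw [← map_pow, ← map_one (QuotientGroup.mk' (U.subgroupOf (Subgroup.normalizer (U : Set X))))]
      apply (key _ _ _).symm
      simpa using hwp
    · rw [← map_mul, ← map_mul]
      apply (key _ _ _).symm
      simpa using hvw
    · intro h
      apply hv1
      have h2 : (⟨v, hvN⟩ : ↥(Subgroup.normalizer (U : Set X))) ∈
          U.subgroupOf (Subgroup.normalizer (U : Set X)) := (QuotientGroup.eq_one_iff _).1 h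
      exact Subgroup.mem_subgroupOf.1 h2
    · rw [← map_inv, ← map_mul, ← map_mul, ← map_mul]
      apply (key _ _ _).symm
      simpa using hav
    · rw [← map_inv, ← map_mul, ← map_mul]
      apply (key _ _ _).symm
      simpa using haw
    · rw [← map_inv, ← map_mul, ← map_mul, ← map_mul]
      apply (key _ _ _).symm
      simpa using hbw
    · rw [← map_inv, ← map_mul, ← map_mul]
      apply (key _ _ _).symm
      simpa using hbv
  exact inv_trans h1 ⟨Subgroup.normalizer (U : Set X), U, hn, ⟨MulEquiv.refl _⟩⟩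

/-- `Qd(p)` stays involved in the quotient by a normal `p'`-subgroup. -/
theorem involves_qd_quot_pprime {X : Type*} [Group X] [Finite X] {p : ℕ} [Fact p.Prime]
    (O : Subgroup X) [O.Normal] (hO : (Nat.card O).Coprime p)
    (h : Cfsg.Involves ↥(Cfsg.qd p) X) : Cfsg.Involves ↥(Cfsg.qd p) (X ⧸ O) := by
  obtain ⟨K, R, hR, ⟨e⟩⟩ := h
  have hf : Function.Surjective (e.toMonoidHom.comp (QuotientGroup.mk' (R.subgroupOf K))) :=
    e.surjective.comp (QuotientGroup.mk'_surjective _)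
  apply involves_of_ker_le (e.toMonoidHom.comp (QuotientGroup.mk' (R.subgroupOf K))) hf
    ((QuotientGroup.mk' O).comp K.subtype)
  intro k hk
  rw [MonoidHom.mem_ker]
  have hkO : (k : X) ∈ O := by
    rw [MonoidHom.mem_ker] at hk
    exact (QuotientGroup.eq_one_iff _).1 hk
  by_contra hne
  have hMn : ((O.subgroupOf K).map
      (e.toMonoidHom.comp (QuotientGroup.mk' (R.subgroupOf K)))).Normal :=
    Subgroup.Normal.map inferInstance _ hf
  have hMne : (O.subgroupOf K).map (e.toMonoidHom.comp (QuotientGroup.mk' (R.subgroupOf K))) ≠ ⊥ := by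
    intro hb
    apply hne
    have : (e.toMonoidHom.comp (QuotientGroup.mk' (R.subgroupOf K))) k ∈
        (O.subgroupOf K).map (e.toMonoidHom.comp (QuotientGroup.mk' (R.subgroupOf K))) :=
      ⟨k, Subgroup.mem_subgroupOf.2 hkO, rfl⟩
    rw [hb, Subgroup.mem_bot] at this
    exact this
  have hle := tr_le_of_normal p _ hMn hMne
  obtain ⟨v, w, a, b, hvT, hwT, hv1, hvp, -⟩ := qd_std p
  obtain ⟨kv, hkv, hkvv⟩ := hle hvT
  have hkvO : (kv : X) ∈ O := Subgroup.mem_subgroupOf.1 hkv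
  have h1 : (kv : X) ^ Nat.card O = 1 := by
    have := pow_card_eq_one' (G := O) (x := ⟨(kv : X), hkvO⟩)
    exact congrArg Subtype.val this
  have h2 : kv ^ Nat.card O = 1 := Subtype.ext (by rw [Subgroup.coe_pow, h1]; rfl)
  have h3 : v ^ Nat.card O = 1 := by
    rw [← hkvv, ← map_pow, h2, map_one]
  have h4 : orderOf v ∣ Nat.card O := orderOf_dvd_of_pow_eq_one h3
  have h5 : orderOf v ∣ p := orderOf_dvd_of_pow_eq_one hvp
  have h6 : orderOf v ∣ 1 := by
    have := Nat.dvd_gcd h4 h5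
    rwa [Nat.Coprime.gcd_eq_one hO] at this
  exact hv1 (orderOf_eq_one_iff.1 (Nat.dvd_one.1 h6))

end Cfsg.Agent.Lib.helper15.QdS
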