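import Mathlib
import Cfsg.Agent.Lib.helper8.CoprimeAction
import Cfsg.Agent.Lib.helper14.Basic

set_option autoImplicit false

namespace Cfsg.Agent.Lib.helper15

open Cfsg.Agent.Lib.helper8 Cfsg.Agent.Lib.helper14
open scoped commutatorElement

universe u

/-- `y ^ n * x = c ^ n * (x * y ^ n)` when `y * x = c * (x * y)` and `c` commutes with `y`. -/
theorem pow_mul_comm_aux {G : Type*} [Group G] (x y c : G) (e : y * x = c * (x * y))
    (hy : Commute c y) (n : ℕ) : y ^ n * x = c ^ n * (x * y ^ n) := by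
  induction n with
  | zero => simp
  | succ n ih =>
    have h1 : y ^ n * c = c * y ^ n := ((hy.pow_right n).eq).symm
    calc y ^ (n + 1) * x = y ^ n * (y * x) := by rw [pow_succ, mul_assoc]
      _ = y ^ n * (c * (x * y)) := by rw [e]
      _ = (y ^ n * c) * (x * y) := by rw [mul_assoc]
      _ = c * y ^ n * (x * y) := by rw [h1]
      _ = c * (y ^ n * x) * y := by simp only [mul_assoc]
      _ = c * (c ^ n * (x * y ^ n)) * y := by rw [ih]
      _ = c ^ (n + 1) * (x * y ^ (n + 1)) := by
          rw [pow_succ' c, pow_succ y]; simp only [mul_assoc]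

/-- the class two power formula, elementwise. -/
theorem mul_pow_aux {G : Type*} [Group G] (x y c : G) (e : y * x = c * (x * y))
    (hx : Commute c x) (hy : Commute c y) (n : ℕ) :
    (x * y) ^ n = c ^ (n.choose 2) * (x ^ n * y ^ n) := by
  induction n with
  | zero => simp
  | succ n ih =>
    have hch : (n + 1).choose 2 = n.choose 2 + n := by
      rw [Nat.choose_succ_succ, Nat.choose_one_right, add_comm]
    have h1 : x ^ n * c ^ n = c ^ n * x ^ n := (((hx.pow_right n).pow_left n).eq).symm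
    calc (x * y) ^ (n + 1) = (x * y) ^ n * (x * y) := pow_succ _ _
      _ = c ^ (n.choose 2) * (x ^ n * y ^ n) * (x * y) := by rw [ih]
      _ = c ^ (n.choose 2) * (x ^ n * (y ^ n * x) * y) := by simp only [mul_assoc]
      _ = c ^ (n.choose 2) * (x ^ n * (c ^ n * (x * y ^ n)) * y) := by
          rw [pow_mul_comm_aux x y c e hy n]
      _ = c ^ (n.choose 2) * ((x ^ n * c ^ n) * (x * y ^ n) * y) := by simp only [mul_assoc]
      _ = c ^ (n.choose 2) * ((c ^ n * x ^ n) * (x * y ^ n) * y) := by rw [h1]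
      _ = c ^ ((n + 1).choose 2) * (x ^ (n + 1) * y ^ (n + 1)) := by
          rw [hch, pow_add, pow_succ x, pow_succ y]; simp only [mul_assoc]

/-- A nontrivial finite `p`-subgroup has a proper subgroup containing all its commutators and
all its `p`-th powers. -/
theorem exists_proper_frattini_like {G : Type*} [Group G] [Finite G] {p : ℕ} [Fact p.Prime]
    (Q : Subgroup G) (hQ : IsPGroup p Q) (hne : Q ≠ ⊥) :
    ∃ M : Subgroup G, M ≤ Q ∧ M ≠ Q ∧ (∀ a ∈ Q, ∀ b ∈ Q, ⁅a, b⁆ ∈ M) ∧ ∀ x ∈ Q, x ^ p ∈ M := by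
  have hp : p.Prime := Fact.out
  obtain ⟨k, hk⟩ := IsPGroup.iff_card.mp hQ
  have hk0 : k ≠ 0 := by
    rintro rfl
    rw [pow_zero] at hk
    exact hne (Subgroup.card_eq_one.mp hk)
  obtain ⟨j, rfl⟩ := Nat.exists_eq_succ_of_ne_zero hk0
  obtain ⟨M', hM'⟩ := Sylow.exists_subgroup_card_pow_prime (G := ↥Q) p (n := j)
    (by rw [hk]; exact pow_dvd_pow p (Nat.le_succ j))
  have hidx : M'.index = p := by
    have h1 := Subgroup.card_mul_index M'
    rw [hM', hk, pow_succ] at h1
    exact Nat.eq_of_mul_eq_mul_left (pow_pos hp.pos j) h1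
  have hnorm : M'.Normal := by
    apply Subgroup.normal_of_index_eq_minFac_card
    rw [hidx, hk, Nat.Prime.pow_minFac hp (Nat.succ_ne_zero j)]
  have hcard : Nat.card (↥Q ⧸ M') = p := by rw [← Subgroup.index_eq_card]; exact hidx
  have hcyc : IsCyclic (↥Q ⧸ M') := isCyclic_of_prime_card hcard
  refine ⟨M'.map Q.subtype, Subgroup.map_subtype_le M', ?_, ?_, ?_⟩
  · intro h
    have h2 : Nat.card ↥(M'.map Q.subtype) = Nat.card ↥Q := by rw [h]
    rw [Subgroup.card_map_of_injective Q.subtype_injective, hM', hk] at h2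
    have := Nat.pow_right_injective hp.two_le h2
    omega
  · intro a ha b hb
    refine ⟨⁅(⟨a, ha⟩ : ↥Q), ⟨b, hb⟩⁆, ?_, rfl⟩
    show ⁅(⟨a, ha⟩ : ↥Q), ⟨b, hb⟩⁆ ∈ M'
    rw [← QuotientGroup.eq_one_iff, commutatorElement_def]
    simp only [QuotientGroup.mk_mul, QuotientGroup.mk_inv]
    have hcomm : ∀ u v : ↥Q ⧸ M', u * v = v * u := fun u v =>
      (IsCyclic.isMulCommutative (α := ↥Q ⧸ M')).is_comm.comm u v
    rw [hcomm (QuotientGroup.mk ⟨a, ha⟩) (QuotientGroup.mk ⟨b, hb⟩)]
    group
  · intro x hx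
    refine ⟨(⟨x, hx⟩ : ↥Q) ^ p, ?_, rfl⟩
    show (⟨x, hx⟩ : ↥Q) ^ p ∈ M'
    rw [← QuotientGroup.eq_one_iff, QuotientGroup.mk_pow]
    have := pow_card_eq_one' (x := (QuotientGroup.mk ⟨x, hx⟩ : ↥Q ⧸ M'))
    rwa [hcard] at this

/-- Inductive form of `omega_centralize`. -/
theorem omega_centralize_aux {G : Type u} [Group G] [Finite G] {p : ℕ} [Fact p.Prime]
    (hp2 : p ≠ 2) (g : G) (hg : (orderOf g).Coprime p) :
    ∀ n : ℕ, ∀ Q : Subgroup G, Nat.card Q ≤ n → IsPGroup p Q →
      g ∈ Subgroup.normalizer (Q : Set G) → (∀ x ∈ Q, x ^ p = 1 → Commute g x) →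
      ∀ x ∈ Q, Commute g x := by
  have hp : p.Prime := Fact.out
  intro n
  induction n with
  | zero =>
    intro Q hn
    have := Nat.card_pos (α := Q)
    omega
  | succ n ih =>
    intro Q hn hQ hgN hΩ
    set A := Subgroup.zpowers g with hA
    have hAQ : A ≤ Subgroup.normalizer (Q : Set G) := Subgroup.zpowers_le.mpr hgN
    have hcop : (Nat.card A).Coprime (Nat.card Q) := by
      obtain ⟨k, hk⟩ := IsPGroup.iff_card.mp hQ
      rw [hk, Nat.card_zpowers]; exact Nat.Coprime.pow_right k hg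
    have hsolv : Group.IsSolvable A ∨ Group.IsSolvable Q := by
      right
      have := hQ.isNilpotent
      infer_instance
    have hIH : ∀ D : Subgroup G, D ≤ Q → D ≠ Q → g ∈ Subgroup.normalizer (D : Set G) →
        ∀ d ∈ D, Commute g d := by
      intro D hDQ hDne hgD
      apply ih D
      · by_contra hcon
        have : Nat.card Q ≤ Nat.card D := by omega
        exact hDne (Subgroup.eq_of_le_of_card_ge hDQ this)
      · exact hQ.to_le hDQ
      · exact hgD
      · intro x hx hxp; exact hΩ x (hDQ hx) hxp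
    have hcent_of : ∀ D : Subgroup G, (∀ d ∈ D, Commute g d) →
        A ≤ Subgroup.centralizer (D : Set G) := by
      intro D h
      rw [hA, Subgroup.zpowers_le, Subgroup.mem_centralizer_iff]
      intro d hd
      exact (h d hd).eq.symm
    by_cases hK : ⁅Q, A⁆ = Q
    · by_cases hQb : Q = ⊥
      · intro x hx
        rw [hQb, Subgroup.mem_bot] at hx
        rw [hx]; exact Commute.one_right g
      obtain ⟨M, hMQ, hMne, hMc, hMp⟩ := exists_proper_frattini_like Q hQ hQb
      set D : Subgroup G := Subgroup.closure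
        ({y | ∃ a ∈ Q, ∃ b ∈ Q, y = ⁅a, b⁆} ∪ {y | ∃ x ∈ Q, y = x ^ p}) with hD
      have hDM : D ≤ M := by
        rw [hD, Subgroup.closure_le]
        rintro y (⟨a, ha, b, hb, rfl⟩ | ⟨x, hx, rfl⟩)
        · exact hMc a ha b hb
        · exact hMp x hx
      have hDQ : D ≤ Q := hDM.trans hMQ
      have hDne : D ≠ Q := fun h => hMne (le_antisymm hMQ (h ▸ hDM))
      have hconj : ∀ h ∈ Subgroup.normalizer (Q : Set G), ∀ y ∈ D, h * y * h⁻¹ ∈ D := by
        intro h hh y hy
        have hle : D ≤ D.comap (MulAut.conj h).toMonoidHom := by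
          rw [hD, Subgroup.closure_le]
          rintro y (⟨a, ha, b, hb, rfl⟩ | ⟨x, hx, rfl⟩)
          · show h * ⁅a, b⁆ * h⁻¹ ∈ Subgroup.closure _
            have e : h * ⁅a, b⁆ * h⁻¹ = ⁅h * a * h⁻¹, h * b * h⁻¹⁆ := by
              simp only [commutatorElement_def]; group
            rw [e]
            exact Subgroup.subset_closure (Or.inl ⟨_, conj_mem_of_mem_normalizer hh ha, _,
              conj_mem_of_mem_normalizer hh hb, rfl⟩)
          · show h * x ^ p * h⁻¹ ∈ Subgroup.closure _
            rw [← conj_pow]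
            exact Subgroup.subset_closure (Or.inr ⟨_, conj_mem_of_mem_normalizer hh hx, rfl⟩)
        exact hle hy
      have hgD : g ∈ Subgroup.normalizer (D : Set G) := by
        rw [Subgroup.mem_normalizer_iff]
        intro y
        constructor
        · exact hconj g hgN y
        · intro hy
          have h1 := hconj g⁻¹ (Subgroup.inv_mem _ hgN) _ hy
          have e : g⁻¹ * (g * y * g⁻¹) * g⁻¹⁻¹ = y := by group
          rwa [e] at h1
      have hgcD := hIH D hDQ hDne hgD
      have hAD : ⁅A, D⁆ = ⊥ := by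
        rw [Subgroup.commutator_eq_bot_iff_le_centralizer]; exact hcent_of D hgcD
      have hDA : ⁅D, A⁆ = ⊥ := by rw [Subgroup.commutator_comm]; exact hAD
      have h1 : ⁅⁅A, D⁆, Q⁆ = ⊥ := by rw [hAD]; exact Subgroup.commutator_bot_left Q
      have h2 : ⁅⁅D, Q⁆, A⁆ = ⊥ := by
        have hle : ⁅D, Q⁆ ≤ D := by
          rw [Subgroup.commutator_le]
          intro d hd q hq
          exact Subgroup.subset_closure (Or.inl ⟨d, hDQ hd, q, hq, rfl⟩)
        exact le_bot_iff.mp (hDA ▸ Subgroup.commutator_mono hle le_rfl)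
      have h3 := Subgroup.commutator_commutator_eq_bot_of_rotate h1 h2
      rw [hK, Subgroup.commutator_eq_bot_iff_le_centralizer] at h3
      have hQD : ∀ q ∈ Q, ∀ d ∈ D, Commute d q := by
        intro q hq d hd
        exact Subgroup.mem_centralizer_iff.mp (h3 hq) d hd
      intro x hx
      set y := g * x⁻¹ * g⁻¹ with hy
      have hyQ : y ∈ Q := conj_mem_of_mem_normalizer hgN (Q.inv_mem hx)
      set c := ⁅y, x⁆ with hc
      have hcD : c ∈ D := Subgroup.subset_closure (Or.inl ⟨y, hyQ, x, hx, rfl⟩)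
      have hcx : Commute c x := hQD x hx c hcD
      have hcy : Commute c y := hQD y hyQ c hcD
      have e : y * x = c * (x * y) := by rw [hc, commutatorElement_def]; group
      have hxpD : x ^ p ∈ D := Subgroup.subset_closure (Or.inr ⟨x, hx, rfl⟩)
      have hypD : y ^ p ∈ D := Subgroup.subset_closure (Or.inr ⟨y, hyQ, rfl⟩)
      have hcp : c ^ p = 1 := by
        have h4 := pow_mul_comm_aux x y c e hcy p
        have h5 : y ^ p * x = x * y ^ p := (hQD x hx _ hypD).eq
        rw [h5] at h4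
        exact mul_eq_right.mp h4.symm
      have hyp : y ^ p = (x ^ p)⁻¹ := by
        have h6 : Commute g (x ^ p) := hgcD _ hxpD
        rw [hy, conj_pow, inv_pow]
        have h7 : g * (x ^ p)⁻¹ = (x ^ p)⁻¹ * g := (h6.inv_right).eq
        rw [h7]; group
      have hxy : (x * y) ^ p = 1 := by
        obtain ⟨m, hm⟩ := hp.dvd_choose_self (by norm_num : (2 : ℕ) ≠ 0)
          (lt_of_le_of_ne hp.two_le (Ne.symm hp2))
        rw [mul_pow_aux x y c e hcx hcy p, hm, pow_mul, hcp, one_pow, one_mul, hyp,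
          mul_inv_cancel]
      have hxg : ⁅x, g⁆ = x * y := by rw [hy, commutatorElement_def]; group
      have hcQ : ⁅x, g⁆ ∈ Q := by rw [hxg]; exact Q.mul_mem hx hyQ
      have hcomm : Commute ⁅x, g⁆ g := (hΩ _ hcQ (by rw [hxg]; exact hxy)).symm
      have h7 := commutator_eq_one_of_coprime x g hcomm
        ⟨1, by rw [pow_one, hxg]; exact hxy⟩ hg
      rw [commutatorElement_def] at h7
      show g * x = x * g
      have h8 : x * g = (x * g * x⁻¹ * g⁻¹) * (g * x) := by group
      rw [h8, h7, one_mul]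
    · have hKQ : ⁅Q, A⁆ ≤ Q := commutator_le_of_le_normalizer hAQ
      have hgK : g ∈ Subgroup.normalizer ((⁅Q, A⁆ : Subgroup G) : Set G) :=
        le_normalizer_commutator_right hAQ (Subgroup.mem_zpowers g)
      have hgcK := hIH _ hKQ hK hgK
      have h1 : ⁅⁅Q, A⁆, A⁆ = ⊥ := by
        rw [Subgroup.commutator_comm, Subgroup.commutator_eq_bot_iff_le_centralizer]
        exact hcent_of _ hgcK
      rw [commutator_commutator_eq A Q hAQ hcop hsolv,
        Subgroup.commutator_eq_bot_iff_le_centralizer] at h1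
      intro x hx
      exact Subgroup.mem_centralizer_iff.mp (h1 hx) g (Subgroup.mem_zpowers g)

/-- Let `p` be odd, `Q` a `p`-subgroup of the finite group `G`, and `g` an element of order
prime to `p` normalizing `Q` and centralizing every element `x` of `Q` with `x ^ p = 1`.
Then `g` centralizes `Q`. -/
theorem omega_centralize {G : Type u} [Group G] [Finite G] {p : ℕ} [Fact p.Prime] (hp2 : p ≠ 2)
    (Q : Subgroup G) (hQ : IsPGroup p Q) (g : G) (hgN : g ∈ Subgroup.normalizer (Q : Set G))
    (hg : (orderOf g).Coprime p) (hΩ : ∀ x ∈ Q, x ^ p = 1 → Commute g x) :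
    g ∈ Subgroup.centralizer (Q : Set G) := by
  rw [Subgroup.mem_centralizer_iff]
  intro x hx
  exact ((omega_centralize_aux hp2 g hg _ Q le_rfl hQ hgN hΩ x hx).eq).symm

end Cfsg.Agent.Lib.helper15
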