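import Mathlib
import Cfsg.Agent.Lib.helper15.QdSec

set_option autoImplicit false
set_option linter.style.haveILetI false

namespace Cfsg.Agent.Lib.helper15.QdS

open Cfsg Cfsg.Agent.Lib.helper15 Cfsg.Agent.Lib.helper15.Qd

section rel

variable {L : Type*} {G : Type*} [Group L] [Group G] {Q : Subgroup G} (j : Q →* L)

/-- `g` acts on `Q` as `l` acts on `j(Q)`. -/
def Rel (l : L) (g : G) : Prop :=
  ∀ q : Q, ∃ h : g * (q : G) * g⁻¹ ∈ Q, j ⟨g * q * g⁻¹, h⟩ = l * j q * l⁻¹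

theorem rel_one : Rel j 1 1 := by
  intro q
  have h : (1 : G) * (q : G) * 1⁻¹ ∈ Q := by simp
  refine ⟨h, ?_⟩
  have e : (⟨(1 : G) * (q : G) * 1⁻¹, h⟩ : Q) = q := Subtype.ext (by simp)
  rw [e]; simp

theorem rel_mul {l₁ l₂ : L} {g₁ g₂ : G} (h₁ : Rel j l₁ g₁) (h₂ : Rel j l₂ g₂) :
    Rel j (l₁ * l₂) (g₁ * g₂) := by
  intro q
  obtain ⟨h2, e2⟩ := h₂ q
  obtain ⟨h1, e1⟩ := h₁ ⟨_, h2⟩
  have e : g₁ * g₂ * (q : G) * (g₁ * g₂)⁻¹ = g₁ * (g₂ * q * g₂⁻¹) * g₁⁻¹ := by group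
  have h : g₁ * g₂ * (q : G) * (g₁ * g₂)⁻¹ ∈ Q := by rw [e]; exact h1
  refine ⟨h, ?_⟩
  have e' : (⟨g₁ * g₂ * (q : G) * (g₁ * g₂)⁻¹, h⟩ : Q) = ⟨g₁ * (g₂ * q * g₂⁻¹) * g₁⁻¹, h1⟩ :=
    Subtype.ext e
  rw [e', e1, e2]
  group

theorem rel_inv [Finite G] (_hj : Function.Injective j) {l : L} {g : G} (h : Rel j l g) :
    Rel j l⁻¹ g⁻¹ := by
  intro q
  have hinj : Function.Injective (fun x : Q => (⟨g * (x : G) * g⁻¹, (h x).1⟩ : Q)) := by
    intro x y hxy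
    have h1 : g * (x : G) * g⁻¹ = g * (y : G) * g⁻¹ := congrArg Subtype.val hxy
    exact Subtype.ext (mul_left_cancel (mul_right_cancel h1))
  obtain ⟨q', hq'⟩ := Finite.injective_iff_surjective.1 hinj q
  have h1 : g * (q' : G) * g⁻¹ = q := congrArg Subtype.val hq'
  have e : g⁻¹ * (q : G) * g⁻¹⁻¹ = q' := by rw [← h1]; group
  have hm : g⁻¹ * (q : G) * g⁻¹⁻¹ ∈ Q := by rw [e]; exact q'.2
  refine ⟨hm, ?_⟩
  have e' : (⟨g⁻¹ * (q : G) * g⁻¹⁻¹, hm⟩ : Q) = q' := Subtype.ext e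
  rw [e']
  obtain ⟨h2, e2⟩ := h q'
  have e3 : (⟨g * (q' : G) * g⁻¹, h2⟩ : Q) = q := Subtype.ext h1
  rw [e3] at e2
  rw [e2]
  group

/-- Conjugation by a related element preserves the centre of `Q`. -/
theorem rel_center [Finite G] (hj : Function.Injective j) {l : L} {g : G} (h : Rel j l g)
    (z : Q) (hz : z ∈ Subgroup.center Q) :
    (⟨g * (z : G) * g⁻¹, (h z).1⟩ : Q) ∈ Subgroup.center Q := by
  rw [Subgroup.mem_center_iff]
  intro q
  obtain ⟨hm, -⟩ := rel_inv j hj h q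
  have hz' := (Subgroup.mem_center_iff.1 hz) ⟨_, hm⟩
  have hz'' : g⁻¹ * (q : G) * g⁻¹⁻¹ * (z : G) = (z : G) * (g⁻¹ * (q : G) * g⁻¹⁻¹) :=
    congrArg Subtype.val hz'
  apply Subtype.ext
  show (q : G) * (g * (z : G) * g⁻¹) = g * (z : G) * g⁻¹ * (q : G)
  have e1 : (q : G) * (g * (z : G) * g⁻¹) = g * (g⁻¹ * (q : G) * g⁻¹⁻¹ * (z : G)) * g⁻¹ := by group
  rw [e1, hz'']
  group

end rel

/-- Transfer of `Qd(p)`-involvement from a group `L` acting on a copy of `Q` to a group `G`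
containing `Q`, when every element of `L` acts on `Q` as some element of `G` does and the
`p`-elements of `L` centralizing `Q` come from the centre of `Q`. -/
theorem involves_of_model_rel {L : Type*} {G : Type*} [Group L] [Group G] [Finite L] [Finite G]
    {p : ℕ} [Fact p.Prime] (hp : p ≠ 2) (Q : Subgroup G) (j : Q →* L)
    (hj : Function.Injective j)
    (hR1 : ∀ l : L, ∃ g : G, Rel j l g)
    (hC : ∀ l : L, (∃ k : ℕ, l ^ p ^ k = 1) → (∀ x : Q, l * j x * l⁻¹ = j x) →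
        ∃ z : Q, z ∈ Subgroup.center Q ∧ j z = l)
    (h : Cfsg.Involves ↥(Cfsg.qd p) L) : Cfsg.Involves ↥(Cfsg.qd p) G := by
  classical
  have hpp : p.Prime := Fact.out
  obtain ⟨K, R, hRn, ⟨e⟩⟩ := h
  obtain ⟨f, hfdef⟩ : ∃ f : K →* ↥(Cfsg.qd p),
      f = e.toMonoidHom.comp (QuotientGroup.mk' (R.subgroupOf K)) := ⟨_, rfl⟩
  have hf : Function.Surjective f := by
    rw [hfdef]; exact e.surjective.comp (QuotientGroup.mk'_surjective _)
  have hfker : ∀ k : K, f k = 1 ↔ (k : L) ∈ R := by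
    intro k
    rw [hfdef]
    show e (QuotientGroup.mk' (R.subgroupOf K) k) = 1 ↔ _
    rw [MulEquiv.map_eq_one_iff]
    exact (QuotientGroup.eq_one_iff k).trans Subgroup.mem_subgroupOf
  -- the graph subgroup
  let Γ : Subgroup (L × G) :=
    { carrier := {x | x.1 ∈ K ∧ Rel j x.1 x.2 ∧ Rel j x.1⁻¹ x.2⁻¹}
      mul_mem' := by
        rintro x y ⟨hx1, hx2, hx3⟩ ⟨hy1, hy2, hy3⟩
        refine ⟨K.mul_mem hx1 hy1, rel_mul j hx2 hy2, ?_⟩
        show Rel j (x.1 * y.1)⁻¹ (x.2 * y.2)⁻¹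
        rw [mul_inv_rev, mul_inv_rev]
        exact rel_mul j hy3 hx3
      one_mem' := by
        refine ⟨K.one_mem, rel_one j, ?_⟩
        show Rel j (1 : L)⁻¹ (1 : G)⁻¹
        rw [inv_one, inv_one]
        exact rel_one j
      inv_mem' := by
        rintro x ⟨hx1, hx2, hx3⟩
        refine ⟨K.inv_mem hx1, hx3, ?_⟩
        show Rel j (x.1⁻¹)⁻¹ (x.2⁻¹)⁻¹
        rw [inv_inv, inv_inv]
        exact hx2 }
  let π₁ : Γ →* K := ((MonoidHom.fst L G).comp Γ.subtype).codRestrict K (fun x => x.2.1)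
  let π₂ : Γ →* G := (MonoidHom.snd L G).comp Γ.subtype
  have hF₁ : Function.Surjective (f.comp π₁) := by
    intro y
    obtain ⟨k, rfl⟩ := hf y
    obtain ⟨g, hg⟩ := hR1 (k : L)
    exact ⟨⟨((k : L), g), k.2, hg, rel_inv j hj hg⟩, rfl⟩
  by_cases hA : ∀ γ : Γ, π₂ γ = 1 → f (π₁ γ) = 1
  · exact involves_of_ker_le (f.comp π₁) hF₁ π₂
      (fun γ hγ => MonoidHom.mem_ker.2 (hA γ (MonoidHom.mem_ker.1 hγ)))
  push Not at hA
  obtain ⟨γ₀, hγ₀1, hγ₀f⟩ := hA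
  have hMn : (π₂.ker.map (f.comp π₁)).Normal := Subgroup.Normal.map inferInstance _ hF₁
  have hMne : π₂.ker.map (f.comp π₁) ≠ ⊥ := by
    intro hb
    apply hγ₀f
    have : (f.comp π₁) γ₀ ∈ π₂.ker.map (f.comp π₁) := ⟨γ₀, MonoidHom.mem_ker.2 hγ₀1, rfl⟩
    rw [hb, Subgroup.mem_bot] at this
    exact this
  have hle := tr_le_of_normal p _ hMn hMne
  obtain ⟨v, w, a, b, hvT, hwT, hv1, hvp, hwp, hav, haw, hbw, hbv⟩ := qd_std p
  have hvw : v * w = w * v := tr_comm p v hvT w hwT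
  -- central lifts of translations
  have lift : ∀ t ∈ Tr p, t ^ p = 1 → ∃ (k : K) (z : Q), f k = t ∧ z ∈ Subgroup.center Q ∧
      j z = (k : L) := by
    intro t ht htp
    obtain ⟨γ, hγ, hγt⟩ := hle ht
    have hγ2 : (γ : L × G).2 = 1 := MonoidHom.mem_ker.1 hγ
    have hcen : ∀ x : Q, (γ : L × G).1 * j x * ((γ : L × G).1)⁻¹ = j x := by
      intro x
      obtain ⟨hm, hx⟩ := γ.2.2.1 x
      rw [← hx]
      congr 1
      apply Subtype.ext
      show (γ : L × G).2 * (x : G) * ((γ : L × G).2)⁻¹ = x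
      rw [hγ2]; simp
    obtain ⟨k₀, m, hm, hkm⟩ := Nat.exists_eq_pow_mul_and_not_dvd
      (orderOf_pos (γ : L × G).1).ne' p hpp.ne_one
    have hcop : Nat.Coprime m p := (Nat.Coprime.symm ((Nat.Prime.coprime_iff_not_dvd hpp).2 hm))
    obtain ⟨c, -, hc⟩ := Nat.exists_mul_mod_eq_one_of_coprime hcop hpp.one_lt
    have hpow : ((γ : L × G).1 ^ (m * c)) ^ p ^ k₀ = 1 := by
      rw [← pow_mul]
      have e1 : m * c * p ^ k₀ = orderOf (γ : L × G).1 * c := by rw [hkm]; ring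
      rw [e1, pow_mul, pow_orderOf_eq_one, one_pow]
    have hcen' : ∀ x : Q, (γ : L × G).1 ^ (m * c) * j x * ((γ : L × G).1 ^ (m * c))⁻¹ = j x := by
      intro x
      have hcomm : Commute ((γ : L × G).1) (j x) := by
        have := hcen x
        rw [mul_inv_eq_iff_eq_mul] at this
        exact this
      have := (hcomm.pow_left (m * c)).eq
      rw [this, mul_inv_cancel_right]
    obtain ⟨z, hz, hjz⟩ := hC _ ⟨k₀, hpow⟩ hcen'
    refine ⟨π₁ γ ^ (m * c), z, ?_, hz, ?_⟩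
    · rw [map_pow]
      have h1 : f (π₁ γ) = t := hγt
      rw [h1]
      have h2 : t ^ (m * c) = t ^ (m * c % p) := by
        conv_lhs => rw [← Nat.div_add_mod (m * c) p]
        rw [pow_add, pow_mul, htp, one_pow, one_mul]
      rw [h2, hc, pow_one]
    · rw [hjz]
      rfl
  obtain ⟨kv, zv, hfv, hzv, hjv⟩ := lift v hvT hvp
  obtain ⟨kw, zw, hfw, hzw, hjw⟩ := lift w hwT hwp
  obtain ⟨γa, hγa⟩ := hF₁ a
  obtain ⟨γb, hγb⟩ := hF₁ b
  have hfa : f (π₁ γa) = a := hγa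
  have hfb : f (π₁ γb) = b := hγb
  have hra : Rel j ((π₁ γa : K) : L) (γa : L × G).2 := γa.2.2.1
  have hrb : Rel j ((π₁ γb : K) : L) (γb : L × G).2 := γb.2.2.1
  -- the subgroup U₀
  obtain ⟨U₀, hU₀⟩ : ∃ U₀ : Subgroup G,
      U₀ = (((K ⊓ R).comap j) ⊓ Subgroup.center Q).map Q.subtype := ⟨_, rfl⟩
  have hU : ∀ (y : Q) (k : K), y ∈ Subgroup.center Q → j y = (k : L) → f k = 1 →
      (y : G) ∈ U₀ := by
    intro y k hy hjy hfk
    rw [hU₀]
    refine ⟨y, ⟨?_, hy⟩, rfl⟩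
    show j y ∈ K ⊓ R
    rw [hjy]
    exact ⟨k.2, (hfker k).1 hfk⟩
  have hUmem : ∀ x ∈ U₀, ∃ y : Q, y ∈ Subgroup.center Q ∧ j y ∈ K ∧ j y ∈ R ∧ (y : G) = x := by
    intro x hx
    rw [hU₀] at hx
    obtain ⟨y, ⟨hy1, hy2⟩, rfl⟩ := hx
    exact ⟨y, hy2, hy1.1, hy1.2, rfl⟩
  have hcz : ∀ (z y : Q), y ∈ Subgroup.center Q → (z : G) * (y : G) * (z : G)⁻¹ = y := by
    intro z y hy
    have := congrArg Subtype.val ((Subgroup.mem_center_iff.1 hy) z)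
    rw [Subgroup.coe_mul, Subgroup.coe_mul] at this
    rw [this]; group
  have hNz : ∀ z : Q, (z : G) ∈ Subgroup.normalizer (U₀ : Set G) := by
    intro z
    apply Cfsg.Agent.Lib.helper14.mem_normalizer_of_forall_conj_mem U₀
    intro x hx
    obtain ⟨y, hy, -, -, rfl⟩ := hUmem x hx
    rw [hcz z y hy]
    exact hx
  have hNγ : ∀ γ : Γ, (γ : L × G).2 ∈ Subgroup.normalizer (U₀ : Set G) := by
    intro γ
    apply Cfsg.Agent.Lib.helper14.mem_normalizer_of_forall_conj_mem U₀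
    intro x hx
    obtain ⟨y, hy, hyK, hyR, rfl⟩ := hUmem x hx
    obtain ⟨hm, hjm⟩ := γ.2.2.1 y
    have hcen := rel_center j hj γ.2.2.1 y hy
    rw [hU₀]
    refine ⟨⟨_, hm⟩, ⟨?_, hcen⟩, rfl⟩
    show j _ ∈ K ⊓ R
    rw [hjm]
    refine ⟨K.mul_mem (K.mul_mem γ.2.1 hyK) (K.inv_mem γ.2.1), ?_⟩
    have h1 : (⟨j y, hyK⟩ : K) ∈ R.subgroupOf K := Subgroup.mem_subgroupOf.2 hyR
    have h2 := hRn.conj_mem _ h1 ⟨(γ : L × G).1, γ.2.1⟩
    exact Subgroup.mem_subgroupOf.1 h2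
  -- conjugates of central elements
  have hconj : ∀ (γ : Γ) (z : Q) (k : K), z ∈ Subgroup.center Q → j z = (k : L) →
      ∃ y : Q, y ∈ Subgroup.center Q ∧ (y : G) = (γ : L × G).2 * (z : G) * ((γ : L × G).2)⁻¹ ∧
        j y = ((π₁ γ * k * (π₁ γ)⁻¹ : K) : L) := by
    intro γ z k hz hjz
    obtain ⟨hm, hjm⟩ := γ.2.2.1 z
    refine ⟨⟨_, hm⟩, rel_center j hj γ.2.2.1 z hz, rfl, ?_⟩
    rw [hjm, hjz]
    rfl
  obtain ⟨yav, hyav, heav, hjav⟩ := hconj γa zv kv hzv hjv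
  obtain ⟨yaw, hyaw, heaw, hjaw⟩ := hconj γa zw kw hzw hjw
  obtain ⟨ybv, hybv, hebv, hjbv⟩ := hconj γb zv kv hzv hjv
  obtain ⟨ybw, hybw, hebw, hjbw⟩ := hconj γb zw kw hzw hjw
  have hcm : ∀ {x y : Q}, x ∈ Subgroup.center Q → y ∈ Subgroup.center Q →
      x * y ∈ Subgroup.center Q := fun hx hy => Subgroup.mul_mem _ hx hy
  have hci : ∀ {x : Q}, x ∈ Subgroup.center Q → x⁻¹ ∈ Subgroup.center Q :=
    fun hx => Subgroup.inv_mem _ hx
  refine qd_of_conf_mod hp U₀ (zv : G) (zw : G) (γa : L × G).2 (γb : L × G).2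
    (hNz zv) (hNz zw) (hNγ γa) (hNγ γb) ?_ ?_ ?_ ?_ ?_ ?_ ?_ ?_
  · have := hU (zv ^ p) (kv ^ p) (Subgroup.pow_mem _ hzv p)
      (by rw [map_pow, hjv]; rfl) (by rw [map_pow, hfv, hvp])
    simpa using this
  · have := hU (zw ^ p) (kw ^ p) (Subgroup.pow_mem _ hzw p)
      (by rw [map_pow, hjw]; rfl) (by rw [map_pow, hfw, hwp])
    simpa using this
  · have := hU ((zw * zv)⁻¹ * (zv * zw)) ((kw * kv)⁻¹ * (kv * kw))
      (hcm (hci (hcm hzw hzv)) (hcm hzv hzw))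
      (by simp only [map_mul, map_inv, hjv, hjw]; rfl)
      (by simp only [map_mul, map_inv, hfv, hfw]; rw [hvw]; group)
    simpa using this
  · intro hmem
    obtain ⟨y, hy, hyK, hyR, hyz⟩ := hUmem _ hmem
    have hyz' : y = zv := Subtype.ext hyz
    rw [hyz', hjv] at hyR
    exact hv1 (hfv ▸ (hfker kv).2 hyR)
  · have := hU ((zv * zw)⁻¹ * yav) ((kv * kw)⁻¹ * (π₁ γa * kv * (π₁ γa)⁻¹))
      (hcm (hci (hcm hzv hzw)) hyav)
      (by simp only [map_mul, map_inv, hjv, hjw, hjav]; rfl)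
      (by simp only [map_mul, map_inv, hfv, hfw, hfa]; rw [hav]; group)
    simpa [heav] using this
  · have := hU (zw⁻¹ * yaw) (kw⁻¹ * (π₁ γa * kw * (π₁ γa)⁻¹))
      (hcm (hci hzw) hyaw)
      (by simp only [map_mul, map_inv, hjw, hjaw]; rfl)
      (by simp only [map_mul, map_inv, hfw, hfa]; rw [haw]; group)
    simpa [heaw] using this
  · have := hU ((zw * zv)⁻¹ * ybw) ((kw * kv)⁻¹ * (π₁ γb * kw * (π₁ γb)⁻¹))
      (hcm (hci (hcm hzw hzv)) hybw)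
      (by simp only [map_mul, map_inv, hjv, hjw, hjbw]; rfl)
      (by simp only [map_mul, map_inv, hfv, hfw, hfb]; rw [hbw]; group)
    simpa [hebw] using this
  · have := hU (zv⁻¹ * ybv) (kv⁻¹ * (π₁ γb * kv * (π₁ γb)⁻¹))
      (hcm (hci hzv) hybv)
      (by simp only [map_mul, map_inv, hjv, hjbv]; rfl)
      (by simp only [map_mul, map_inv, hfv, hfb]; rw [hbv]; group)
    simpa [hebv] using this

end Cfsg.Agent.Lib.helper15.QdS
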