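import Mathlib
import Cfsg.Agent.Lib.helper15.QdSec
import Cfsg.Agent.Lib.helper25.GroupFusion
import Cfsg.Agent.Lib.helper25.SylowAux
import Cfsg.Agent.Lib.helper16.Syl

set_option autoImplicit false
set_option linter.style.haveILetI false

namespace Cfsg.Agent.Lib.helper15.QdS

open Cfsg Cfsg.Agent.Lib.helper25 Cfsg.Agent.Lib.helper15

universe u

/-- A `Qd(p)` configuration on a subgroup `Q` modulo a subgroup `U`. -/
def QdData (p : ℕ) {X : Type*} [Group X] (Q U : Subgroup X) : Prop :=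
  ∃ v w a b : X, v ∈ Q ∧ w ∈ Q ∧ (∀ x ∈ Q, a * x * a⁻¹ ∈ Q) ∧ (∀ x ∈ Q, b * x * b⁻¹ ∈ Q) ∧
    U ≤ Q ∧ (∀ x ∈ Q, ∀ u ∈ U, x * u * x⁻¹ ∈ U) ∧ (∀ u ∈ U, a * u * a⁻¹ ∈ U) ∧
    (∀ u ∈ U, b * u * b⁻¹ ∈ U) ∧
    v ^ p ∈ U ∧ w ^ p ∈ U ∧ (w * v)⁻¹ * (v * w) ∈ U ∧ v ∉ U ∧
    (v * w)⁻¹ * (a * v * a⁻¹) ∈ U ∧ w⁻¹ * (a * w * a⁻¹) ∈ U ∧
    (w * v)⁻¹ * (b * w * b⁻¹) ∈ U ∧ v⁻¹ * (b * v * b⁻¹) ∈ U

theorem QdData.map {p : ℕ} {X Y : Type*} [Group X] [Group Y] {Q U : Subgroup X} (θ : X →* Y)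
    (hθ : Function.Injective θ) (h : QdData p Q U) : QdData p (Q.map θ) (U.map θ) := by
  obtain ⟨v, w, a, b, hv, hw, haQ, hbQ, hUQ, hQU, haU, hbU, hvp, hwp, hvw, hv1, hav, haw, hbw,
    hbv⟩ := h
  refine ⟨θ v, θ w, θ a, θ b, Subgroup.mem_map_of_mem θ hv, Subgroup.mem_map_of_mem θ hw, ?_, ?_,
    Subgroup.map_mono hUQ, ?_, ?_, ?_, ?_, ?_, ?_, ?_, ?_, ?_, ?_, ?_⟩
  · rintro _ ⟨x, hx, rfl⟩
    simp only [← map_mul, ← map_inv]
    exact Subgroup.mem_map_of_mem θ (haQ x hx)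
  · rintro _ ⟨x, hx, rfl⟩
    simp only [← map_mul, ← map_inv]
    exact Subgroup.mem_map_of_mem θ (hbQ x hx)
  · rintro _ ⟨x, hx, rfl⟩ _ ⟨u, hu, rfl⟩
    simp only [← map_mul, ← map_inv]
    exact Subgroup.mem_map_of_mem θ (hQU x hx u hu)
  · rintro _ ⟨u, hu, rfl⟩
    simp only [← map_mul, ← map_inv]
    exact Subgroup.mem_map_of_mem θ (haU u hu)
  · rintro _ ⟨u, hu, rfl⟩
    simp only [← map_mul, ← map_inv]
    exact Subgroup.mem_map_of_mem θ (hbU u hu)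
  · simp only [← map_pow]
    exact Subgroup.mem_map_of_mem θ hvp
  · simp only [← map_pow]
    exact Subgroup.mem_map_of_mem θ hwp
  · simp only [← map_mul, ← map_inv]
    exact Subgroup.mem_map_of_mem θ hvw
  · rintro ⟨u, hu, hθu⟩
    exact hv1 (hθ hθu ▸ hu)
  · simp only [← map_mul, ← map_inv]
    exact Subgroup.mem_map_of_mem θ hav
  · simp only [← map_mul, ← map_inv]
    exact Subgroup.mem_map_of_mem θ haw
  · simp only [← map_mul, ← map_inv]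
    exact Subgroup.mem_map_of_mem θ hbw
  · simp only [← map_mul, ← map_inv]
    exact Subgroup.mem_map_of_mem θ hbv

/-- Frattini argument: an involved `Qd(p)` gives a `Qd(p)` configuration on a `p`-subgroup. -/
theorem qddata_of_involves {G : Type u} [Group G] [Finite G] {p : ℕ} [Fact p.Prime]
    (h : Cfsg.Involves ↥(Cfsg.qd p) G) : ∃ Q U : Subgroup G, IsPGroup p Q ∧ QdData p Q U := by
  classical
  obtain ⟨K, R, hRn, ⟨e⟩⟩ := h
  obtain ⟨f, hfdef⟩ : ∃ f : K →* ↥(Cfsg.qd p),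
      f = e.toMonoidHom.comp (QuotientGroup.mk' (R.subgroupOf K)) := ⟨_, rfl⟩
  have hf : Function.Surjective f := by
    rw [hfdef]; exact e.surjective.comp (QuotientGroup.mk'_surjective _)
  haveI hTrn : (Tr p).Normal := ⟨fun y hy g => tr_conj p g y hy⟩
  haveI hV₁n : ((Tr p).comap f).Normal := inferInstance
  obtain ⟨T₁⟩ : Nonempty (Sylow p ↥((Tr p).comap f)) := inferInstance
  have hfrat := Sylow.normalizer_sup_eq_top T₁
  obtain ⟨Q₁, hQ₁⟩ : ∃ Q₁ : Subgroup K,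
      Q₁ = (T₁ : Subgroup ↥((Tr p).comap f)).map ((Tr p).comap f).subtype := ⟨_, rfl⟩
  have hQ₁p : IsPGroup p Q₁ := by rw [hQ₁]; exact T₁.isPGroup'.map _
  have hlift : ∀ t ∈ Tr p, ∃ q ∈ Q₁, f q = t := by
    intro t ht
    obtain ⟨f', hf'def⟩ : ∃ f' : ↥((Tr p).comap f) →* ↥(Tr p),
        f' = (f.comp ((Tr p).comap f).subtype).codRestrict (Tr p) (fun x => x.2) := ⟨_, rfl⟩
    have hf' : Function.Surjective f' := by
      rintro ⟨t', ht'⟩
      obtain ⟨k, rfl⟩ := hf t'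
      exact ⟨⟨k, ht'⟩, by rw [hf'def]; rfl⟩
    have hmax := (T₁.mapSurjective hf').is_maximal' (Q := ⊤) ((tr_pgroup p).to_subgroup ⊤) le_top
    have hmem : (⟨t, ht⟩ : ↥(Tr p)) ∈ ((T₁.mapSurjective hf' : Sylow p ↥(Tr p)) :
        Subgroup ↥(Tr p)) := by
      have : (⟨t, ht⟩ : ↥(Tr p)) ∈ (⊤ : Subgroup ↥(Tr p)) := Subgroup.mem_top _
      rw [hmax] at this
      exact this
    rw [Sylow.coe_mapSurjective] at hmem
    obtain ⟨q, hq, hqt⟩ := hmem
    refine ⟨(q : K), by rw [hQ₁]; exact ⟨q, hq, rfl⟩, ?_⟩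
    have := congrArg Subtype.val hqt
    rw [hf'def] at this
    exact this
  obtain ⟨v, w, a, b, hvT, hwT, hv1, hvp, hwp, hav, haw, hbw, hbv⟩ := qd_std p
  have hvw : v * w = w * v := tr_comm p v hvT w hwT
  obtain ⟨v₁, hv₁Q, hfv⟩ := hlift v hvT
  obtain ⟨w₁, hw₁Q, hfw⟩ := hlift w hwT
  have hnlift : ∀ y : ↥(Cfsg.qd p), ∃ n ∈ Subgroup.normalizer (Q₁ : Set K),
      ∀ t ∈ Tr p, f n * t * (f n)⁻¹ = y * t * y⁻¹ := by
    intro y
    obtain ⟨k, rfl⟩ := hf y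
    have hk : k ∈ Subgroup.normalizer (Q₁ : Set K) ⊔ (Tr p).comap f := by
      rw [hQ₁, hfrat]; exact Subgroup.mem_top _
    obtain ⟨n, hn, u, hu, hnu⟩ := Subgroup.mem_sup_of_normal_right.1 hk
    refine ⟨n, hn, fun t ht => ?_⟩
    have hfu : f u ∈ Tr p := hu
    have e1 : f k = f n * f u := by rw [← hnu, map_mul]
    rw [e1]
    have hc : f u * t * (f u)⁻¹ = t := by rw [tr_comm p (f u) hfu t ht]; group
    have e2 : f n * f u * t * (f n * f u)⁻¹ = f n * (f u * t * (f u)⁻¹) * (f n)⁻¹ := by group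
    rw [e2, hc]
  obtain ⟨a₁, ha₁N, ha₁⟩ := hnlift a
  obtain ⟨b₁, hb₁N, hb₁⟩ := hnlift b
  have hdata : QdData p Q₁ (Q₁ ⊓ f.ker) := by
    have hnQ : ∀ n ∈ Subgroup.normalizer (Q₁ : Set K), ∀ x ∈ Q₁, n * x * n⁻¹ ∈ Q₁ :=
      fun n hn x hx => (Subgroup.mem_normalizer_iff.1 hn x).1 hx
    have hker : ∀ (n x : K), x ∈ f.ker → n * x * n⁻¹ ∈ f.ker :=
      fun n x hx => (inferInstance : f.ker.Normal).conj_mem x hx n
    have hU : ∀ x : K, x ∈ Q₁ → f x = 1 → x ∈ Q₁ ⊓ f.ker :=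
      fun x hx hfx => ⟨hx, MonoidHom.mem_ker.2 hfx⟩
    refine ⟨v₁, w₁, a₁, b₁, hv₁Q, hw₁Q, hnQ a₁ ha₁N, hnQ b₁ hb₁N, inf_le_left, ?_, ?_, ?_, ?_, ?_,
      ?_, ?_, ?_, ?_, ?_, ?_⟩
    · intro x hx u hu
      exact ⟨hnQ x (Subgroup.le_normalizer hx) u hu.1, hker x u hu.2⟩
    · intro u hu
      exact ⟨hnQ a₁ ha₁N u hu.1, hker a₁ u hu.2⟩
    · intro u hu
      exact ⟨hnQ b₁ hb₁N u hu.1, hker b₁ u hu.2⟩
    · exact hU _ (Q₁.pow_mem hv₁Q p) (by rw [map_pow, hfv, hvp])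
    · exact hU _ (Q₁.pow_mem hw₁Q p) (by rw [map_pow, hfw, hwp])
    · exact hU _ (Q₁.mul_mem (Q₁.inv_mem (Q₁.mul_mem hw₁Q hv₁Q)) (Q₁.mul_mem hv₁Q hw₁Q))
        (by simp only [map_mul, map_inv, hfv, hfw]; rw [hvw]; group)
    · intro h
      apply hv1
      rw [← hfv]
      exact MonoidHom.mem_ker.1 h.2
    · exact hU _ (Q₁.mul_mem (Q₁.inv_mem (Q₁.mul_mem hv₁Q hw₁Q)) (hnQ a₁ ha₁N v₁ hv₁Q))
        (by simp only [map_mul, map_inv, hfv, hfw]; rw [ha₁ v hvT, hav]; group)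
    · exact hU _ (Q₁.mul_mem (Q₁.inv_mem hw₁Q) (hnQ a₁ ha₁N w₁ hw₁Q))
        (by simp only [map_mul, map_inv, hfw]; rw [ha₁ w hwT, haw]; group)
    · exact hU _ (Q₁.mul_mem (Q₁.inv_mem (Q₁.mul_mem hw₁Q hv₁Q)) (hnQ b₁ hb₁N w₁ hw₁Q))
        (by simp only [map_mul, map_inv, hfv, hfw]; rw [hb₁ w hwT, hbw]; group)
    · exact hU _ (Q₁.mul_mem (Q₁.inv_mem hv₁Q) (hnQ b₁ hb₁N v₁ hv₁Q))
        (by simp only [map_mul, map_inv, hfv]; rw [hb₁ v hvT, hbv]; group)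
  exact ⟨Q₁.map K.subtype, (Q₁ ⊓ f.ker).map K.subtype, hQ₁p.map _,
    hdata.map K.subtype K.subtype_injective⟩

/-- A `Qd(p)` configuration on `Q ≤ P` with `N_P(Q)` Sylow in `N_G(Q)` shows that `Qd(p)` is
involved in the normalizer of `Q C_P(Q)`. -/
theorem qddata_involves_normalizer {G : Type u} [Group G] [Finite G] {p : ℕ} [Fact p.Prime]
    (hp : p ≠ 2) (P : Sylow p G) (Q U : Subgroup G)
    (hcard : Nat.card ↥((P : Subgroup G) ⊓ Subgroup.normalizer (Q : Set G)) =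
      p ^ (Nat.card ↥(Subgroup.normalizer (Q : Set G))).factorization p)
    (hd : QdData p Q U) :
    Cfsg.Involves ↥(Cfsg.qd p) ↥(Subgroup.normalizer
      ((Q ⊔ ((P : Subgroup G) ⊓ Subgroup.centralizer (Q : Set G)) : Subgroup G) : Set G)) := by
  classical
  obtain ⟨v, w, a, b, hv, hw, haQ, hbQ, hUQ, hQU, haU, hbU, hvp, hwp, hvw, hv1, hav, haw, hbw,
    hbv⟩ := hd
  have hcardC := sylCard_centralizer_of_normalizer (P : Subgroup G) Q hcard
  have hadj : ∀ a₀ : G, (∀ x ∈ Q, a₀ * x * a₀⁻¹ ∈ Q) →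
      ∃ a' ∈ Subgroup.normalizer
        ((Q ⊔ ((P : Subgroup G) ⊓ Subgroup.centralizer (Q : Set G)) : Subgroup G) : Set G),
        ∀ x ∈ Q, a' * x * a'⁻¹ = a₀ * x * a₀⁻¹ := by
    intro a₀ ha₀
    have ha₀N : a₀ ∈ Subgroup.normalizer (Q : Set G) :=
      Cfsg.Agent.Lib.helper14.mem_normalizer_of_forall_conj_mem Q a₀ ha₀
    have ha₀C := normalizer_le_normalizer_centralizer Q ha₀N
    have hXp : IsPGroup p ↥(((P : Subgroup G) ⊓ Subgroup.centralizer (Q : Set G)).map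
        (MulAut.conj a₀).toMonoidHom) := (P.isPGroup'.to_le inf_le_left).map _
    have hXC : ((P : Subgroup G) ⊓ Subgroup.centralizer (Q : Set G)).map
        (MulAut.conj a₀).toMonoidHom ≤ Subgroup.centralizer (Q : Set G) := by
      rintro _ ⟨z, hz, rfl⟩
      exact (Subgroup.mem_normalizer_iff.1 ha₀C z).1 hz.2
    obtain ⟨h, hhC, hle⟩ := exists_conj_le_of_sylCard
      (inf_le_right : (P : Subgroup G) ⊓ Subgroup.centralizer (Q : Set G) ≤
        Subgroup.centralizer (Q : Set G)) hcardC hXp hXC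
    have hcx : ∀ x ∈ Q, h * a₀ * x * (h * a₀)⁻¹ = a₀ * x * a₀⁻¹ := by
      intro x hx
      have h1 := Subgroup.mem_centralizer_iff.1 hhC _ (ha₀ x hx)
      have e : h * a₀ * x * (h * a₀)⁻¹ = h * (a₀ * x * a₀⁻¹) * h⁻¹ := by group
      rw [e, ← h1]
      group
    refine ⟨h * a₀, ?_, hcx⟩
    apply Cfsg.Agent.Lib.helper14.mem_normalizer_of_forall_conj_mem
    have hsub : Q ⊔ ((P : Subgroup G) ⊓ Subgroup.centralizer (Q : Set G)) ≤
        (Q ⊔ ((P : Subgroup G) ⊓ Subgroup.centralizer (Q : Set G))).comap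
          (MulAut.conj (h * a₀)).toMonoidHom := by
      apply sup_le
      · intro x hx
        refine Subgroup.mem_comap.2 ?_
        show h * a₀ * x * (h * a₀)⁻¹ ∈
          Q ⊔ ((P : Subgroup G) ⊓ Subgroup.centralizer (Q : Set G))
        rw [hcx x hx]
        exact Subgroup.mem_sup_left (ha₀ x hx)
      · intro z hz
        refine Subgroup.mem_comap.2 ?_
        show h * a₀ * z * (h * a₀)⁻¹ ∈
          Q ⊔ ((P : Subgroup G) ⊓ Subgroup.centralizer (Q : Set G))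
        apply Subgroup.mem_sup_right
        apply hle
        refine ⟨a₀ * z * a₀⁻¹, ⟨z, hz, rfl⟩, ?_⟩
        show h * (a₀ * z * a₀⁻¹) * h⁻¹ = h * a₀ * z * (h * a₀)⁻¹
        group
    exact fun x hx => hsub hx
  obtain ⟨a', ha'N, ha'⟩ := hadj a haQ
  obtain ⟨b', hb'N, hb'⟩ := hadj b hbQ
  have hQN : Q ≤ Subgroup.normalizer
      ((Q ⊔ ((P : Subgroup G) ⊓ Subgroup.centralizer (Q : Set G)) : Subgroup G) : Set G) :=
    le_sup_left.trans Subgroup.le_normalizer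
  have hnorm : ∀ (x : G) (hx : x ∈ Subgroup.normalizer
      ((Q ⊔ ((P : Subgroup G) ⊓ Subgroup.centralizer (Q : Set G)) : Subgroup G) : Set G)),
      (∀ u ∈ U, x * u * x⁻¹ ∈ U) →
      (⟨x, hx⟩ : ↥(Subgroup.normalizer
        ((Q ⊔ ((P : Subgroup G) ⊓ Subgroup.centralizer (Q : Set G)) : Subgroup G) : Set G))) ∈
        Subgroup.normalizer ((U.subgroupOf (Subgroup.normalizer
          ((Q ⊔ ((P : Subgroup G) ⊓ Subgroup.centralizer (Q : Set G)) : Subgroup G) : Set G)) :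
            Subgroup _) : Set _) := by
    intro x hx hxU
    apply Cfsg.Agent.Lib.helper14.mem_normalizer_of_forall_conj_mem
    intro y hy
    exact Subgroup.mem_subgroupOf.2 (hxU _ (Subgroup.mem_subgroupOf.1 hy))
  have ha'U : ∀ u ∈ U, a' * u * a'⁻¹ ∈ U := fun u hu => by
    rw [ha' u (hUQ hu)]; exact haU u hu
  have hb'U : ∀ u ∈ U, b' * u * b'⁻¹ ∈ U := fun u hu => by
    rw [hb' u (hUQ hu)]; exact hbU u hu
  refine qd_of_conf_mod hp (U.subgroupOf _) ⟨v, hQN hv⟩ ⟨w, hQN hw⟩ ⟨a', ha'N⟩ ⟨b', hb'N⟩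
    (hnorm v _ (hQU v hv)) (hnorm w _ (hQU w hw)) (hnorm a' _ ha'U) (hnorm b' _ hb'U)
    (Subgroup.mem_subgroupOf.2 hvp) (Subgroup.mem_subgroupOf.2 hwp)
    (Subgroup.mem_subgroupOf.2 hvw) (fun h => hv1 (Subgroup.mem_subgroupOf.1 h))
    (Subgroup.mem_subgroupOf.2 ?_) (Subgroup.mem_subgroupOf.2 ?_)
    (Subgroup.mem_subgroupOf.2 ?_) (Subgroup.mem_subgroupOf.2 ?_)
  · show (v * w)⁻¹ * (a' * v * a'⁻¹) ∈ U
    rw [ha' v hv]; exact hav
  · show w⁻¹ * (a' * w * a'⁻¹) ∈ U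
    rw [ha' w hw]; exact haw
  · show (w * v)⁻¹ * (b' * w * b'⁻¹) ∈ U
    rw [hb' w hw]; exact hbw
  · show v⁻¹ * (b' * v * b'⁻¹) ∈ U
    rw [hb' v hv]; exact hbv

/-- `Q C_P(Q)` is centric, in the strong form that every conjugate inside `P` contains its
centralizer in `P`, when `N_P(Q)` is Sylow in `N_G(Q)`. -/
theorem centric_of_sup {G : Type u} [Group G] [Finite G] {p : ℕ} [Fact p.Prime] (P : Sylow p G)
    (Q : Subgroup G)
    (hcard : Nat.card ↥((P : Subgroup G) ⊓ Subgroup.normalizer (Q : Set G)) =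
      p ^ (Nat.card ↥(Subgroup.normalizer (Q : Set G))).factorization p)
    (c : G)
    (hc : (Q ⊔ ((P : Subgroup G) ⊓ Subgroup.centralizer (Q : Set G))).map
      (MulAut.conj c).toMonoidHom ≤ (P : Subgroup G)) :
    (P : Subgroup G) ⊓ Subgroup.centralizer
      (((Q ⊔ ((P : Subgroup G) ⊓ Subgroup.centralizer (Q : Set G))).map
        (MulAut.conj c).toMonoidHom : Subgroup G) : Set G) ≤
      (Q ⊔ ((P : Subgroup G) ⊓ Subgroup.centralizer (Q : Set G))).map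
        (MulAut.conj c).toMonoidHom := by
  intro x hx
  have hZ'E : ((P : Subgroup G) ⊓ Subgroup.centralizer (Q : Set G)).map
      (MulAut.conj c).toMonoidHom ≤
      (Q ⊔ ((P : Subgroup G) ⊓ Subgroup.centralizer (Q : Set G))).map
        (MulAut.conj c).toMonoidHom := Subgroup.map_mono le_sup_right
  have hQ'E : Q.map (MulAut.conj c).toMonoidHom ≤
      (Q ⊔ ((P : Subgroup G) ⊓ Subgroup.centralizer (Q : Set G))).map
        (MulAut.conj c).toMonoidHom := Subgroup.map_mono le_sup_left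
  have hcardC := sylCard_centralizer_of_normalizer (P : Subgroup G) Q hcard
  have hcardZ' : Nat.card ↥(((P : Subgroup G) ⊓ Subgroup.centralizer (Q : Set G)).map
      (MulAut.conj c).toMonoidHom) =
      p ^ (Nat.card ↥(Subgroup.centralizer
        ((Q.map (MulAut.conj c).toMonoidHom : Subgroup G) : Set G))).factorization p := by
    rw [card_map_cj, centralizer_map_cj, card_map_cj]; exact hcardC
  have hZ'C : ((P : Subgroup G) ⊓ Subgroup.centralizer (Q : Set G)).map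
      (MulAut.conj c).toMonoidHom ≤
      Subgroup.centralizer ((Q.map (MulAut.conj c).toMonoidHom : Subgroup G) : Set G) := by
    rw [centralizer_map_cj]; exact Subgroup.map_mono inf_le_right
  have hxC : x ∈ Subgroup.centralizer ((Q.map (MulAut.conj c).toMonoidHom : Subgroup G) : Set G) :=
    Subgroup.centralizer_le (show ((Q.map (MulAut.conj c).toMonoidHom : Subgroup G) : Set G) ⊆ _
      from hQ'E) hx.2
  have hYP : ((P : Subgroup G) ⊓ Subgroup.centralizer (Q : Set G)).map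
      (MulAut.conj c).toMonoidHom ⊔ Subgroup.zpowers x ≤ (P : Subgroup G) :=
    sup_le (hZ'E.trans hc) ((Subgroup.zpowers_le).2 hx.1)
  have hYC : ((P : Subgroup G) ⊓ Subgroup.centralizer (Q : Set G)).map
      (MulAut.conj c).toMonoidHom ⊔ Subgroup.zpowers x ≤
      Subgroup.centralizer ((Q.map (MulAut.conj c).toMonoidHom : Subgroup G) : Set G) :=
    sup_le hZ'C ((Subgroup.zpowers_le).2 hxC)
  have heq := eq_of_sylCard_le hcardZ' le_sup_left (P.isPGroup'.to_le hYP) hYC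
  apply hZ'E
  rw [heq]
  exact Subgroup.mem_sup_right (Subgroup.mem_zpowers x)

/-- If `Qd(p)` is involved in `G`, there is a centric subgroup `E ≤ P` with `N_P(E)` Sylow in
`N_G(E)` such that `Qd(p)` is involved in `N_G(E)`. -/
theorem exists_centric_of_involves {G : Type u} [Group G] [Finite G] {p : ℕ} [Fact p.Prime]
    (hp : p ≠ 2) (P : Sylow p G) (h : Cfsg.Involves ↥(Cfsg.qd p) G) :
    ∃ E : Subgroup G, E ≤ (P : Subgroup G) ∧
      Nat.card ↥((P : Subgroup G) ⊓ Subgroup.normalizer (E : Set G)) =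
        p ^ (Nat.card ↥(Subgroup.normalizer (E : Set G))).factorization p ∧
      (∀ g : G, E.map (MulAut.conj g).toMonoidHom ≤ (P : Subgroup G) →
        (P : Subgroup G) ⊓ Subgroup.centralizer
          ((E.map (MulAut.conj g).toMonoidHom : Subgroup G) : Set G) ≤
          E.map (MulAut.conj g).toMonoidHom) ∧
      Cfsg.Involves ↥(Cfsg.qd p) ↥(Subgroup.normalizer (E : Set G)) := by
  obtain ⟨Q₀, U₀, hQ₀p, hd₀⟩ := qddata_of_involves h
  obtain ⟨c₀, hc₀⟩ := Cfsg.Agent.Lib.helper16.exists_conj_mem_sylow' P Q₀ hQ₀p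
  have hQ₁P : Q₀.map (MulAut.conj c₀).toMonoidHom ≤ (P : Subgroup G) := by
    rintro _ ⟨a, ha, rfl⟩; exact hc₀ a ha
  obtain ⟨g₁, hg₁P, hg₁card⟩ := exists_conj_sylCard_normalizer P _ hQ₁P
  have hd₂ := (hd₀.map (MulAut.conj c₀).toMonoidHom (MulAut.conj c₀).injective).map
    (MulAut.conj g₁).toMonoidHom (MulAut.conj g₁).injective
  obtain ⟨Q, hQdef⟩ : ∃ Q : Subgroup G, Q = (Q₀.map (MulAut.conj c₀).toMonoidHom).map
      (MulAut.conj g₁).toMonoidHom := ⟨_, rfl⟩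
  rw [← hQdef] at hg₁P hg₁card hd₂
  have hinv := qddata_involves_normalizer hp P Q _ hg₁card hd₂
  have hE'P : Q ⊔ ((P : Subgroup G) ⊓ Subgroup.centralizer (Q : Set G)) ≤ (P : Subgroup G) :=
    sup_le hg₁P inf_le_left
  obtain ⟨g₂, hg₂P, hg₂card⟩ := exists_conj_sylCard_normalizer P _ hE'P
  refine ⟨(Q ⊔ ((P : Subgroup G) ⊓ Subgroup.centralizer (Q : Set G))).map
    (MulAut.conj g₂).toMonoidHom, hg₂P, hg₂card, ?_, ?_⟩
  · intro g hg
    rw [map_cj_map_cj] at hg ⊢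
    exact centric_of_sup P Q hg₁card _ hg
  · rw [normalizer_map_cj]
    exact Cfsg.Agent.Lib.helper14.involves_of_injective
      ((Subgroup.normalizer ((Q ⊔ ((P : Subgroup G) ⊓ Subgroup.centralizer (Q : Set G)) :
        Subgroup G) : Set G)).equivMapOfInjective (MulAut.conj g₂).toMonoidHom
          (MulAut.conj g₂).injective).toMonoidHom
      (MulEquiv.injective _) hinv

end Cfsg.Agent.Lib.helper15.QdS
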