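import Mathlib
import Cfsg.Prelude.Def_SubgroupEmbedding
import Cfsg.Prelude.Def_Local
import Cfsg.Agent.Lib.helper7.FSimple
import Cfsg.Agent.Lib.helper15.PCore

set_option autoImplicit false
set_option linter.style.haveILetI false

namespace Cfsg.Agent.Lib.helper15.Sid

open Subgroup

universe u

variable {G : Type u} [Group G]

theorem exists_odd_pow [Finite G] (g : G) : ∃ a : ℕ, Odd (orderOf (g ^ (2 ^ a))) := by
  have h0 : orderOf g ≠ 0 := (orderOf_pos g).ne'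
  obtain ⟨k, m, hm, hkm⟩ := Nat.exists_eq_two_pow_mul_odd h0
  refine ⟨k, ?_⟩
  have h1 : (g ^ (2 ^ k)) ^ m = 1 := by
    rw [← pow_mul, ← hkm, pow_orderOf_eq_one]
  exact Odd.of_dvd_nat hm (orderOf_dvd_of_pow_eq_one h1)

theorem odd_mem_of_sq_mem {h : G} (ho : Odd (orderOf h)) (N : Subgroup G) (hN : h ^ 2 ∈ N) :
    h ∈ N := by
  obtain ⟨m, hm⟩ := ho
  have e : h = (h ^ 2) ^ (m + 1) := by
    rw [← pow_mul]
    have e2 : 2 * (m + 1) = orderOf h + 1 := by omega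
    rw [e2, pow_succ, pow_orderOf_eq_one, one_mul]
  rw [e]
  exact N.pow_mem hN _

theorem odd_eq_one_of_sq {h : G} (ho : Odd (orderOf h)) (h2 : h ^ 2 = 1) : h = 1 := by
  have := odd_mem_of_sq_mem ho ⊥ (by rw [h2]; exact Subgroup.one_mem _)
  exact Subgroup.mem_bot.mp this

theorem odd_mul {h k : G} (hk : h * k = k * h) (ho1 : Odd (orderOf h))
    (ho2 : Odd (orderOf k)) : Odd (orderOf (h * k)) := by
  have hc : Commute h k := hk
  have e : (h * k) ^ (orderOf h * orderOf k) = 1 := by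
    rw [hc.mul_pow, pow_mul, pow_orderOf_eq_one, one_pow, mul_comm (orderOf h), pow_mul,
      pow_orderOf_eq_one, one_pow, one_mul]
  exact Odd.of_dvd_nat (ho1.mul ho2) (orderOf_dvd_of_pow_eq_one e)

theorem inv_pow_of_inv {v x : G} (h : v * x * v⁻¹ = x⁻¹) (n : ℕ) :
    v * x ^ n * v⁻¹ = (x ^ n)⁻¹ := by
  rw [← conj_pow, h, inv_pow]

theorem exists_ne_one_of_ne_bot {K : Subgroup G} (h : K ≠ ⊥) : ∃ x ∈ K, x ≠ 1 := by
  by_contra hcon
  push Not at hcon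
  apply h
  rw [eq_bot_iff]
  intro x hx
  exact Subgroup.mem_bot.mpr (hcon x hx)

theorem ea_comm {p : ℕ} {W : Subgroup G} (hW : Cfsg.IsElementaryAbelian p W) {a b : G}
    (ha : a ∈ W) (hb : b ∈ W) : a * b = b * a := by
  have := hW.1.is_comm.comm ⟨a, ha⟩ ⟨b, hb⟩
  exact congrArg Subtype.val this

theorem ea_of_le {p : ℕ} {W W' : Subgroup G} (hW : Cfsg.IsElementaryAbelian p W)
    (hle : W' ≤ W) : Cfsg.IsElementaryAbelian p W' := by
  refine ⟨⟨⟨?_⟩⟩, fun a ha => hW.2 a (hle ha)⟩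
  rintro ⟨a, ha⟩ ⟨b, hb⟩
  exact Subtype.ext (ea_comm hW (hle ha) (hle hb))

theorem inv_eq_self_of_sq {v : G} (h : v ^ 2 = 1) : v⁻¹ = v := by
  rw [pow_two] at h
  exact inv_eq_of_mul_eq_one_left h

/-- Decomposition of a join with a normalizing subgroup. -/
theorem exists_mul_of_mem_sup (N B : Subgroup G) (hB : B ≤ normalizer (N : Set G)) {x : G}
    (hx : x ∈ N ⊔ B) : ∃ n ∈ N, ∃ b ∈ B, x = n * b := by
  let K : Subgroup G :=
    { carrier := {x | ∃ n ∈ N, ∃ b ∈ B, x = n * b}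
      one_mem' := ⟨1, N.one_mem, 1, B.one_mem, by simp⟩
      mul_mem' := by
        rintro _ _ ⟨n, hn, b, hb, rfl⟩ ⟨n', hn', b', hb', rfl⟩
        refine ⟨n * (b * n' * b⁻¹), N.mul_mem hn ((mem_normalizer_iff.mp (hB hb) n').mp hn'),
          b * b', B.mul_mem hb hb', by group⟩
      inv_mem' := by
        rintro _ ⟨n, hn, b, hb, rfl⟩
        refine ⟨b⁻¹ * n⁻¹ * b⁻¹⁻¹,
          (mem_normalizer_iff.mp (hB (B.inv_mem hb)) n⁻¹).mp (N.inv_mem hn),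
          b⁻¹, B.inv_mem hb, by group⟩ }
  have hle : N ⊔ B ≤ K := by
    apply sup_le
    · intro n hn; exact ⟨n, hn, 1, B.one_mem, by simp⟩
    · intro b hb; exact ⟨1, N.one_mem, b, hb, by simp⟩
  exact hle hx

theorem sq_mem_of_mem_sup (N B : Subgroup G) (hB : B ≤ normalizer (N : Set G))
    (hB2 : ∀ b ∈ B, b ^ 2 = 1) {x : G} (hx : x ∈ N ⊔ B) : x ^ 2 ∈ N := by
  obtain ⟨n, hn, b, hb, rfl⟩ := exists_mul_of_mem_sup N B hB hx
  have hbb : b * b = 1 := by rw [← pow_two]; exact hB2 b hb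
  have e : (n * b) ^ 2 = n * (b * n * b⁻¹) := by
    rw [pow_two]
    calc n * b * (n * b) = n * (b * n * b⁻¹) * (b * b) := by group
      _ = n * (b * n * b⁻¹) := by rw [hbb, mul_one]
  rw [e]
  exact N.mul_mem hn ((mem_normalizer_iff.mp (hB hb) n).mp hn)

/-- The Sidki condition passes to quotients by normal subgroups avoiding `V`. -/
theorem sidki_quot [Finite G] {V : Subgroup G} (N : Subgroup G) [N.Normal] (hVN : V ⊓ N = ⊥)
    (hV2 : ∀ a ∈ V, a ^ 2 = 1) (hS : Cfsg.IsSidkiPair V) :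
    Cfsg.IsSidkiPair (V.map (QuotientGroup.mk' N)) := by
  intro hb vb hvb hodd hinv
  obtain ⟨v, hv, rfl⟩ := hvb
  obtain ⟨h₁, rfl⟩ := QuotientGroup.mk'_surjective N hb
  have hvv : v⁻¹ = v := inv_eq_self_of_sq (hV2 v hv)
  have hvsq : v * v = 1 := by rw [← pow_two]; exact hV2 v hv
  obtain ⟨x, hx⟩ : ∃ x : G, x = h₁⁻¹ * v * h₁ * v⁻¹ := ⟨_, rfl⟩
  have hx1 : v * x * v⁻¹ = x⁻¹ := by
    rw [hx]
    calc v * (h₁⁻¹ * v * h₁ * v⁻¹) * v⁻¹ = v * h₁⁻¹ * v * h₁ * (v * v)⁻¹ := by group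
      _ = v * h₁⁻¹ * v⁻¹ * h₁ := by rw [hvsq, hvv]; group
      _ = (h₁⁻¹ * v * h₁ * v⁻¹)⁻¹ := by group
  have hmkx : QuotientGroup.mk' N x = (QuotientGroup.mk' N h₁ ^ 2)⁻¹ := by
    have e1 : QuotientGroup.mk' N x = (QuotientGroup.mk' N h₁)⁻¹ *
        (QuotientGroup.mk' N v * QuotientGroup.mk' N h₁ * (QuotientGroup.mk' N v)⁻¹) := by
      rw [hx]; simp only [map_mul, map_inv, mul_assoc]
    rw [e1, hinv, pow_two, mul_inv_rev]
  obtain ⟨a, ha⟩ := exists_odd_pow x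
  obtain ⟨w, hw, hw1, hwc⟩ := hS (x ^ (2 ^ a)) v hv ha (inv_pow_of_inv hx1 _)
  refine ⟨QuotientGroup.mk' N w, ⟨w, hw, rfl⟩, ?_, ?_⟩
  · intro h1
    have hwN : w ∈ N := (QuotientGroup.eq_one_iff w).mp h1
    have : w ∈ V ⊓ N := ⟨hw, hwN⟩
    rw [hVN] at this
    exact hw1 (Subgroup.mem_bot.mp this)
  · have hc1 : Commute (QuotientGroup.mk' N w) (QuotientGroup.mk' N (x ^ (2 ^ a))) := by
      have := congrArg (QuotientGroup.mk' N) hwc
      rw [map_mul, map_mul] at this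
      exact this
    have e2 : QuotientGroup.mk' N (x ^ (2 ^ a)) =
        ((QuotientGroup.mk' N h₁) ^ (2 * 2 ^ a))⁻¹ := by
      rw [map_pow, hmkx, inv_pow, ← pow_mul]
    rw [e2] at hc1
    have hc2 : Commute (QuotientGroup.mk' N w) ((QuotientGroup.mk' N h₁) ^ (2 * 2 ^ a)) :=
      Commute.inv_right_iff.mp hc1
    have hcop : (2 * 2 ^ a).Coprime (orderOf (QuotientGroup.mk' N h₁)) := by
      have h2 : Nat.Coprime 2 (orderOf (QuotientGroup.mk' N h₁)) :=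
        Nat.coprime_two_left.mpr hodd
      exact Nat.Coprime.mul_left h2 (Nat.Coprime.pow_left _ h2)
    obtain ⟨m, hm⟩ := exists_pow_eq_self_of_coprime hcop
    have hc3 := hc2.pow_right m
    rw [hm] at hc3
    exact hc3

theorem pCore_quot_bot [Finite G] :
    Cfsg.pCore 2 (G ⧸ Cfsg.pCore 2 G) = ⊥ := by
  haveI : Fact (Nat.Prime 2) := ⟨Nat.prime_two⟩
  have hRp : IsPGroup 2 ↥(Cfsg.pCore 2 G) := pCore_isPGroup 2 G
  have hQp : IsPGroup 2 ↥(Cfsg.pCore 2 (G ⧸ Cfsg.pCore 2 G)) := pCore_isPGroup 2 _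
  have hQn : (Cfsg.pCore 2 (G ⧸ Cfsg.pCore 2 G)).Normal := pCore_normal 2 _
  obtain ⟨T, hT⟩ : ∃ T : Subgroup G,
      T = (Cfsg.pCore 2 (G ⧸ Cfsg.pCore 2 G)).comap (QuotientGroup.mk' (Cfsg.pCore 2 G)) :=
    ⟨_, rfl⟩
  have hTn : T.Normal := by rw [hT]; exact Subgroup.Normal.comap hQn _
  have hTp : IsPGroup 2 ↥T := by
    rintro ⟨t, ht⟩
    have ht' : QuotientGroup.mk' (Cfsg.pCore 2 G) t ∈ Cfsg.pCore 2 (G ⧸ Cfsg.pCore 2 G) := by
      rw [hT] at ht; exact ht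
    obtain ⟨j, hj⟩ := hQp ⟨_, ht'⟩
    have hj' : (QuotientGroup.mk' (Cfsg.pCore 2 G) t) ^ (2 ^ j) = 1 := by
      simpa using congrArg Subtype.val hj
    have h1 : t ^ (2 ^ j) ∈ Cfsg.pCore 2 G := by
      rw [← map_pow] at hj'
      exact (QuotientGroup.eq_one_iff _).mp hj'
    obtain ⟨k, hk⟩ := hRp ⟨_, h1⟩
    have hk' : (t ^ (2 ^ j)) ^ (2 ^ k) = 1 := by simpa using congrArg Subtype.val hk
    refine ⟨j + k, Subtype.ext ?_⟩
    show t ^ (2 ^ (j + k)) = 1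
    rw [pow_add, pow_mul]; exact hk'
  have hTR : T ≤ Cfsg.pCore 2 G := le_pCore hTn hTp
  rw [eq_bot_iff]
  intro q hq
  obtain ⟨g, rfl⟩ := QuotientGroup.mk'_surjective (Cfsg.pCore 2 G) q
  have hgT : g ∈ T := by rw [hT]; exact hq
  exact Subgroup.mem_bot.mpr ((QuotientGroup.eq_one_iff g).mpr (hTR hgT))

/-- With `O₂(G) = 1` the Fitting subgroup has odd order. -/
theorem fitting_odd [Finite G] (hO2 : Cfsg.pCore 2 G = ⊥) {x : G}
    (hx : x ∈ Cfsg.fittingSubgroup G) : Odd (orderOf x) := by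
  haveI hnil := Cfsg.Agent.Lib.helper7.fitting_nilpotent G
  haveI : Fact (Nat.Prime 2) := ⟨Nat.prime_two⟩
  obtain ⟨S⟩ : Nonempty (Sylow 2 ↥(Cfsg.fittingSubgroup G)) := inferInstance
  haveI hSn : (S : Subgroup ↥(Cfsg.fittingSubgroup G)).Normal :=
    Sylow.normal_of_normalizerCondition Group.normalizerCondition_of_isNilpotent S
  have hsub : ((S : Subgroup ↥(Cfsg.fittingSubgroup G)).map
      (Cfsg.fittingSubgroup G).subtype).IsSubnormal :=
    (Subgroup.Normal.isSubnormal hSn).trans' (Subgroup.Normal.isSubnormal inferInstance)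
  have hle : (S : Subgroup ↥(Cfsg.fittingSubgroup G)).map (Cfsg.fittingSubgroup G).subtype ≤
      Cfsg.pCore 2 G :=
    Cfsg.Agent.Lib.helper7.subnormal_le_rad (Cfsg.Agent.Lib.helper7.radHyp_pGroup 2) hsub
      (S.isPGroup'.map _)
  rw [hO2] at hle
  have hSbot : (S : Subgroup ↥(Cfsg.fittingSubgroup G)) = ⊥ := by
    rw [eq_bot_iff]; intro y hy
    have : (y : G) ∈ (⊥ : Subgroup G) := hle ⟨y, hy, rfl⟩
    rw [Subgroup.mem_bot] at this ⊢
    exact Subtype.ext this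
  have hnd : ¬ 2 ∣ Nat.card ↥(Cfsg.fittingSubgroup G) :=
    fun hdvd => S.ne_bot_of_dvd_card hdvd hSbot
  rw [← Nat.not_even_iff_odd]
  intro he
  apply hnd
  have h1 : orderOf (⟨x, hx⟩ : ↥(Cfsg.fittingSubgroup G)) ∣
      Nat.card ↥(Cfsg.fittingSubgroup G) := orderOf_dvd_natCard _
  rw [← Subgroup.orderOf_coe] at h1
  exact (even_iff_two_dvd.mp he).trans h1

/-- With `O₂(G) = 1`, abelian normal subgroups contain no involutions. -/
theorem sq_eq_one_of_abelian_normal [Finite G] (hO2 : Cfsg.pCore 2 G = ⊥) (A : Subgroup G)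
    [hA : A.Normal] (hab : ∀ a ∈ A, ∀ b ∈ A, a * b = b * a) {z : G} (hz : z ∈ A) :
    Odd (orderOf z) := by
  have hcomm : IsMulCommutative ↥A :=
    ⟨⟨fun a b => Subtype.ext (hab a a.2 b b.2)⟩⟩
  have hnil : Group.IsNilpotent ↥A := Cfsg.Agent.Lib.helper7.nilpotent_of_isMulComm hcomm
  exact fitting_odd hO2 (Cfsg.Agent.Lib.helper7.le_fitting hA hnil hz)

/-- Minimality applied to a proper subgroup. -/
theorem exists_mem_pCore_sub [Finite G]
    (hminG : ∀ (H : Type u) [Group H] [Finite H] (W : Subgroup H), Nat.card H < Nat.card G →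
      Cfsg.IsElementaryAbelian 2 W → W ≠ ⊥ → Cfsg.IsSidkiPair W → W ⊓ Cfsg.pCore 2 H ≠ ⊥)
    (H W : Subgroup G) (hWH : W ≤ H) (hH : H ≠ ⊤) (hW : Cfsg.IsElementaryAbelian 2 W)
    (hW1 : W ≠ ⊥)
    (hS : ∀ h ∈ H, ∀ v ∈ W, Odd (orderOf h) → v * h * v⁻¹ = h⁻¹ →
      ∃ w ∈ W, w ≠ 1 ∧ w * h = h * w) :
    ∃ w ∈ W, w ≠ 1 ∧ w ∈ (Cfsg.pCore 2 ↥H).map H.subtype := by
  have hcard : Nat.card ↥H < Nat.card G :=
    Cfsg.Agent.Lib.helper7.card_lt_of_lt_top (lt_top_iff_ne_top.mpr hH)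
  have hea : Cfsg.IsElementaryAbelian 2 (W.subgroupOf H) := by
    refine ⟨⟨⟨?_⟩⟩, ?_⟩
    · rintro ⟨a, ha⟩ ⟨b, hb⟩
      rw [mem_subgroupOf] at ha hb
      apply Subtype.ext
      apply Subtype.ext
      exact ea_comm hW ha hb
    · intro a ha
      rw [mem_subgroupOf] at ha
      apply Subtype.ext
      have := hW.2 (a : G) ha
      simpa using this
  have hne : W.subgroupOf H ≠ ⊥ := by
    obtain ⟨w, hw, hw1⟩ := exists_ne_one_of_ne_bot hW1
    intro hbot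
    have h1 : (⟨w, hWH hw⟩ : ↥H) ∈ W.subgroupOf H := by rw [mem_subgroupOf]; exact hw
    rw [hbot, Subgroup.mem_bot] at h1
    exact hw1 (congrArg Subtype.val h1)
  have hSid : Cfsg.IsSidkiPair (W.subgroupOf H) := by
    intro h v hv hodd hinv
    rw [mem_subgroupOf] at hv
    have hodd' : Odd (orderOf (h : G)) := by rw [Subgroup.orderOf_coe]; exact hodd
    have hinv' : (v : G) * (h : G) * (v : G)⁻¹ = (h : G)⁻¹ := by
      have := congrArg Subtype.val hinv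
      simpa using this
    obtain ⟨w, hw, hw1, hwc⟩ := hS (h : G) h.2 (v : G) hv hodd' hinv'
    refine ⟨⟨w, hWH hw⟩, by rw [mem_subgroupOf]; exact hw, ?_, Subtype.ext hwc⟩
    intro h1
    exact hw1 (congrArg Subtype.val h1)
  have hres := hminG ↥H (W.subgroupOf H) hcard hea hne hSid
  obtain ⟨y, hy, hy1⟩ := exists_ne_one_of_ne_bot hres
  refine ⟨(y : G), ?_, ?_, ⟨y, hy.2, rfl⟩⟩
  · exact mem_subgroupOf.mp hy.1
  · intro h1
    exact hy1 (Subtype.ext h1)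

/-- Minimality applied to a proper quotient. -/
theorem exists_mem_pCore_quot [Finite G]
    (hminG : ∀ (H : Type u) [Group H] [Finite H] (W : Subgroup H), Nat.card H < Nat.card G →
      Cfsg.IsElementaryAbelian 2 W → W ≠ ⊥ → Cfsg.IsSidkiPair W → W ⊓ Cfsg.pCore 2 H ≠ ⊥)
    {V : Subgroup G} (hV : Cfsg.IsElementaryAbelian 2 V) (hS : Cfsg.IsSidkiPair V) (hV1 : V ≠ ⊥)
    (N : Subgroup G) [N.Normal] (hN : N ≠ ⊥) (hVN : V ⊓ N = ⊥) :
    ∃ v ∈ V, v ≠ 1 ∧ QuotientGroup.mk' N v ∈ Cfsg.pCore 2 (G ⧸ N) := by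
  have hcard : Nat.card (G ⧸ N) < Nat.card G := by
    have h1 := Subgroup.card_eq_card_quotient_mul_card_subgroup N
    have h2 : 1 < Nat.card N := N.one_lt_card_iff_ne_bot.mpr hN
    have h3 : 0 < Nat.card (G ⧸ N) := Nat.card_pos
    nlinarith
  have hea : Cfsg.IsElementaryAbelian 2 (V.map (QuotientGroup.mk' N)) := by
    refine ⟨⟨⟨?_⟩⟩, ?_⟩
    · rintro ⟨_, ⟨a, ha, rfl⟩⟩ ⟨_, ⟨b, hb, rfl⟩⟩
      apply Subtype.ext
      show QuotientGroup.mk' N a * QuotientGroup.mk' N b =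
        QuotientGroup.mk' N b * QuotientGroup.mk' N a
      rw [← map_mul, ← map_mul, ea_comm hV ha hb]
    · rintro _ ⟨a, ha, rfl⟩
      rw [← map_pow, hV.2 a ha, map_one]
  have hmem : ∀ v ∈ V, QuotientGroup.mk' N v = 1 → v = 1 := by
    intro v hv h1
    have hvN : v ∈ N := (QuotientGroup.eq_one_iff v).mp h1
    have : v ∈ V ⊓ N := ⟨hv, hvN⟩
    rw [hVN] at this
    exact Subgroup.mem_bot.mp this
  have hne : V.map (QuotientGroup.mk' N) ≠ ⊥ := by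
    obtain ⟨w, hw, hw1⟩ := exists_ne_one_of_ne_bot hV1
    intro hbot
    have h1 : QuotientGroup.mk' N w ∈ V.map (QuotientGroup.mk' N) := ⟨w, hw, rfl⟩
    rw [hbot, Subgroup.mem_bot] at h1
    exact hw1 (hmem w hw h1)
  have hres := hminG (G ⧸ N) (V.map (QuotientGroup.mk' N)) hcard hea hne
    (sidki_quot N hVN hV.2 hS)
  obtain ⟨y, hy, hy1⟩ := exists_ne_one_of_ne_bot hres
  obtain ⟨v, hv, rfl⟩ := hy.1
  refine ⟨v, hv, ?_, hy.2⟩
  intro h1
  apply hy1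
  rw [h1, map_one]

/-- With `O₂(G) = 1`, the `2`-core of a subgroup `H` centralizes every subnormal subgroup of
`G` that is normal in `H`. -/
theorem pCore_sub_centralizes [Finite G] (hO2 : Cfsg.pCore 2 G = ⊥) (H N : Subgroup G)
    (hNH : N ≤ H) (hHN : H ≤ normalizer (N : Set G)) (hN : N.IsSubnormal)
    {q : G} (hq : q ∈ (Cfsg.pCore 2 ↥H).map H.subtype) {n : G} (hn : n ∈ N) :
    q * n = n * q := by
  haveI : Fact (Nat.Prime 2) := ⟨Nat.prime_two⟩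
  have hQn : (Cfsg.pCore 2 ↥H).Normal := pCore_normal 2 ↥H
  have hQp : IsPGroup 2 ↥(Cfsg.pCore 2 ↥H) := pCore_isPGroup 2 ↥H
  obtain ⟨D, hD⟩ : ∃ D : Subgroup G, D = (Cfsg.pCore 2 ↥H).map H.subtype ⊓ N := ⟨_, rfl⟩
  have hDN : D ≤ N := hD ▸ inf_le_right
  have hDp : IsPGroup 2 ↥D := by
    have h1 : IsPGroup 2 ↥((Cfsg.pCore 2 ↥H).map H.subtype) := hQp.map _
    exact h1.to_le (hD ▸ inf_le_left)
  have hDnorm : (D.subgroupOf N).Normal := by
    constructor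
    intro d hd m
    rw [mem_subgroupOf] at hd ⊢
    rw [hD] at hd ⊢
    refine ⟨?_, ?_⟩
    · obtain ⟨q', hq', hq'e⟩ := hd.1
      refine ⟨⟨m, hNH m.2⟩ * q' * ⟨m, hNH m.2⟩⁻¹, hQn.conj_mem q' hq' _, ?_⟩
      have hq'e' : (q' : G) = (d : G) := hq'e
      simp [hq'e']
    · exact (m * d * m⁻¹).2
  have hsub : D.IsSubnormal := by
    have h1 : ((D.subgroupOf N).map N.subtype).IsSubnormal :=
      (Subgroup.Normal.isSubnormal hDnorm).trans' hN
    rwa [Subgroup.subgroupOf_map_subtype, inf_eq_left.mpr hDN] at h1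
  have hle : D ≤ Cfsg.pCore 2 G :=
    Cfsg.Agent.Lib.helper7.subnormal_le_rad (Cfsg.Agent.Lib.helper7.radHyp_pGroup 2) hsub hDp
  rw [hO2] at hle
  have hqH : q ∈ H := by
    obtain ⟨q', _, rfl⟩ := hq
    exact q'.2
  have hc : q * n * q⁻¹ * n⁻¹ ∈ D := by
    rw [hD]
    refine ⟨?_, ?_⟩
    · obtain ⟨q', hq', rfl⟩ := hq
      refine ⟨q' * (⟨n, hNH hn⟩ * q'⁻¹ * ⟨n, hNH hn⟩⁻¹), ?_, ?_⟩
      · exact Subgroup.mul_mem _ hq' (hQn.conj_mem _ (Subgroup.inv_mem _ hq') _)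
      · simp [mul_assoc]
    · have := (mem_normalizer_iff.mp (hHN hqH) n).mp hn
      exact N.mul_mem this (N.inv_mem hn)
  have h1 := Subgroup.mem_bot.mp (hle hc)
  calc q * n = q * n * q⁻¹ * n⁻¹ * (n * q) := by group
    _ = n * q := by rw [h1, one_mul]

end Cfsg.Agent.Lib.helper15.Sid
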