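import Mathlib
import Cfsg.Agent.Lib.helper15.Sidki1

set_option autoImplicit false
set_option linter.style.haveILetI false

namespace Cfsg.Agent.Lib.helper15.Sid

open Subgroup

universe u

variable {G : Type u} [Group G]

/-- The standing hypotheses of a minimal counterexample to the Sidki pair problem, after
the reduction to `O₂(G) = 1`. -/
structure Ctx (V : Subgroup G) : Prop where
  ea : Cfsg.IsElementaryAbelian 2 V
  ne : V ≠ ⊥
  sid : Cfsg.IsSidkiPair V
  o2 : Cfsg.pCore 2 G = ⊥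
  minG : ∀ (H : Type u) [Group H] [Finite H] (W : Subgroup H), Nat.card H < Nat.card G →
      Cfsg.IsElementaryAbelian 2 W → W ≠ ⊥ → Cfsg.IsSidkiPair W → W ⊓ Cfsg.pCore 2 H ≠ ⊥
  minV : ∀ W : Subgroup G, W ≤ V → W ≠ ⊥ → Nat.card W < Nat.card V → ¬ Cfsg.IsSidkiPair W

theorem Ctx.claimF [Finite G] {V : Subgroup G} (c : Ctx V) (N : Subgroup G) [hNn : N.Normal] :
    V ⊓ centralizer (N : Set G) = ⊥ ∨ V ≤ centralizer (N : Set G) := by
  by_contra hcon
  push Not at hcon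
  obtain ⟨hU1, hU2⟩ := hcon
  have hMn : (centralizer (N : Set G)).Normal := inferInstance
  have hV2 : ∀ a ∈ V, a ^ 2 = 1 := c.ea.2
  have hVc : ∀ a ∈ V, ∀ b ∈ V, a * b = b * a := fun a ha b hb => ea_comm c.ea ha hb
  obtain ⟨U, hU⟩ : ∃ U : Subgroup G, U = V ⊓ centralizer (N : Set G) := ⟨_, rfl⟩
  rw [← hU] at hU1
  have hUV : U ≤ V := hU ▸ inf_le_left
  have hUM : U ≤ centralizer (N : Set G) := hU ▸ inf_le_right
  have hUlt : Nat.card U < Nat.card V := by
    apply Cfsg.Agent.Lib.helper7.card_lt_of_lt'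
    refine lt_of_le_of_ne hUV ?_
    intro he
    apply hU2
    rw [← he]; exact hUM
  have hnS := c.minV U hUV hU1 hUlt
  unfold Cfsg.IsSidkiPair at hnS
  push Not at hnS
  obtain ⟨k, u, huU, hkodd, hinv, hCU⟩ := hnS
  have huV : u ∈ V := hUV huU
  have huM : u ∈ centralizer (N : Set G) := hUM huU
  have e0 : u * k⁻¹ * u⁻¹ = k := by
    have := congrArg (fun t => t⁻¹) hinv
    simp only [mul_inv_rev, inv_inv] at this
    rw [mul_assoc]; exact this
  have hkM : k ∈ centralizer (N : Set G) := by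
    apply odd_mem_of_sq_mem hkodd
    have h1 : k ^ 2 = u * (k⁻¹ * u⁻¹ * k⁻¹⁻¹) := by
      calc k ^ 2 = k * k := pow_two k
        _ = (u * k⁻¹ * u⁻¹) * k := by rw [e0]
        _ = u * (k⁻¹ * u⁻¹ * k⁻¹⁻¹) := by group
    rw [h1]
    exact Subgroup.mul_mem _ huM (hMn.conj_mem _ (Subgroup.inv_mem _ huM) _)
  obtain ⟨B, hB⟩ : ∃ B : Subgroup G, B = V ⊓ centralizer ({k} : Set G) := ⟨_, rfl⟩
  have hBV : B ≤ V := hB ▸ inf_le_left
  have hBk : ∀ b ∈ B, b * k = k * b := by
    intro b hb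
    rw [hB] at hb
    exact (mem_centralizer_iff.mp hb.2 k rfl).symm
  have hB1 : B ≠ ⊥ := by
    obtain ⟨w, hw, hw1, hwc⟩ := c.sid k u huV hkodd hinv
    intro hbot
    apply hw1
    have hwB : w ∈ B := by
      rw [hB]
      refine Subgroup.mem_inf.mpr ⟨hw, ?_⟩
      rw [mem_centralizer_iff]
      intro x hx
      rw [Set.mem_singleton_iff.mp hx]
      exact hwc.symm
    rw [hbot] at hwB
    exact Subgroup.mem_bot.mp hwB
  have hBU : ∀ b ∈ B, b ∈ centralizer (N : Set G) → b = 1 := by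
    intro b hb hbM
    by_contra hb1
    exact hCU b (by rw [hU]; exact ⟨hBV hb, hbM⟩) hb1 (hBk b hb)
  have hBea : Cfsg.IsElementaryAbelian 2 B := ea_of_le c.ea hBV
  have hk1 : k ≠ 1 := by
    intro hk
    obtain ⟨w, hw, hw1⟩ := exists_ne_one_of_ne_bot hU1
    exact hCU w hw hw1 (by rw [hk, mul_one, one_mul])
  have hu1 : u ≠ 1 := by
    intro hu
    rw [hu, one_mul, inv_one, mul_one] at hinv
    have hk2 : k ^ 2 = 1 := by
      rw [pow_two]
      calc k * k = k⁻¹ * k := by rw [← hinv]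
        _ = 1 := inv_mul_cancel k
    exact hk1 (odd_eq_one_of_sq hkodd hk2)
  by_cases hNB : N ⊔ B = ⊤
  · have hle : N ⊔ B ≤ centralizer ({u} : Set G) := by
      apply sup_le
      · intro n hn
        rw [mem_centralizer_iff]
        intro x hx
        rw [Set.mem_singleton_iff.mp hx]
        exact (mem_centralizer_iff.mp huM n hn).symm
      · intro b hb
        rw [mem_centralizer_iff]
        intro x hx
        rw [Set.mem_singleton_iff.mp hx]
        exact hVc u huV b (hBV hb)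
    have hkc : k ∈ centralizer ({u} : Set G) := hle (hNB ▸ Subgroup.mem_top k)
    exact hCU u huU hu1 (mem_centralizer_iff.mp hkc u rfl)
  · have hnS2 : ¬ (∀ h ∈ N ⊔ B, ∀ v ∈ B, Odd (orderOf h) → v * h * v⁻¹ = h⁻¹ →
        ∃ w ∈ B, w ≠ 1 ∧ w * h = h * w) := by
      intro hS2
      obtain ⟨b₀, hb₀, hb₀1, hb₀Q⟩ :=
        exists_mem_pCore_sub c.minG (N ⊔ B) B le_sup_right hNB hBea hB1 hS2
      apply hb₀1
      apply hBU b₀ hb₀
      rw [mem_centralizer_iff]
      intro n hn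
      exact (pCore_sub_centralizes c.o2 (N ⊔ B) N le_sup_left le_normalizer_of_normal
        (Subgroup.Normal.isSubnormal hNn) hb₀Q hn).symm
    push Not at hnS2
    obtain ⟨h, hhH, b, hbB, hhodd, hinv2, hCB⟩ := hnS2
    have hhN : h ∈ N := by
      apply odd_mem_of_sq_mem hhodd
      exact sq_mem_of_mem_sup N B le_normalizer_of_normal (fun b hb => hV2 b (hBV hb)) hhH
    have hbV : b ∈ V := hBV hbB
    have huh : u * h = h * u := (mem_centralizer_iff.mp huM h hhN).symm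
    have hkh : k * h = h * k := (mem_centralizer_iff.mp hkM h hhN).symm
    have hbk : b * k = k * b := hBk b hbB
    have hσ : (u * b) * (h * k) * (u * b)⁻¹ = (h * k)⁻¹ := by
      have e1 : b * k * b⁻¹ = k := by rw [hbk, mul_inv_cancel_right]
      have e2 : u * h⁻¹ * u⁻¹ = h⁻¹ := by
        have c1 : Commute u h⁻¹ := (show Commute u h from huh).inv_right
        rw [c1.eq, mul_inv_cancel_right]
      calc (u * b) * (h * k) * (u * b)⁻¹ = u * (b * h * b⁻¹) * (b * k * b⁻¹) * u⁻¹ := by group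
        _ = u * h⁻¹ * k * u⁻¹ := by rw [hinv2, e1]
        _ = (u * h⁻¹ * u⁻¹) * (u * k * u⁻¹) := by group
        _ = h⁻¹ * k⁻¹ := by rw [e2, hinv]
        _ = (h * k)⁻¹ := by rw [← hkh, mul_inv_rev]
    have hodd3 : Odd (orderOf (h * k)) := odd_mul hkh.symm hhodd hkodd
    obtain ⟨w, hw, hw1, hwc⟩ := c.sid (h * k) (u * b) (V.mul_mem huV hbV) hodd3 hσ
    obtain ⟨z, hz⟩ : ∃ z : G, z = h⁻¹ * (w * h * w⁻¹) := ⟨_, rfl⟩
    have hzN : z ∈ N := by
      rw [hz]; exact N.mul_mem (N.inv_mem hhN) (hNn.conj_mem h hhN w)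
    have hz2 : z = k * (w * k⁻¹ * w⁻¹) := by
      have e : w * h * w⁻¹ * (w * k * w⁻¹) = h * k := by
        calc w * h * w⁻¹ * (w * k * w⁻¹) = (w * (h * k)) * w⁻¹ := by group
          _ = h * k := by rw [hwc, mul_inv_cancel_right]
      rw [hz]
      calc h⁻¹ * (w * h * w⁻¹)
          = h⁻¹ * (w * h * w⁻¹ * (w * k * w⁻¹)) * (w * k⁻¹ * w⁻¹) := by group
        _ = k * (w * k⁻¹ * w⁻¹) := by rw [e]; group
    have hzM : z ∈ centralizer (N : Set G) := by
      rw [hz2]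
      exact Subgroup.mul_mem _ hkM (hMn.conj_mem _ (Subgroup.inv_mem _ hkM) w)
    have huw : u * w = w * u := hVc u huV w hw
    have cu_h : Commute u h := huh
    have cu_w : Commute u w := huw
    have e3 : u * z * u⁻¹ = z := by
      have cz : Commute u z := by
        rw [hz]
        exact cu_h.inv_right.mul_right ((cu_w.mul_right cu_h).mul_right cu_w.inv_right)
      rw [cz.eq, mul_inv_cancel_right]
    have e4 : u * z * u⁻¹ = z⁻¹ := by
      have e5 : u * (w * k⁻¹ * w⁻¹) * u⁻¹ = w * (u * k⁻¹ * u⁻¹) * w⁻¹ := by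
        have c2 : w⁻¹ * u⁻¹ = u⁻¹ * w⁻¹ := by rw [← mul_inv_rev, ← mul_inv_rev, huw]
        calc u * (w * k⁻¹ * w⁻¹) * u⁻¹ = (u * w) * k⁻¹ * (w⁻¹ * u⁻¹) := by group
          _ = (w * u) * k⁻¹ * (u⁻¹ * w⁻¹) := by rw [huw, c2]
          _ = w * (u * k⁻¹ * u⁻¹) * w⁻¹ := by group
      have hkz : Commute k z := (mem_centralizer_iff.mp hkM z hzN).symm
      have e6 : z⁻¹ = w * k * w⁻¹ * k⁻¹ := by rw [hz2]; group
      have e7 : k⁻¹ * (w * k * w⁻¹) = z⁻¹ := by
        have c3 : Commute k⁻¹ z⁻¹ := hkz.inv_inv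
        calc k⁻¹ * (w * k * w⁻¹) = k⁻¹ * (w * k * w⁻¹ * k⁻¹) * k := by group
          _ = k⁻¹ * z⁻¹ * k := by rw [← e6]
          _ = z⁻¹ * k⁻¹ * k := by rw [c3.eq]
          _ = z⁻¹ := by group
      calc u * z * u⁻¹ = u * (k * (w * k⁻¹ * w⁻¹)) * u⁻¹ := by rw [← hz2]
        _ = (u * k * u⁻¹) * (u * (w * k⁻¹ * w⁻¹) * u⁻¹) := by group
        _ = k⁻¹ * (w * k * w⁻¹) := by rw [hinv, e5, e0]
        _ = z⁻¹ := e7
    have hzz : z ^ 2 = 1 := by
      have hzi : z = z⁻¹ := e3.symm.trans e4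
      rw [pow_two]
      calc z * z = z⁻¹ * z := by rw [← hzi]
        _ = 1 := inv_mul_cancel z
    have hz1 : z = 1 := by
      have hodd := sq_eq_one_of_abelian_normal c.o2 (N ⊓ centralizer (N : Set G))
        (fun a ha b hb => (mem_centralizer_iff.mp ha.2 b hb.1).symm) ⟨hzN, hzM⟩
      exact odd_eq_one_of_sq hodd hzz
    have e8 : w * h * w⁻¹ = h := by
      have h2 : h⁻¹ * (w * h * w⁻¹) = 1 := hz.symm.trans hz1
      exact (inv_mul_eq_one.mp h2).symm
    have hwh : w * h = h * w := by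
      calc w * h = w * h * w⁻¹ * w := by group
        _ = h * w := by rw [e8]
    have hwk : w * k = k * w := by
      have h3 : h * (w * k) = h * (k * w) := by
        calc h * (w * k) = (h * w) * k := by group
          _ = (w * h) * k := by rw [hwh]
          _ = w * (h * k) := by group
          _ = h * k * w := hwc
          _ = h * (k * w) := by group
      exact mul_left_cancel h3
    have hwB : w ∈ B := by
      rw [hB]
      refine Subgroup.mem_inf.mpr ⟨hw, ?_⟩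
      rw [mem_centralizer_iff]
      intro x hx
      rw [Set.mem_singleton_iff.mp hx]
      exact hwk.symm
    exact hCB w hwB hw1 hwh

theorem Ctx.claimF' [Finite G] {V : Subgroup G} (c : Ctx V) (N : Subgroup G) [hNn : N.Normal] :
    V ⊓ centralizer (N : Set G) = ⊥ ∨ N ≤ center G := by
  rcases c.claimF N with h | h
  · left; exact h
  · right
    by_contra hNZ
    have hMn : (centralizer (N : Set G)).Normal := inferInstance
    have hM : centralizer (N : Set G) ≠ ⊤ := by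
      intro htop
      apply hNZ
      intro n hn
      rw [mem_center_iff]
      intro g
      have hg : g ∈ centralizer (N : Set G) := htop ▸ mem_top g
      exact (mem_centralizer_iff.mp hg n hn).symm
    obtain ⟨v, hv, hv1, hvQ⟩ := exists_mem_pCore_sub c.minG (centralizer (N : Set G)) V h hM
      c.ea c.ne (fun h _ v hv ho hi => c.sid h v hv ho hi)
    have hle : (Cfsg.pCore 2 ↥(centralizer (N : Set G))).map (centralizer (N : Set G)).subtype ≤
        Cfsg.pCore 2 G :=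
      Cfsg.Agent.Lib.helper7.rad_subnormal_le (Cfsg.Agent.Lib.helper7.radHyp_pGroup 2)
        (Subgroup.Normal.isSubnormal hMn)
    have hv' := hle hvQ
    rw [c.o2] at hv'
    exact hv1 (Subgroup.mem_bot.mp hv')

theorem Ctx.fact2 [Finite G] {V : Subgroup G} (c : Ctx V) (N : Subgroup G) [hNn : N.Normal]
    (h : V ⊓ centralizer (N : Set G) = ⊥) : N ⊔ V = ⊤ := by
  by_contra hne
  obtain ⟨v, hv, hv1, hvQ⟩ := exists_mem_pCore_sub c.minG (N ⊔ V) V le_sup_right hne
    c.ea c.ne (fun h _ v hv ho hi => c.sid h v hv ho hi)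
  apply hv1
  have hvc : v ∈ V ⊓ centralizer (N : Set G) := by
    refine Subgroup.mem_inf.mpr ⟨hv, ?_⟩
    rw [mem_centralizer_iff]
    intro n hn
    exact (pCore_sub_centralizes c.o2 (N ⊔ V) N le_sup_left le_normalizer_of_normal
      (Subgroup.Normal.isSubnormal hNn) hvQ hn).symm
  rw [h] at hvc
  exact Subgroup.mem_bot.mp hvc

theorem Ctx.center_bot [Finite G] {V : Subgroup G} (c : Ctx V) : center G = ⊥ := by
  by_contra hZ
  haveI : Fact (Nat.Prime 2) := ⟨Nat.prime_two⟩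
  have hVZ : V ⊓ center G = ⊥ := by
    rw [eq_bot_iff]
    intro v hv
    rw [Subgroup.mem_bot]
    have hodd := sq_eq_one_of_abelian_normal c.o2 (center G)
      (fun a ha b _ => (mem_center_iff.mp ha b).symm) hv.2
    exact odd_eq_one_of_sq hodd (c.ea.2 v hv.1)
  obtain ⟨v, hv, hv1, hvQ⟩ := exists_mem_pCore_quot c.minG c.ea c.sid c.ne (center G) hZ hVZ
  obtain ⟨P, hP⟩ : ∃ P : Subgroup G,
      P = (Cfsg.pCore 2 (G ⧸ center G)).comap (QuotientGroup.mk' (center G)) := ⟨_, rfl⟩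
  have hPn : P.Normal := by
    rw [hP]; exact Subgroup.Normal.comap (pCore_normal 2 _) _
  have hPnil : Group.IsNilpotent ↥P := by
    subst hP
    haveI hQnil : Group.IsNilpotent ↥(Cfsg.pCore 2 (G ⧸ center G)) :=
      (pCore_isPGroup 2 _).isNilpotent
    apply Subgroup.isNilpotent_of_ker_le_center
      ((QuotientGroup.mk' (center G)).subgroupComap (Cfsg.pCore 2 (G ⧸ center G)))
    intro x hx
    rw [MonoidHom.mem_ker] at hx
    have h1 : QuotientGroup.mk' (center G) (x : G) = 1 := congrArg Subtype.val hx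
    have h2 : (x : G) ∈ center G := (QuotientGroup.eq_one_iff _).mp h1
    rw [mem_center_iff]
    intro g
    apply Subtype.ext
    exact mem_center_iff.mp h2 g
  have hvF : v ∈ Cfsg.fittingSubgroup G :=
    Cfsg.Agent.Lib.helper7.le_fitting hPn hPnil (by rw [hP]; exact hvQ)
  exact hv1 (odd_eq_one_of_sq (fitting_odd c.o2 hvF) (c.ea.2 v hv))

theorem Ctx.normal_sup [Finite G] {V : Subgroup G} (c : Ctx V) (N : Subgroup G) [N.Normal]
    (hN : N ≠ ⊥) : V ⊓ centralizer (N : Set G) = ⊥ ∧ N ⊔ V = ⊤ := by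
  have h1 : V ⊓ centralizer (N : Set G) = ⊥ := by
    rcases c.claimF' N with h | h
    · exact h
    · exfalso
      apply hN
      rw [eq_bot_iff, ← c.center_bot]
      exact h
  exact ⟨h1, c.fact2 N h1⟩

theorem Ctx.cent_abelian [Finite G] {V : Subgroup G} (c : Ctx V) (N : Subgroup G)
    [hNn : N.Normal] (hab : ∀ a ∈ N, ∀ b ∈ N, a * b = b * a) {v n : G} (hv : v ∈ V)
    (hv1 : v ≠ 1) (hn : n ∈ N) (hvn : v * n = n * v) : n = 1 := by
  by_contra hn1
  have hNne : N ≠ ⊥ := fun h => hn1 (by rw [h] at hn; exact mem_bot.mp hn)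
  obtain ⟨_, hsup⟩ := c.normal_sup N hNne
  obtain ⟨N₁, hN₁⟩ : ∃ N₁ : Subgroup G, N₁ = N ⊓ centralizer ({v} : Set G) := ⟨_, rfl⟩
  haveI hN₁n : N₁.Normal := by
    constructor
    intro x hx g
    obtain ⟨n', hn', w', hw', rfl⟩ :=
      exists_mul_of_mem_sup N V le_normalizer_of_normal (hsup ▸ mem_top g)
    rw [hN₁] at hx ⊢
    have hy : w' * x * w'⁻¹ ∈ N := hNn.conj_mem x hx.1 w'
    have e : n' * w' * x * (n' * w')⁻¹ = w' * x * w'⁻¹ := by
      calc n' * w' * x * (n' * w')⁻¹ = n' * (w' * x * w'⁻¹) * n'⁻¹ := by group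
        _ = (w' * x * w'⁻¹) * n' * n'⁻¹ := by rw [hab n' hn' _ hy]
        _ = w' * x * w'⁻¹ := by group
    rw [e]
    refine Subgroup.mem_inf.mpr ⟨hy, ?_⟩
    rw [mem_centralizer_iff]
    intro t ht
    rw [Set.mem_singleton_iff.mp ht]
    have cvw : Commute v w' := ea_comm c.ea hv hw'
    have cvx : Commute v x := mem_centralizer_iff.mp hx.2 v rfl
    exact (cvw.mul_right cvx).mul_right cvw.inv_right
  have hnN₁ : n ∈ N₁ := by
    rw [hN₁]
    refine Subgroup.mem_inf.mpr ⟨hn, ?_⟩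
    rw [mem_centralizer_iff]
    intro t ht
    rw [Set.mem_singleton_iff.mp ht]
    exact hvn
  have hN₁ne : N₁ ≠ ⊥ := fun h => hn1 (by rw [h] at hnN₁; exact mem_bot.mp hnN₁)
  obtain ⟨hc, _⟩ := c.normal_sup N₁ hN₁ne
  have hvc : v ∈ V ⊓ centralizer (N₁ : Set G) := by
    refine Subgroup.mem_inf.mpr ⟨hv, ?_⟩
    rw [mem_centralizer_iff]
    intro x hx
    rw [hN₁] at hx
    exact (mem_centralizer_iff.mp hx.2 v rfl).symm
  rw [hc] at hvc
  exact hv1 (mem_bot.mp hvc)

theorem Ctx.abelian_normal_bot [Finite G] {V : Subgroup G} (c : Ctx V) (N : Subgroup G)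
    [hNn : N.Normal] (hab : ∀ a ∈ N, ∀ b ∈ N, a * b = b * a) : N = ⊥ := by
  by_contra hN
  obtain ⟨n, hn, hn1⟩ := exists_ne_one_of_ne_bot hN
  obtain ⟨v, hv, hv1⟩ := exists_ne_one_of_ne_bot c.ne
  have hvv : v * v = 1 := by rw [← pow_two]; exact c.ea.2 v hv
  have hvi : v⁻¹ = v := inv_eq_self_of_sq (c.ea.2 v hv)
  obtain ⟨h, hh⟩ : ∃ h : G, h = n⁻¹ * (v * n * v⁻¹) := ⟨_, rfl⟩
  have hhN : h ∈ N := by
    rw [hh]; exact N.mul_mem (N.inv_mem hn) (hNn.conj_mem n hn v)
  have hodd : Odd (orderOf h) := sq_eq_one_of_abelian_normal c.o2 N hab hhN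
  have hinv : v * h * v⁻¹ = h⁻¹ := by
    rw [hh]
    calc v * (n⁻¹ * (v * n * v⁻¹)) * v⁻¹ = v * n⁻¹ * v * n * (v * v)⁻¹ := by group
      _ = v * n⁻¹ * v * n := by rw [hvv, inv_one, mul_one]
      _ = v * n⁻¹ * v⁻¹ * n := by rw [hvi]
      _ = (n⁻¹ * (v * n * v⁻¹))⁻¹ := by group
  obtain ⟨w, hw, hw1, hwc⟩ := c.sid h v hv hodd hinv
  have hh1 : h = 1 := c.cent_abelian N hab hw hw1 hhN hwc
  have e : v * n = n * v := by
    have h2 : n⁻¹ * (v * n * v⁻¹) = 1 := hh.symm.trans hh1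
    have h3 : n = v * n * v⁻¹ := inv_mul_eq_one.mp h2
    calc v * n = v * n * v⁻¹ * v := by group
      _ = n * v := by rw [← h3]
  exact hn1 (c.cent_abelian N hab hv hv1 hn e)

theorem Ctx.fitting_bot [Finite G] {V : Subgroup G} (c : Ctx V) :
    Cfsg.fittingSubgroup G = ⊥ := by
  by_contra hF
  haveI hnil := Cfsg.Agent.Lib.helper7.fitting_nilpotent G
  have hZ : (⊤ : Subgroup ↥(Cfsg.fittingSubgroup G)) ⊓ center ↥(Cfsg.fittingSubgroup G) ≠ ⊥ := by
    apply Cfsg.Agent.Lib.helper7.nilpotent_normal_inf_center_ne_bot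
    intro h
    apply hF
    rw [eq_bot_iff]
    intro x hx
    have h1 : (⟨x, hx⟩ : ↥(Cfsg.fittingSubgroup G)) ∈
        (⊤ : Subgroup ↥(Cfsg.fittingSubgroup G)) := mem_top _
    rw [h, mem_bot] at h1
    exact mem_bot.mpr (congrArg Subtype.val h1)
  rw [top_inf_eq] at hZ
  haveI hZn : ((center ↥(Cfsg.fittingSubgroup G)).map (Cfsg.fittingSubgroup G).subtype).Normal :=
    Cfsg.Agent.Lib.helper7.normal_map_subtype_of_char _
  have hbot := c.abelian_normal_bot
    ((center ↥(Cfsg.fittingSubgroup G)).map (Cfsg.fittingSubgroup G).subtype) (by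
      rintro _ ⟨a, ha, rfl⟩ _ ⟨b, hb, rfl⟩
      have h1 := mem_center_iff.mp ha b
      exact congrArg Subtype.val h1.symm)
  apply hZ
  rw [eq_bot_iff]
  intro x hx
  have h1 : (x : G) ∈ (center ↥(Cfsg.fittingSubgroup G)).map (Cfsg.fittingSubgroup G).subtype :=
    ⟨x, hx, rfl⟩
  rw [hbot, mem_bot] at h1
  exact mem_bot.mpr (Subtype.ext h1)

end Cfsg.Agent.Lib.helper15.Sid
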