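import Mathlib
import Cfsg.Agent.Lib.helper15.Sidki2

set_option autoImplicit false
set_option linter.style.haveILetI false

namespace Cfsg.Agent.Lib.helper15.Sid

open Subgroup

universe u

variable {G : Type u} [Group G]

/-- The conjugate `g L g⁻¹`. -/
def cj (g : G) (L : Subgroup G) : Subgroup G := L.map (MulAut.conj g).toMonoidHom

theorem mem_cj {g : G} {L : Subgroup G} {y : G} : y ∈ cj g L ↔ g⁻¹ * y * g ∈ L := by
  unfold cj
  rw [Subgroup.mem_map_equiv, MulAut.conj_symm_apply]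

theorem conj_mem_cj {g : G} {L : Subgroup G} {x : G} (hx : x ∈ L) : g * x * g⁻¹ ∈ cj g L := by
  rw [mem_cj]
  have e : g⁻¹ * (g * x * g⁻¹) * g = x := by group
  rw [e]; exact hx

theorem cj_mul (g g' : G) (L : Subgroup G) : cj (g * g') L = cj g (cj g' L) := by
  ext y
  rw [mem_cj, mem_cj, mem_cj]
  have e : (g * g')⁻¹ * y * (g * g') = g'⁻¹ * (g⁻¹ * y * g) * g' := by group
  rw [e]

theorem cj_one (L : Subgroup G) : cj 1 L = L := by
  ext y
  rw [mem_cj]
  simp

theorem cj_comp {g : G} {L : Subgroup G} (hL : Cfsg.IsComponent L) :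
    Cfsg.IsComponent (cj g L) :=
  Cfsg.Agent.Lib.helper7.comp_map_equiv (MulAut.conj g) hL

theorem cj_eq_iff {g : G} {L : Subgroup G} : cj g L = L ↔ g ∈ normalizer (L : Set G) := by
  constructor
  · intro h
    rw [mem_normalizer_iff]
    intro x
    constructor
    · intro hx
      have := conj_mem_cj (g := g) hx
      rw [h] at this; exact this
    · intro hx
      rw [← h] at hx
      rw [mem_cj] at hx
      have e : g⁻¹ * (g * x * g⁻¹) * g = x := by group
      rw [e] at hx; exact hx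
  · intro h
    rw [mem_normalizer_iff''] at h
    ext y
    rw [mem_cj]
    exact (h y).symm

theorem exists_odd_ne_one [Finite G] {L : Subgroup G} (hL : Cfsg.IsComponent L) :
    ∃ x ∈ L, x ≠ 1 ∧ Odd (orderOf x) := by
  by_contra hcon
  haveI : Fact (Nat.Prime 2) := ⟨Nat.prime_two⟩
  have hp : IsPGroup 2 ↥L := by
    intro g
    obtain ⟨a, ha⟩ := exists_odd_pow (g : G)
    refine ⟨a, ?_⟩
    by_contra h1
    exact hcon ⟨(g : G) ^ (2 ^ a), L.pow_mem g.2 _,
      fun h2 => h1 (Subtype.ext (by simpa using h2)), ha⟩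
  haveI := hp.isNilpotent
  exact Cfsg.Agent.Lib.helper7.qs_not_solvable hL.2 inferInstance

theorem Ctx.comp_normal [Finite G] {V : Subgroup G} (c : Ctx V) {L : Subgroup G}
    (hL : Cfsg.IsComponent L) : L.Normal := by
  have hF := c.fitting_bot
  have hZL : center ↥L = ⊥ := Cfsg.Agent.Lib.helper7.comp_center_bot hF hL
  have hVc : ∀ a ∈ V, ∀ b ∈ V, a * b = b * a := fun a ha b hb => ea_comm c.ea ha hb
  obtain ⟨E, hE⟩ : ∃ E : Subgroup G, E = normalClosure (L : Set G) := ⟨_, rfl⟩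
  haveI hEn : E.Normal := by rw [hE]; exact normalClosure_normal
  have hLE : L ≤ E := by rw [hE]; exact le_normalClosure
  have hElayer : E ≤ Cfsg.layer G := by
    rw [hE]; exact normalClosure_le_normal (Cfsg.Agent.Lib.helper7.comp_le_layer hL)
  obtain ⟨x, hxL, hx1, hxodd⟩ := exists_odd_ne_one hL
  have hEne : E ≠ ⊥ := by
    intro h
    have h1 := hLE hxL
    rw [h] at h1
    exact hx1 (mem_bot.mp h1)
  obtain ⟨hCE, hEV⟩ := c.normal_sup E hEne
  have hEnorm : ∀ e ∈ E, ∀ g : G, ∀ y ∈ cj g L, e * y * e⁻¹ ∈ cj g L := by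
    intro e he g y hy
    have h1 := Cfsg.Agent.Lib.helper7.layer_le_normalizer_comp (cj_comp (g := g) hL)
      (hElayer he)
    exact (mem_normalizer_iff.mp h1 y).mp hy
  by_cases hVL : ∀ v ∈ V, cj v L = L
  · constructor
    intro y hy g
    obtain ⟨e, he, v, hv, rfl⟩ :=
      exists_mul_of_mem_sup E V le_normalizer_of_normal (hEV ▸ mem_top g)
    have h1 : v * y * v⁻¹ ∈ L := by
      have h0 := conj_mem_cj (g := v) hy
      rw [hVL v hv] at h0; exact h0
    have h2 : e * (v * y * v⁻¹) * e⁻¹ ∈ cj 1 L :=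
      hEnorm e he 1 _ (by rw [cj_one]; exact h1)
    rw [cj_one] at h2
    have e' : e * v * y * (e * v)⁻¹ = e * (v * y * v⁻¹) * e⁻¹ := by group
    rw [e']; exact h2
  · exfalso
    push Not at hVL
    obtain ⟨v, hv, hvL⟩ := hVL
    have hvv : v * v = 1 := by rw [← pow_two]; exact c.ea.2 v hv
    have hvi : v⁻¹ = v := inv_eq_self_of_sq (c.ea.2 v hv)
    have hLv : Cfsg.IsComponent (cj v L) := cj_comp hL
    obtain ⟨y, hy⟩ : ∃ y : G, y = v * x⁻¹ * v⁻¹ := ⟨_, rfl⟩
    have hyLv : y ∈ cj v L := by rw [hy]; exact conj_mem_cj (L.inv_mem hxL)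
    have hxy : x * y = y * x :=
      Cfsg.Agent.Lib.helper7.comp_comm_elem hL hLv (Ne.symm hvL) hxL hyLv
    have hyodd : Odd (orderOf y) := by
      have e : y = MulAut.conj v x⁻¹ := by rw [hy, MulAut.conj_apply]
      rw [e, MulEquiv.orderOf_eq, orderOf_inv]; exact hxodd
    have hhodd : Odd (orderOf (x * y)) := odd_mul hxy hxodd hyodd
    have hinv : v * (x * y) * v⁻¹ = (x * y)⁻¹ := by
      rw [hy]
      calc v * (x * (v * x⁻¹ * v⁻¹)) * v⁻¹
          = v * x * v⁻¹ * ((v * v) * x⁻¹ * (v * v)⁻¹) := by group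
        _ = v * x * v⁻¹ * x⁻¹ := by rw [hvv, one_mul, inv_one, mul_one]
        _ = (x * (v * x⁻¹ * v⁻¹))⁻¹ := by group
    obtain ⟨w, hw, hw1, hwc⟩ := c.sid (x * y) v hv hhodd hinv
    have hvw : v * w = w * v := hVc v hv w hw
    have hkey : cj w L = L ∨ cj w L = cj v L := by
      by_contra hcon
      push Not at hcon
      obtain ⟨hw1', hw2'⟩ := hcon
      have hLw : Cfsg.IsComponent (cj w L) := cj_comp hL
      have hLwv : Cfsg.IsComponent (cj (w * v) L) := cj_comp hL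
      have hwvL : cj (w * v) L ≠ L := by
        intro h
        apply hw2'
        have h1 : cj (v * (w * v)) L = cj v L := by rw [cj_mul, h]
        have e : v * (w * v) = w := by
          calc v * (w * v) = (v * w) * v := by group
            _ = (w * v) * v := by rw [hvw]
            _ = w * (v * v) := by group
            _ = w := by rw [hvv, mul_one]
        rw [e] at h1; exact h1
      have ha : w * x * w⁻¹ ∈ cj w L := conj_mem_cj hxL
      have hb : (w * v) * x⁻¹ * (w * v)⁻¹ ∈ cj (w * v) L := conj_mem_cj (L.inv_mem hxL)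
      have hrel : (w * x * w⁻¹) * ((w * v) * x⁻¹ * (w * v)⁻¹) = x * y := by
        calc (w * x * w⁻¹) * ((w * v) * x⁻¹ * (w * v)⁻¹)
            = w * (x * (v * x⁻¹ * v⁻¹)) * w⁻¹ := by group
          _ = w * (x * y) * w⁻¹ := by rw [hy]
          _ = x * y := by rw [hwc, mul_inv_cancel_right]
      have hxe : (w * x * w⁻¹) * ((w * v) * x⁻¹ * (w * v)⁻¹) * y⁻¹ = x := by
        rw [hrel, mul_inv_cancel_right]
      have hxc : (⟨x, hxL⟩ : ↥L) ∈ center ↥L := by
        rw [mem_center_iff]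
        intro l
        apply Subtype.ext
        show (l : G) * x = x * (l : G)
        have c1 : Commute (l : G) (w * x * w⁻¹) :=
          Cfsg.Agent.Lib.helper7.comp_comm_elem hL hLw (Ne.symm hw1') l.2 ha
        have c2 : Commute (l : G) ((w * v) * x⁻¹ * (w * v)⁻¹) :=
          Cfsg.Agent.Lib.helper7.comp_comm_elem hL hLwv (Ne.symm hwvL) l.2 hb
        have c3 : Commute (l : G) y :=
          Cfsg.Agent.Lib.helper7.comp_comm_elem hL hLv (Ne.symm hvL) l.2 hyLv
        have c4 : Commute (l : G)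
            ((w * x * w⁻¹) * ((w * v) * x⁻¹ * (w * v)⁻¹) * y⁻¹) :=
          (c1.mul_right c2).mul_right c3.inv_right
        rw [hxe] at c4
        exact c4.eq
      rw [hZL, mem_bot] at hxc
      exact hx1 (congrArg Subtype.val hxc)
    have hV₁ : ∃ t ∈ V, t ≠ 1 ∧ cj t L = L := by
      rcases hkey with h | h
      · exact ⟨w, hw, hw1, h⟩
      · refine ⟨v * w, V.mul_mem hv hw, ?_, ?_⟩
        · intro h1
          have hwv : w = v := by
            have h0 : w = v⁻¹ := eq_inv_of_mul_eq_one_right h1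
            rw [h0, hvi]
          rw [hwv] at hwc
          have h2 : (x * y)⁻¹ = x * y := by
            rw [← hinv, hwc, mul_inv_cancel_right]
          have h3 : (x * y) ^ 2 = 1 := by
            rw [pow_two]
            calc (x * y) * (x * y) = (x * y)⁻¹ * (x * y) := by rw [h2]
              _ = 1 := inv_mul_cancel _
          have h4 : x * y = 1 := odd_eq_one_of_sq hhodd h3
          have h5 : x ∈ cj v L := by
            have h6 : x = y⁻¹ := eq_inv_of_mul_eq_one_left h4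
            rw [h6]; exact (cj v L).inv_mem hyLv
          exact hx1 (Cfsg.Agent.Lib.helper7.comp_inf_eq_one hL hLv (Ne.symm hvL) hZL hxL h5)
        · rw [cj_mul, h, ← cj_mul, hvv, cj_one]
    obtain ⟨t, ht, ht1, htL⟩ := hV₁
    obtain ⟨V₁, hV₁⟩ : ∃ V₁ : Subgroup G, V₁ = V ⊓ normalizer (L : Set G) := ⟨_, rfl⟩
    have hV₁V : V₁ ≤ V := hV₁ ▸ inf_le_left
    have hV₁N : V₁ ≤ normalizer (L : Set G) := hV₁ ▸ inf_le_right
    have htV₁ : t ∈ V₁ := by
      rw [hV₁]; exact Subgroup.mem_inf.mpr ⟨ht, cj_eq_iff.mp htL⟩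
    have hV₁ne : V₁ ≠ ⊥ := fun h => ht1 (by rw [h] at htV₁; exact mem_bot.mp htV₁)
    have hV₁ea := ea_of_le c.ea hV₁V
    have hHle : L ⊔ V₁ ≤ normalizer (L : Set G) := sup_le le_normalizer hV₁N
    have hHne : L ⊔ V₁ ≠ ⊤ := by
      intro h
      apply hvL
      rw [cj_eq_iff]
      exact hHle (h ▸ mem_top v)
    have hSrel : ∀ h ∈ L ⊔ V₁, ∀ v₁ ∈ V₁, Odd (orderOf h) → v₁ * h * v₁⁻¹ = h⁻¹ →
        ∃ w' ∈ V₁, w' ≠ 1 ∧ w' * h = h * w' := by
      intro h hh v₁ hv₁ hodd hinv'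
      have hhL : h ∈ L := by
        apply odd_mem_of_sq_mem hodd
        exact sq_mem_of_mem_sup L V₁ hV₁N (fun b hb => c.ea.2 b (hV₁V hb)) hh
      by_cases hh1 : h = 1
      · exact ⟨t, htV₁, ht1, by rw [hh1, mul_one, one_mul]⟩
      · obtain ⟨w', hw', hw'1, hw'c⟩ := c.sid h v₁ (hV₁V hv₁) hodd hinv'
        refine ⟨w', ?_, hw'1, hw'c⟩
        rw [hV₁]
        refine Subgroup.mem_inf.mpr ⟨hw', ?_⟩
        rw [← cj_eq_iff]
        by_contra hne
        apply hh1
        have h5 : h ∈ cj w' L := by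
          have h0 := conj_mem_cj (g := w') hhL
          rw [hw'c, mul_inv_cancel_right] at h0
          exact h0
        exact Cfsg.Agent.Lib.helper7.comp_inf_eq_one hL (cj_comp hL) (Ne.symm hne) hZL hhL h5
    obtain ⟨u₀, hu₀, hu₀1, hu₀Q⟩ :=
      exists_mem_pCore_sub c.minG (L ⊔ V₁) V₁ le_sup_right hHne hV₁ea hV₁ne hSrel
    have hu₀V : u₀ ∈ V := hV₁V hu₀
    have hu₀L : ∀ l ∈ L, u₀ * l = l * u₀ := fun l hl =>
      pCore_sub_centralizes c.o2 (L ⊔ V₁) L le_sup_left hHle hL.1 hu₀Q hl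
    have hu₀E : u₀ ∈ V ⊓ centralizer (E : Set G) := by
      refine Subgroup.mem_inf.mpr ⟨hu₀V, ?_⟩
      have hle : E ≤ centralizer ({u₀} : Set G) := by
        rw [hE]
        show closure (Group.conjugatesOfSet (L : Set G)) ≤ _
        rw [closure_le]
        intro cc hcc
        rw [Group.mem_conjugatesOfSet_iff] at hcc
        obtain ⟨a, ha, hconj⟩ := hcc
        rw [isConj_iff] at hconj
        obtain ⟨g, rfl⟩ := hconj
        obtain ⟨e, he, v', hv', rfl⟩ :=
          exists_mul_of_mem_sup E V le_normalizer_of_normal (hEV ▸ mem_top g)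
        have h1 : e * (v' * a * v'⁻¹) * e⁻¹ ∈ cj v' L := hEnorm e he v' _ (conj_mem_cj ha)
        rw [mem_cj] at h1
        have h2 : Commute u₀ (v'⁻¹ * (e * (v' * a * v'⁻¹) * e⁻¹) * v') := hu₀L _ h1
        have cuv : Commute u₀ v' := hVc u₀ hu₀V v' hv'
        have c5 : Commute u₀ (v' * (v'⁻¹ * (e * (v' * a * v'⁻¹) * e⁻¹) * v') * v'⁻¹) :=
          (cuv.mul_right h2).mul_right cuv.inv_right
        have e' : v' * (v'⁻¹ * (e * (v' * a * v'⁻¹) * e⁻¹) * v') * v'⁻¹ =
            e * v' * a * (e * v')⁻¹ := by group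
        rw [e'] at c5
        show e * v' * a * (e * v')⁻¹ ∈ centralizer ({u₀} : Set G)
        rw [mem_centralizer_iff]
        intro s hs
        rw [Set.mem_singleton_iff.mp hs]
        exact c5.eq
      rw [mem_centralizer_iff]
      intro e he
      exact (mem_centralizer_iff.mp (hle he) u₀ rfl).symm
    rw [hCE] at hu₀E
    exact hu₀1 (mem_bot.mp hu₀E)

theorem Ctx.comp_unique [Finite G] {V : Subgroup G} (c : Ctx V) {L₁ L₂ : Subgroup G}
    (h₁ : Cfsg.IsComponent L₁) (h₂ : Cfsg.IsComponent L₂) : L₁ = L₂ := by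
  by_contra hne
  have hF := c.fitting_bot
  haveI hn1 : L₁.Normal := c.comp_normal h₁
  have hZ1 := Cfsg.Agent.Lib.helper7.comp_center_bot hF h₁
  obtain ⟨x, hxL, hx1, _⟩ := exists_odd_ne_one h₁
  have hL1ne : L₁ ≠ ⊥ := by
    intro h
    rw [h] at hxL
    exact hx1 (mem_bot.mp hxL)
  obtain ⟨_, hsup⟩ := c.normal_sup L₁ hL1ne
  have hsq : ∀ y ∈ L₂, y ^ 2 = 1 := by
    intro y hy
    have h1 : y ^ 2 ∈ L₁ :=
      sq_mem_of_mem_sup L₁ V le_normalizer_of_normal c.ea.2 (hsup ▸ mem_top y)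
    exact Cfsg.Agent.Lib.helper7.comp_inf_eq_one h₁ h₂ hne hZ1 h1 (L₂.pow_mem hy 2)
  haveI : Fact (Nat.Prime 2) := ⟨Nat.prime_two⟩
  have hp : IsPGroup 2 ↥L₂ := by
    intro g
    refine ⟨1, ?_⟩
    apply Subtype.ext
    have := hsq g g.2
    simpa using this
  haveI := hp.isNilpotent
  exact Cfsg.Agent.Lib.helper7.qs_not_solvable h₂.2 inferInstance

/-- Minimal counterexample reduction for the Sidki pair problem. -/
theorem sidki_main [Finite G] (V : Subgroup G) (hV : Cfsg.IsElementaryAbelian 2 V)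
    (hV1 : V ≠ ⊥) (hS : Cfsg.IsSidkiPair V) (hVO : V ⊓ Cfsg.pCore 2 G = ⊥)
    (hminG : ∀ (H : Type u) [Group H] [Finite H] (W : Subgroup H), Nat.card H < Nat.card G →
      Cfsg.IsElementaryAbelian 2 W → W ≠ ⊥ → Cfsg.IsSidkiPair W → W ⊓ Cfsg.pCore 2 H ≠ ⊥)
    (hminV : ∀ W : Subgroup G, Nat.card W < Nat.card V → Cfsg.IsElementaryAbelian 2 W →
      W ≠ ⊥ → Cfsg.IsSidkiPair W → W ⊓ Cfsg.pCore 2 G ≠ ⊥) :
    IsSimpleGroup ↥(Cfsg.generalizedFittingSubgroup G) ∧
      ¬ IsMulCommutative ↥(Cfsg.generalizedFittingSubgroup G) ∧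
      V ⊔ Cfsg.generalizedFittingSubgroup G = ⊤ := by
  have hO2 : Cfsg.pCore 2 G = ⊥ := by
    by_contra hne
    obtain ⟨v, hv, hv1, hvQ⟩ :=
      exists_mem_pCore_quot hminG hV hS hV1 (Cfsg.pCore 2 G) hne hVO
    rw [pCore_quot_bot, mem_bot] at hvQ
    have hvO : v ∈ Cfsg.pCore 2 G := (QuotientGroup.eq_one_iff v).mp hvQ
    have hvm : v ∈ V ⊓ Cfsg.pCore 2 G := Subgroup.mem_inf.mpr ⟨hv, hvO⟩
    rw [hVO] at hvm
    exact hv1 (mem_bot.mp hvm)
  have c : Ctx V := by
    refine ⟨hV, hV1, hS, hO2, hminG, ?_⟩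
    intro W hWV hW1 hlt hWS
    have h1 := hminV W hlt (ea_of_le hV hWV) hW1 hWS
    apply h1
    rw [hO2, inf_bot_eq]
  have hF := c.fitting_bot
  have hne : Nontrivial G := by
    obtain ⟨v, _, hv1⟩ := exists_ne_one_of_ne_bot hV1
    exact ⟨⟨v, 1, hv1⟩⟩
  obtain ⟨h1, h2⟩ := Cfsg.Agent.Lib.helper7.fstar_simple_of_unique hne hF
    (fun L₁ L₂ hL₁ hL₂ => c.comp_unique hL₁ hL₂)
  refine ⟨h1, h2, ?_⟩
  have hFs : Cfsg.generalizedFittingSubgroup G ≠ ⊥ := by
    intro hbot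
    haveI := h1
    obtain ⟨a, b, hab⟩ := (inferInstance : Nontrivial ↥(Cfsg.generalizedFittingSubgroup G))
    apply hab
    have ha : (a : G) ∈ (⊥ : Subgroup G) := hbot ▸ a.2
    have hb : (b : G) ∈ (⊥ : Subgroup G) := hbot ▸ b.2
    exact Subtype.ext ((mem_bot.mp ha).trans (mem_bot.mp hb).symm)
  obtain ⟨_, hsup⟩ := c.normal_sup (Cfsg.generalizedFittingSubgroup G) hFs
  rw [sup_comm]; exact hsup

end Cfsg.Agent.Lib.helper15.Sid
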