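import Mathlib
import Cfsg.Agent.Lib.helper15.Sidki3
import Cfsg.Agent.Lib.helper15.SubnSyl
import Cfsg.Prelude.Def_Local

set_option autoImplicit false
set_option linter.style.haveILetI false

namespace Cfsg.Agent.Lib.helper15.Tight

open Subgroup Cfsg.Agent.Lib.helper15.Sid Cfsg.Agent.Lib.helper15

variable {G : Type*} [Group G]

/-- `A ⊓ B` has no nontrivial 2-elements. -/
def NoTwo (A B : Subgroup G) : Prop :=
  ∀ u, u ∈ A → u ∈ B → (∃ k : ℕ, u ^ 2 ^ k = 1) → u = 1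

/-- A nontrivial 2-element of `Q` lying in a conjugate of `Q` forces the conjugating element
to normalize `Q`. -/
def TEN (Q : Subgroup G) : Prop :=
  ∀ w u, u ∈ Q → u ≠ 1 → (∃ k : ℕ, u ^ 2 ^ k = 1) → w⁻¹ * u * w ∈ Q →
    w ∈ normalizer (Q : Set G)

theorem NoTwo.symm {A B : Subgroup G} (h : NoTwo A B) : NoTwo B A :=
  fun u hb ha h2 => h u ha hb h2

theorem two_elt {T : Subgroup G} (hT : IsPGroup 2 T) {u : G} (hu : u ∈ T) :
    ∃ k : ℕ, u ^ 2 ^ k = 1 := by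
  obtain ⟨k, hk⟩ := hT ⟨u, hu⟩
  exact ⟨k, by simpa using congrArg Subtype.val hk⟩

theorem eq_one_of_odd [Finite G] {K : Subgroup G} (hK : Odd (Nat.card K)) {u : G} (hu : u ∈ K)
    (h2 : ∃ k : ℕ, u ^ 2 ^ k = 1) : u = 1 := by
  obtain ⟨k, hk⟩ := h2
  have h1 : orderOf u ∣ 2 ^ k := orderOf_dvd_of_pow_eq_one hk
  have h2 : orderOf u ∣ Nat.card K := Subgroup.orderOf_dvd_natCard K hu
  have h3 : Nat.Coprime (2 ^ k) (Nat.card K) := by
    apply Nat.Coprime.pow_left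
    rw [Nat.coprime_two_left]
    exact hK
  have h4 : orderOf u = 1 := Nat.eq_one_of_dvd_coprimes h3 h1 h2
  exact orderOf_eq_one_iff.mp h4

theorem noTwo_of_te [Finite G] {Q : Subgroup G} (hQ : Cfsg.IsTightlyEmbedded Q) {g : G}
    (hg : g ∉ normalizer (Q : Set G)) : NoTwo Q (cj g Q) := by
  intro u hu1 hu2 h2
  exact eq_one_of_odd (hQ.2 g hg) (Subgroup.mem_inf.mpr ⟨hu1, hu2⟩) h2

theorem ten_of_te [Finite G] {Q : Subgroup G} (hQ : Cfsg.IsTightlyEmbedded Q) : TEN Q := by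
  intro w u hu hu1 h2 hw
  by_contra hn
  exact hu1 (noTwo_of_te hQ hn u hu (mem_cj.mpr hw) h2)

theorem ten_cj {Q : Subgroup G} (hQ : TEN Q) (g : G) : TEN (cj g Q) := by
  intro w u hu hu1 h2 hw
  rw [mem_cj] at hu hw
  have h1 : g⁻¹ * w * g ∈ normalizer (Q : Set G) := by
    apply hQ (g⁻¹ * w * g) (g⁻¹ * u * g) hu
    · intro h
      apply hu1
      have e : u = g * (g⁻¹ * u * g) * g⁻¹ := by group
      rw [e, h]; group
    · obtain ⟨k, hk⟩ := h2
      refine ⟨k, ?_⟩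
      have e : (g⁻¹ * u * g) ^ 2 ^ k = g⁻¹ * u ^ 2 ^ k * g := by
        have := conj_pow (a := g⁻¹) (b := u) (i := 2 ^ k)
        simpa using this
      rw [e, hk]; group
    · have e : (g⁻¹ * w * g)⁻¹ * (g⁻¹ * u * g) * (g⁻¹ * w * g) = g⁻¹ * (w⁻¹ * u * w) * g := by
        group
      rw [e]; exact hw
  rw [← cj_eq_iff] at h1 ⊢
  rw [← cj_mul]
  have e : w * g = g * (g⁻¹ * w * g) := by group
  rw [e, cj_mul, h1]

theorem card_cj [Finite G] (w : G) (T : Subgroup G) : Nat.card (cj w T) = Nat.card T := by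
  unfold cj
  exact Subgroup.card_map_of_injective (MulAut.conj w).injective

section EL

variable [Finite G] {Q₁ Q₂ T S : Subgroup G}

theorem el_inf (h12 : NoTwo Q₁ Q₂) (hTp : IsPGroup 2 T) (hTQ : T ≤ Q₂) : T ⊓ Q₁ = ⊥ := by
  rw [eq_bot_iff]
  intro u hu
  rw [Subgroup.mem_inf] at hu
  rw [Subgroup.mem_bot]
  exact h12 u hu.2 (hTQ hu.1) (two_elt hTp hu.1)

theorem el_comm (h12 : NoTwo Q₁ Q₂) (hTp : IsPGroup 2 T) (hTQ : T ≤ Q₂)
    (hTN : T ≤ normalizer (Q₁ : Set G)) {t r : G} (ht : t ∈ T)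
    (hr : r ∈ S ⊓ normalizer (T : Set G) ⊓ Q₁) : t * r = r * t := by
  have hr' := hr
  rw [Subgroup.mem_inf, Subgroup.mem_inf] at hr'
  obtain ⟨⟨hrS, hrN⟩, hrQ⟩ := hr'
  have h1 : t * r * t⁻¹ * r⁻¹ ∈ T := by
    have h : r * t⁻¹ * r⁻¹ ∈ T := (mem_normalizer_iff.mp hrN t⁻¹).mp (inv_mem ht)
    have e : t * r * t⁻¹ * r⁻¹ = t * (r * t⁻¹ * r⁻¹) := by group
    rw [e]; exact mul_mem ht h
  have h2 : t * r * t⁻¹ * r⁻¹ ∈ Q₁ := by
    have h : t * r * t⁻¹ ∈ Q₁ := (mem_normalizer_iff.mp (hTN ht) r).mp hrQ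
    exact mul_mem h (inv_mem hrQ)
  have h3 : t * r * t⁻¹ * r⁻¹ = 1 := h12 _ h2 (hTQ h1) (two_elt hTp h1)
  calc t * r = (t * r * t⁻¹ * r⁻¹) * (r * t) := by group
    _ = r * t := by rw [h3, one_mul]

theorem el_sup (hTN : T ≤ normalizer (Q₁ : Set G)) (hTS : T ≤ S) (hS : S ≤ Q₁ ⊔ T) :
    T ⊔ (S ⊓ normalizer (T : Set G) ⊓ Q₁) = S ⊓ normalizer (T : Set G) := by
  apply le_antisymm
  · exact sup_le (le_inf hTS le_normalizer) inf_le_left
  · intro s hs
    rw [Subgroup.mem_inf] at hs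
    obtain ⟨q, hq, t, ht, rfl⟩ := exists_mul_of_mem_sup Q₁ T hTN (hS hs.1)
    have hqS : q ∈ S := by
      have e : q = q * t * t⁻¹ := by group
      rw [e]; exact mul_mem hs.1 (inv_mem (hTS ht))
    have hqN : q ∈ normalizer (T : Set G) := by
      have e : q = q * t * t⁻¹ := by group
      rw [e]; exact mul_mem hs.2 (inv_mem (le_normalizer ht))
    exact mul_mem (mem_sup_right (Subgroup.mem_inf.mpr ⟨Subgroup.mem_inf.mpr ⟨hqS, hqN⟩, hq⟩))
      (mem_sup_left ht)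

theorem el_embed (h12 : NoTwo Q₁ Q₂) (hN2 : TEN Q₂) (hTp : IsPGroup 2 T) (hTQ : T ≤ Q₂)
    (hTN : T ≤ normalizer (Q₁ : Set G)) (hSp : IsPGroup 2 S) (hTS : T ≤ S) (hS : S ≤ Q₁ ⊔ T)
    (hne : S ⊓ normalizer (T : Set G) ≠ S) :
    ∃ f : T →* ↥(S ⊓ normalizer (T : Set G) ⊓ Q₁), Function.Injective f := by
  obtain ⟨w, hwS, hwN, hwT⟩ : ∃ w ∈ S, (∀ x ∈ S ⊓ normalizer (T : Set G),
      w * x * w⁻¹ ∈ S ⊓ normalizer (T : Set G)) ∧ w ∉ normalizer (T : Set G) := by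
    haveI : Group.IsNilpotent S := hSp.isNilpotent
    have hlt : (S ⊓ normalizer (T : Set G)).subgroupOf S < ⊤ := by
      rw [lt_top_iff_ne_top]
      intro h
      rw [Subgroup.subgroupOf_eq_top] at h
      exact hne (le_antisymm inf_le_left h)
    have hnc := Group.normalizerCondition_of_isNilpotent (G := S) _ hlt
    obtain ⟨w, hw1, hw2⟩ := SetLike.exists_of_lt hnc
    refine ⟨w, w.2, ?_, ?_⟩
    · intro x hx
      have hxS : x ∈ S := (Subgroup.mem_inf.mp hx).1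
      have h := (mem_normalizer_iff.mp hw1 ⟨x, hxS⟩).mp (Subgroup.mem_subgroupOf.mpr hx)
      exact Subgroup.mem_subgroupOf.mp h
    · intro h
      exact hw2 (Subgroup.mem_subgroupOf.mpr (Subgroup.mem_inf.mpr ⟨w.2, h⟩))
  have hinf := el_inf h12 hTp hTQ
  have hsup := el_sup hTN hTS hS
  have hRN : S ⊓ normalizer (T : Set G) ⊓ Q₁ ≤ normalizer (T : Set G) :=
    inf_le_left.trans inf_le_right
  have hA : ∀ u ∈ T, u ≠ 1 → w⁻¹ * u * w ∉ T := by
    intro u hu hu1 hwu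
    have hwQ : w ∈ normalizer (Q₂ : Set G) :=
      hN2 w u (hTQ hu) hu1 (two_elt hTp hu) (hTQ hwu)
    have hall : ∀ t ∈ T, w * t * w⁻¹ ∈ T := by
      intro t ht
      have h1 : w * t * w⁻¹ ∈ T ⊔ (S ⊓ normalizer (T : Set G) ⊓ Q₁) := by
        rw [hsup]; exact hwN t (Subgroup.mem_inf.mpr ⟨hTS ht, le_normalizer ht⟩)
      obtain ⟨t', ht', r, hr, e⟩ := exists_mul_of_mem_sup T _ hRN h1
      have hrQ2 : r ∈ Q₂ := by
        have e' : r = t'⁻¹ * (w * t * w⁻¹) := by rw [e]; group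
        rw [e']
        exact mul_mem (inv_mem (hTQ ht')) ((mem_normalizer_iff.mp hwQ t).mp (hTQ ht))
      have hr1 : r = 1 := h12 r (Subgroup.mem_inf.mp hr).2 hrQ2
        (two_elt hSp (Subgroup.mem_inf.mp (Subgroup.mem_inf.mp hr).1).1)
      rw [e, hr1, mul_one]; exact ht'
    apply hwT
    rw [← cj_eq_iff]
    have hle : cj w T ≤ T := by
      intro y hy
      rw [mem_cj] at hy
      have h := hall _ hy
      have e : w * (w⁻¹ * y * w) * w⁻¹ = y := by group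
      rw [e] at h; exact h
    exact Subgroup.eq_of_le_of_card_ge hle (card_cj w T).ge
  have comm : ∀ (t : T) (r : ↥(S ⊓ normalizer (T : Set G) ⊓ Q₁)),
      Commute (T.subtype t) ((S ⊓ normalizer (T : Set G) ⊓ Q₁).subtype r) :=
    fun t r => el_comm h12 hTp hTQ hTN t.2 r.2
  have hφinj : Function.Injective
      (MonoidHom.noncommCoprod T.subtype (S ⊓ normalizer (T : Set G) ⊓ Q₁).subtype comm) := by
    rw [MonoidHom.noncommCoprod_injective]
    refine ⟨Subgroup.subtype_injective _, Subgroup.subtype_injective _, ?_⟩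
    rw [Subgroup.range_subtype, Subgroup.range_subtype, disjoint_iff, eq_bot_iff]
    intro x hx
    rw [Subgroup.mem_inf] at hx
    rw [← hinf]
    exact Subgroup.mem_inf.mpr ⟨hx.1, (Subgroup.mem_inf.mp hx.2).2⟩
  have hφrange : (MonoidHom.noncommCoprod T.subtype
      (S ⊓ normalizer (T : Set G) ⊓ Q₁).subtype comm).range = S ⊓ normalizer (T : Set G) := by
    rw [MonoidHom.noncommCoprod_range, Subgroup.range_subtype, Subgroup.range_subtype, hsup]
  have hc : ∀ t : T, ((MulAut.conj w).toMonoidHom.comp T.subtype) t ∈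
      (MonoidHom.noncommCoprod T.subtype
        (S ⊓ normalizer (T : Set G) ⊓ Q₁).subtype comm).range := by
    intro t
    rw [hφrange]
    exact hwN t (Subgroup.mem_inf.mpr ⟨hTS t.2, le_normalizer t.2⟩)
  refine ⟨(MonoidHom.snd T _).comp ((MonoidHom.ofInjective hφinj).symm.toMonoidHom.comp
      (((MulAut.conj w).toMonoidHom.comp T.subtype).codRestrict _ hc)), ?_⟩
  rw [injective_iff_map_eq_one]
  intro t ht
  have key := MonoidHom.apply_ofInjective_symm hφinj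
    ⟨((MulAut.conj w).toMonoidHom.comp T.subtype) t, hc t⟩
  rw [MonoidHom.noncommCoprod_apply] at key
  have ht' : ((MonoidHom.ofInjective hφinj).symm
      ⟨((MulAut.conj w).toMonoidHom.comp T.subtype) t, hc t⟩).2 = 1 := ht
  rw [ht', map_one, mul_one] at key
  have h1 : w * (t : G) * w⁻¹ ∈ T := by
    have h := (((MonoidHom.ofInjective hφinj).symm
      ⟨((MulAut.conj w).toMonoidHom.comp T.subtype) t, hc t⟩).1).2
    have key' : (((MonoidHom.ofInjective hφinj).symm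
      ⟨((MulAut.conj w).toMonoidHom.comp T.subtype) t, hc t⟩).1 : G) = w * (t : G) * w⁻¹ := key
    rw [key'] at h; exact h
  by_contra hne1
  apply hA (w * (t : G) * w⁻¹) h1
  · intro h
    apply hne1
    have e : (t : G) = w⁻¹ * (w * (t : G) * w⁻¹) * w := by group
    apply Subtype.ext
    rw [e, h]; simp
  · have e : w⁻¹ * (w * (t : G) * w⁻¹) * w = t := by group
    rw [e]; exact t.2

end EL

section Syl

variable [Finite G]

theorem card_le_of_odd_relIndex {T H Y : Subgroup G} (hT : T ≤ H) (hodd : ¬ 2 ∣ T.relIndex H)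
    (hTp : IsPGroup 2 T) (hY : Y ≤ H) (hYp : IsPGroup 2 Y) : Nat.card Y ≤ Nat.card T := by
  have h1 := Cfsg.Agent.Lib.helper15.card_eq_relIndex_mul hT
  have h2 : Nat.card Y ∣ Nat.card H := Subgroup.card_dvd_of_le hY
  obtain ⟨a, ha⟩ := hYp.exists_card_eq
  rw [h1, ha] at h2
  have hcop : Nat.Coprime (2 ^ a) (T.relIndex H) := by
    apply Nat.Coprime.pow_left
    exact (Nat.Prime.coprime_iff_not_dvd Nat.prime_two).mpr hodd
  have h3 : 2 ^ a ∣ Nat.card T := hcop.dvd_of_dvd_mul_left h2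
  rw [ha]
  exact Nat.le_of_dvd Nat.card_pos h3

theorem eq_of_odd_relIndex {T H Y : Subgroup G} (hT : T ≤ H) (hodd : ¬ 2 ∣ T.relIndex H)
    (hTp : IsPGroup 2 T) (hTY : T ≤ Y) (hY : Y ≤ H) (hYp : IsPGroup 2 Y) : Y = T :=
  (Subgroup.eq_of_le_of_card_ge hTY (card_le_of_odd_relIndex hT hodd hTp hY hYp)).symm

theorem exists_syl_ge {p : ℕ} [Fact p.Prime] {A H : Subgroup G} (hA : IsPGroup p A)
    (hAH : A ≤ H) :
    ∃ S' : Subgroup G, IsPGroup p S' ∧ A ≤ S' ∧ S' ≤ H ∧ ¬ p ∣ S'.relIndex H := by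
  have h1 : IsPGroup p ↥(A.subgroupOf H) := hA.comap_subtype
  obtain ⟨P, hP⟩ := h1.exists_le_sylow
  refine ⟨(P : Subgroup ↥H).map H.subtype, P.isPGroup'.map _, ?_, Subgroup.map_subtype_le _, ?_⟩
  · intro a ha
    exact ⟨⟨a, hAH ha⟩, hP (Subgroup.mem_subgroupOf.mpr ha), rfl⟩
  · have e : ((P : Subgroup ↥H).map H.subtype).subgroupOf H = (P : Subgroup ↥H) :=
      Subgroup.comap_map_eq_self_of_injective (Subgroup.subtype_injective H) _
    unfold Subgroup.relIndex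
    rw [e]
    exact P.not_dvd_index

theorem exists_iso_of_syl {p : ℕ} [Fact p.Prime] {H A B : Subgroup G} (hA : A ≤ H)
    (hB : B ≤ H) (hAp : IsPGroup p A) (hBp : IsPGroup p B) (hAi : ¬ p ∣ A.relIndex H)
    (hBi : ¬ p ∣ B.relIndex H) : Nonempty (A ≃* B) := by
  have h1 : IsPGroup p ↥(A.subgroupOf H) := hAp.comap_subtype
  have h2 : IsPGroup p ↥(B.subgroupOf H) := hBp.comap_subtype
  have e := Sylow.equiv (h1.toSylow hAi) (h2.toSylow hBi)
  exact ⟨((Subgroup.subgroupOfEquivOfLe hA).symm.trans e).trans (Subgroup.subgroupOfEquivOfLe hB)⟩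

theorem odd_relIndex_inf {S Q T : Subgroup G} (hTN : T ≤ normalizer (Q : Set G)) (hTS : T ≤ S)
    (hS : S ≤ Q ⊔ T) (hodd : ¬ 2 ∣ S.relIndex (Q ⊔ T)) : ¬ 2 ∣ (S ⊓ Q).relIndex Q := by
  have hSN : S ≤ normalizer (Q : Set G) := hS.trans (sup_le le_normalizer hTN)
  have e : S ⊔ Q = Q ⊔ T :=
    le_antisymm (sup_le hS le_sup_left) (sup_le le_sup_right (hTS.trans le_sup_left))
  rw [Subgroup.inf_relIndex_right, ← relIndex_sup_of_le_normalizer S Q hSN, e]
  exact hodd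

end Syl

section Main

variable [Finite G]

theorem card_R_le {Q : Subgroup G} (hQ : TEN Q) (g : G) (h12 : NoTwo Q (cj g Q))
    {T : Subgroup G} (hT1 : T ≠ ⊥) (hTQ : T ≤ cj g Q) (hTN : T ≤ normalizer (Q : Set G))
    (hTp : IsPGroup 2 T) (hTodd : ¬ 2 ∣ T.relIndex (cj g Q ⊓ normalizer (Q : Set G)))
    {S : Subgroup G} (hSp : IsPGroup 2 S) (hTS : T ≤ S) :
    Nat.card ↥(S ⊓ normalizer (T : Set G) ⊓ Q) ≤ Nat.card T := by
  by_cases hR : S ⊓ normalizer (T : Set G) ⊓ Q = ⊥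
  · rw [hR, Subgroup.card_bot]; exact Nat.card_pos
  obtain ⟨u, hu, hu1⟩ := exists_ne_one_of_ne_bot hT1
  obtain ⟨v, hv, hv1⟩ := exists_ne_one_of_ne_bot hR
  have hRp : IsPGroup 2 ↥(S ⊓ normalizer (T : Set G) ⊓ Q) :=
    hSp.to_le (inf_le_left.trans inf_le_left)
  have hRQ : S ⊓ normalizer (T : Set G) ⊓ Q ≤ Q := inf_le_right
  have hcomm : ∀ t ∈ T, ∀ r ∈ S ⊓ normalizer (T : Set G) ⊓ Q, t * r = r * t :=
    fun t ht r hr => el_comm h12 hTp hTQ hTN ht hr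
  have hRN2 : S ⊓ normalizer (T : Set G) ⊓ Q ≤ normalizer ((cj g Q : Subgroup G) : Set G) := by
    intro r hr
    apply ten_cj hQ g r u (hTQ hu) hu1 (two_elt hTp hu)
    have e : r⁻¹ * u * r = u := by
      rw [mul_assoc, hcomm u hu r hr]; group
    rw [e]; exact hTQ hu
  have hTRp : IsPGroup 2 ↥(T ⊔ (S ⊓ normalizer (T : Set G) ⊓ Q)) :=
    hSp.to_le (sup_le hTS (inf_le_left.trans inf_le_left))
  obtain ⟨S', hS'p, hTRS', hS'le, hS'odd⟩ := exists_syl_ge hTRp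
    (sup_le (hTQ.trans le_sup_left) le_sup_right :
      T ⊔ (S ⊓ normalizer (T : Set G) ⊓ Q) ≤ cj g Q ⊔ (S ⊓ normalizer (T : Set G) ⊓ Q))
  have hTS' : T ≤ S' := le_sup_left.trans hTRS'
  have hRS' : S ⊓ normalizer (T : Set G) ⊓ Q ≤ S' := le_sup_right.trans hTRS'
  have hcomm2 : ∀ r ∈ S ⊓ normalizer (T : Set G) ⊓ Q,
      ∀ x ∈ S' ⊓ normalizer ((S ⊓ normalizer (T : Set G) ⊓ Q : Subgroup G) : Set G) ⊓ cj g Q,
      r * x = x * r :=
    fun r hr x hx => el_comm h12.symm hRp hRQ hRN2 hr hx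
  have hR''N : S' ⊓ normalizer ((S ⊓ normalizer (T : Set G) ⊓ Q : Subgroup G) : Set G) ⊓ cj g Q
      ≤ cj g Q ⊓ normalizer (Q : Set G) := by
    intro x hx
    refine Subgroup.mem_inf.mpr ⟨(Subgroup.mem_inf.mp hx).2, ?_⟩
    apply hQ x v (hRQ hv) hv1 (two_elt hRp hv)
    have e : x⁻¹ * v * x = v := by
      rw [mul_assoc, hcomm2 v hv x hx]; group
    rw [e]; exact hRQ hv
  have hTR'' : T ≤
      S' ⊓ normalizer ((S ⊓ normalizer (T : Set G) ⊓ Q : Subgroup G) : Set G) ⊓ cj g Q := by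
    refine le_inf (le_inf hTS' ?_) hTQ
    refine le_trans ?_ (Subgroup.centralizer_le_normalizer _)
    intro t ht
    rw [Subgroup.mem_centralizer_iff]
    intro r hr
    exact (hcomm t ht r hr).symm
  have hR''p : IsPGroup 2
      ↥(S' ⊓ normalizer ((S ⊓ normalizer (T : Set G) ⊓ Q : Subgroup G) : Set G) ⊓ cj g Q) :=
    hS'p.to_le (inf_le_left.trans inf_le_left)
  have hR''T := eq_of_odd_relIndex (le_inf hTQ hTN) hTodd hTp hTR'' hR''N hR''p
  by_cases hcase :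
      S' ⊓ normalizer ((S ⊓ normalizer (T : Set G) ⊓ Q : Subgroup G) : Set G) = S'
  · rw [hcase] at hR''T
    have hodd2 : ¬ 2 ∣ (S' ⊓ cj g Q).relIndex (cj g Q) :=
      odd_relIndex_inf hRN2 hRS' hS'le hS'odd
    rw [hR''T] at hodd2
    have hle2 : cj g (S ⊓ normalizer (T : Set G) ⊓ Q) ≤ cj g Q := Subgroup.map_mono hRQ
    have hp2 : IsPGroup 2 ↥(cj g (S ⊓ normalizer (T : Set G) ⊓ Q)) := hRp.map _
    have h := card_le_of_odd_relIndex hTQ hodd2 hTp hle2 hp2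
    rw [card_cj] at h; exact h
  · obtain ⟨f, hf⟩ := el_embed h12.symm hQ hRp hRQ hRN2 hS'p hRS' hS'le hcase
    have h := Nat.card_le_card_of_injective f hf
    have e := congrArg (fun X : Subgroup G => Nat.card X) hR''T
    exact h.trans e.le

theorem main {Q : Subgroup G} (hQ : Cfsg.IsTightlyEmbedded Q)
    (g : G) (hg : g ∉ Subgroup.normalizer (Q : Set G))
    (T : Subgroup G) (hT1 : T ≠ ⊥) (hT : T ≤ cj g Q ⊓ Subgroup.normalizer (Q : Set G))
    (hTsyl : IsPGroup 2 T ∧ ¬ 2 ∣ T.relIndex (cj g Q ⊓ Subgroup.normalizer (Q : Set G)))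
    (S : Subgroup G) (hTS : T ≤ S) (hS : S ≤ Q ⊔ T)
    (hSsyl : IsPGroup 2 S ∧ ¬ 2 ∣ S.relIndex (Q ⊔ T)) :
    T ⊓ Q = ⊥ ∧
      T ⊓ (S ⊓ Subgroup.normalizer (T : Set G) ⊓ Q) = ⊥ ∧
      ⁅T, S ⊓ Subgroup.normalizer (T : Set G) ⊓ Q⁆ = ⊥ ∧
      T ⊔ (S ⊓ Subgroup.normalizer (T : Set G) ⊓ Q) = S ⊓ Subgroup.normalizer (T : Set G) ∧
      Nonempty (↥(S ⊓ Subgroup.normalizer (T : Set G) ⊓ Q) ≃* T) := by
  have hten := ten_of_te hQ
  have h12 := noTwo_of_te hQ hg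
  have hTQ : T ≤ cj g Q := hT.trans inf_le_left
  have hTN : T ≤ normalizer (Q : Set G) := hT.trans inf_le_right
  obtain ⟨hTp, hTodd⟩ := hTsyl
  obtain ⟨hSp, hSodd⟩ := hSsyl
  have hinf := el_inf h12 hTp hTQ
  have hsup := el_sup (S := S) hTN hTS hS
  have hcomm : ∀ t ∈ T, ∀ r ∈ S ⊓ normalizer (T : Set G) ⊓ Q, t * r = r * t :=
    fun t ht r hr => el_comm h12 hTp hTQ hTN ht hr
  have hle := card_R_le hten g h12 hT1 hTQ hTN hTp hTodd hSp hTS
  refine ⟨hinf, ?_, ?_, hsup, ?_⟩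
  · rw [eq_bot_iff, ← hinf]
    exact inf_le_inf_left T inf_le_right
  · rw [Subgroup.commutator_eq_bot_iff_le_centralizer]
    intro t ht
    rw [Subgroup.mem_centralizer_iff]
    intro r hr
    exact (hcomm t ht r hr).symm
  · by_cases hcase : S ⊓ normalizer (T : Set G) = S
    · have hRp : IsPGroup 2 ↥(S ⊓ normalizer (T : Set G) ⊓ Q) :=
        hSp.to_le (inf_le_left.trans inf_le_left)
      have hRodd : ¬ 2 ∣ (S ⊓ normalizer (T : Set G) ⊓ Q).relIndex Q := by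
        rw [hcase]; exact odd_relIndex_inf hTN hTS hS hSodd
      have h1 : ¬ 2 ∣ (cj g (S ⊓ normalizer (T : Set G) ⊓ Q)).relIndex (cj g Q) := by
        unfold cj
        rw [Subgroup.relIndex_map_map_of_injective _ _ (MulAut.conj g).injective]
        exact hRodd
      have h2 : cj g (S ⊓ normalizer (T : Set G) ⊓ Q) ≤ cj g Q := Subgroup.map_mono inf_le_right
      have h3 : IsPGroup 2 ↥(cj g (S ⊓ normalizer (T : Set G) ⊓ Q)) := hRp.map _
      have h4 : Nat.card T ≤ Nat.card ↥(cj g (S ⊓ normalizer (T : Set G) ⊓ Q)) :=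
        card_le_of_odd_relIndex h2 h1 h3 hTQ hTp
      have h5 : Nat.card T = Nat.card ↥(cj g (S ⊓ normalizer (T : Set G) ⊓ Q)) := by
        apply le_antisymm h4
        rw [card_cj]; exact hle
      have h6 : ¬ 2 ∣ T.relIndex (cj g Q) := by
        have a := Cfsg.Agent.Lib.helper15.card_eq_relIndex_mul hTQ
        have b := Cfsg.Agent.Lib.helper15.card_eq_relIndex_mul h2
        rw [a, h5] at b
        have e : T.relIndex (cj g Q) =
            (cj g (S ⊓ normalizer (T : Set G) ⊓ Q)).relIndex (cj g Q) :=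
          Nat.eq_of_mul_eq_mul_right Nat.card_pos b
        rw [e]; exact h1
      obtain ⟨e⟩ := exists_iso_of_syl h2 hTQ h3 hTp h1 h6
      exact ⟨(Subgroup.equivMapOfInjective _ (MulAut.conj g).toMonoidHom
        (MulAut.conj g).injective).trans e⟩
    · obtain ⟨f, hf⟩ := el_embed h12 (ten_cj hten g) hTp hTQ hTN hSp hTS hS hcase
      have hbij : Function.Bijective f := hf.bijective_of_nat_card_le hle
      exact ⟨(MulEquiv.ofBijective f hbij).symm⟩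

end Main

end Cfsg.Agent.Lib.helper15.Tight
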